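import Cfsg.Agent.GroupStructure3.RankFourL32.Seven

/-!
# Radicals whose squares are fixed by the element of order seven
-/

set_option autoImplicit false
set_option linter.all false

namespace Cfsg.Agent.GroupStructure3.RankFourL32

open Subgroup
open scoped commutatorElement

universe u

variable {X : Type u} [Group X] [Finite X] {π : X →* Q}

/-- The kernel is the product of an elementary group of order 8 and a cyclic group. -/
structure Split (π : X →* Q) (W : Subgroup X) (t : X) (k : ℕ) : Prop where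
  leW : W ≤ π.ker
  cardW : Nat.card W = 8
  sqW : ∀ w ∈ W, w * w = 1
  mem : t ∈ π.ker
  order : orderOf t = 2 ^ k
  comm : ∀ a ∈ π.ker, ∀ b ∈ π.ker, a * b = b * a
  gen : ∀ p ∈ π.ker, ∃ w ∈ W, ∃ n : ℕ, p = w * t ^ n
  disj : ∀ n : ℕ, t ^ n ∈ W → t ^ n = 1

/-- The kernel is elementary of order 8 or 16. -/
def Elem (π : X →* Q) : Prop :=
  (∀ a ∈ π.ker, ∀ b ∈ π.ker, a * b = b * a) ∧ (∀ a ∈ π.ker, a * a = 1) ∧
    (Nat.card π.ker = 8 ∨ Nat.card π.ker = 16)

/-- The possible kernels. -/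
def Shape (π : X →* Q) : Prop := Elem π ∨ ∃ W t, Split π W t 2

theorem Split.card {W : Subgroup X} {t : X} {k : ℕ} (h : Split π W t k) :
    Nat.card π.ker = 8 * 2 ^ k := by
  rw [← h.cardW, ← h.order, ← Nat.card_zpowers, ← Nat.card_prod]
  refine (Nat.card_congr (Equiv.ofBijective (fun p : W × zpowers t => (⟨(p.1 : X) * (p.2 : X),
    mul_mem (h.leW p.1.2) (zpowers_le.2 h.mem p.2.2)⟩ : π.ker)) ⟨?_, ?_⟩)).symm
  · rintro ⟨⟨a, ha⟩, ⟨b, hb⟩⟩ ⟨⟨c, hc⟩, ⟨d, hd⟩⟩ he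
    have he' : a * b = c * d := congrArg Subtype.val he
    have e2 : c⁻¹ * a = d * b⁻¹ := by
      rw [inv_mul_eq_iff_eq_mul, ← mul_assoc, ← he', mul_inv_cancel_right]
    obtain ⟨n, hn⟩ := Submonoid.mem_powers_iff _ _ |>.1
      (mem_powers_iff_mem_zpowers.2 (mul_mem hd (inv_mem hb) : d * b⁻¹ ∈ zpowers t))
    have h1 : d * b⁻¹ = 1 := by
      rw [← hn]; exact h.disj n (hn ▸ e2 ▸ mul_mem (inv_mem hc) ha)
    rw [h1, inv_mul_eq_one] at e2
    rw [mul_inv_eq_one] at h1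
    subst e2; subst h1; rfl
  · rintro ⟨p, hp⟩
    obtain ⟨w, hw, n, rfl⟩ := h.gen p hp
    exact ⟨⟨⟨w, hw⟩, ⟨t ^ n, pow_mem (mem_zpowers t) n⟩⟩, rfl⟩

theorem Split.Sq_eq {W : Subgroup X} {t : X} {k : ℕ} (h : Split π W t k) : Sq π = zpowers (t * t) := by
  refine le_antisymm ((closure_le _).2 ?_) (zpowers_le.2 (sq_mem_Sq h.mem))
  rintro _ ⟨p, hp, rfl⟩
  obtain ⟨w, hw, n, rfl⟩ := h.gen p hp
  have : w * t ^ n * (w * t ^ n) = (t * t) ^ n := by
    calc w * t ^ n * (w * t ^ n) = w * (t ^ n * w) * t ^ n := by group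
      _ = (w * w) * (t ^ n * t ^ n) := by rw [h.comm _ (pow_mem h.mem n) w (h.leW hw)]; group
      _ = _ := by rw [h.sqW w hw, one_mul, (Commute.refl t).mul_pow]
  rw [this]; exact pow_mem (mem_zpowers _) n

theorem Shape.comm (h : Shape π) : ∀ a ∈ π.ker, ∀ b ∈ π.ker, a * b = b * a := by
  rcases h with h | ⟨W, t, h⟩
  exacts [h.1, h.comm]

theorem Shape.card (h : Shape π) : Nat.card π.ker = 8 ∨ Nat.card π.ker = 16 ∨ Nat.card π.ker = 32 := by
  rcases h with h | ⟨W, t, h⟩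
  · rcases h.2.2 with e | e <;> omega
  · have := h.card; omega

theorem Shape.Sq_card (h : Shape π) : Nat.card (Sq π) = 1 ∨ Nat.card (Sq π) = 2 := by
  rcases h with h | ⟨W, t, h⟩
  · left
    rw [card_eq_one, Sq, closure_eq_bot_iff]
    rintro _ ⟨p, hp, rfl⟩
    exact h.2.1 p hp
  · right
    rw [h.Sq_eq, Nat.card_zpowers, ← pow_two, orderOf_pow, h.order]
    norm_num

/-- A commutator with an element of order 7 that is fixed by it and has square one is trivial. -/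
theorem br_fixed {G : Type*} [Group G] {y v : G} (hy7 : y ^ 7 = 1) (hfix : y * ⁅y, v⁆ = ⁅y, v⁆ * y)
    (h2 : ⁅y, v⁆ * ⁅y, v⁆ = 1) : ⁅y, v⁆ = 1 := by
  set w := ⁅y, v⁆ with hwd
  have hn : ∀ n : ℕ, y ^ n * v * (y ^ n)⁻¹ = w ^ n * v := by
    intro n
    induction n with
    | zero => simp
    | succ n ih =>
      calc y ^ (n + 1) * v * (y ^ (n + 1))⁻¹ = y * (y ^ n * v * (y ^ n)⁻¹) * y⁻¹ := by
            rw [pow_succ']; group
        _ = (y * w ^ n * y⁻¹) * (y * v * y⁻¹) := by rw [ih]; group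
        _ = w ^ n * (w * v) := by
          rw [((show Commute y w from hfix).pow_right n).eq, mul_inv_cancel_right, hwd,
            commutatorElement_def, inv_mul_cancel_right]
        _ = _ := by rw [pow_succ, mul_assoc]
  have h7 := hn 7
  rw [hy7, one_mul, inv_one, mul_one, right_eq_mul] at h7
  calc w = w * (w * w) * (w * w) * (w * w) := by rw [h2]; simp
    _ = w ^ 7 := by simp only [pow_succ, pow_zero, one_mul, mul_assoc]
    _ = 1 := h7

theorem card_layer_dvd (hD : Data π) :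
    Nat.card (π.ker.map (QuotientGroup.mk' (Sq π))) ∣ 16 := by
  haveI : Fact (Nat.Prime 2) := ⟨Nat.prime_two⟩
  have hle := GenA.SectionalRankFour.card_le_of_squares hD.rank (Sq π) π.ker Sq_le
    (by rw [normalizer_eq_top]; exact le_top) (fun p hp => sq_mem_Sq hp)
  have hk := card_ker_quot (Sq π) Sq_le
  rw [ker_quot] at hk
  rw [hk] at hle
  have h1 : Nat.card (π.ker.map (QuotientGroup.mk' (Sq π))) ≤ 2 ^ 4 :=
    Nat.le_of_mul_le_mul_right hle Nat.card_pos
  obtain ⟨j, hj⟩ := (hD.pgroup.map (QuotientGroup.mk' (Sq π))).exists_card_eq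
  rw [hj] at h1 ⊢
  exact (show (2 : ℕ) ^ j ∣ 2 ^ 4 from pow_dvd_pow 2 ((Nat.pow_le_pow_iff_right (by norm_num)).1 h1))

theorem layer_comm {a b : X ⧸ Sq π} (ha : a ∈ π.ker.map (QuotientGroup.mk' (Sq π)))
    (hb : b ∈ π.ker.map (QuotientGroup.mk' (Sq π))) : a * b = b * a := by
  obtain ⟨a, ha', rfl⟩ := ha
  obtain ⟨b, hb', rfl⟩ := hb
  rw [← commutatorElement_eq_one_iff_mul_comm, ← map_commutatorElement]
  exact (QuotientGroup.eq_one_iff _).2 (comm_mem_Sq ha' hb')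

theorem layer_sq {a : X ⧸ Sq π} (ha : a ∈ π.ker.map (QuotientGroup.mk' (Sq π))) : a * a = 1 := by
  obtain ⟨a, ha', rfl⟩ := ha
  rw [← map_mul]
  exact (QuotientGroup.eq_one_iff _).2 (sq_mem_Sq ha')

theorem layer_split (hD : Data π) {y : X} (hy : π y = qy) (hy7 : y ^ 7 = 1) :
    ∃ W : Subgroup (X ⧸ Sq π), W ≤ π.ker.map (QuotientGroup.mk' (Sq π)) ∧
      Fpf (QuotientGroup.mk' (Sq π) y) W ∧
      (∀ w ∈ W, ∃ v ∈ π.ker.map (QuotientGroup.mk' (Sq π)), ⁅QuotientGroup.mk' (Sq π) y, v⁆ = w) ∧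
      (∀ v ∈ π.ker.map (QuotientGroup.mk' (Sq π)), ⁅QuotientGroup.mk' (Sq π) y, v⁆ ∈ W) ∧
      Nat.card (π.ker.map (QuotientGroup.mk' (Sq π))) =
        8 * Nat.card ↥(π.ker.map (QuotientGroup.mk' (Sq π)) ⊓ centralizer {QuotientGroup.mk' (Sq π) y}) ∧
      Nat.card ↥(π.ker.map (QuotientGroup.mk' (Sq π)) ⊓ centralizer {QuotientGroup.mk' (Sq π) y}) ∣ 2 := by
  let q := QuotientGroup.mk' (Sq π)
  refine seven_split (by rw [← map_pow, hy7, map_one]) ?_ (fun a ha b hb => layer_comm ha hb)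
    (fun a ha => layer_sq ha) (card_layer_dvd hD) ?_
  · rintro _ ⟨p, hp, rfl⟩
    exact ⟨y * p * y⁻¹, (MonoidHom.normal_ker π).conj_mem p hp y, by simp⟩
  · obtain ⟨p, hp, hpn⟩ := hD.moved hy hy7
    refine ⟨q p, ⟨p, hp, rfl⟩, fun h => hpn ?_⟩
    rw [← commutatorElement_eq_one_iff_mul_comm, ← map_commutatorElement] at h
    exact (QuotientGroup.eq_one_iff _).1 h

/-- The kernel when the squares are central and fixed. -/
theorem fixed_structure (hD : Data π) {y : X} (hy : π y = qy) (hy7 : y ^ 7 = 1)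
    (hcen : ∀ f ∈ Sq π, ∀ p ∈ π.ker, p * f = f * p) (hfix : ∀ f ∈ Sq π, y * f = f * y)
    (hc2 : ∀ p ∈ π.ker, ∀ r ∈ π.ker, ⁅p, r⁆ * ⁅p, r⁆ = 1) :
    Elem π ∨ ∃ W t k, 2 ≤ k ∧ Split π W t k := by
  let q := QuotientGroup.mk' (Sq π)
  obtain ⟨W0, hW0V, hF, hW0ex, hW0br, hcardV, hC2⟩ := layer_split hD hy hy7
  set V := π.ker.map q with hV
  set C0 := V ⊓ centralizer {q y} with hC0
  -- commutators factor through the layer
  let β : X ⧸ Sq π → X ⧸ Sq π → X := fun a b => ⁅Quotient.out a, Quotient.out b⁆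
  have hβ : ∀ p ∈ π.ker, ∀ r ∈ π.ker, β (q p) (q r) = ⁅p, r⁆ := by
    intro p hp r hr
    obtain ⟨⟨f, hf⟩, hpf⟩ := QuotientGroup.mk_out_eq_mul (Sq π) p
    obtain ⟨⟨g, hg⟩, hrg⟩ := QuotientGroup.mk_out_eq_mul (Sq π) r
    show ⁅Quotient.out (q p), Quotient.out (q r)⁆ = _
    rw [show Quotient.out (q p) = p * f from hpf, show Quotient.out (q r) = r * g from hrg]
    have c1 : Commute f r := (hcen f hf r hr).symm
    have c2 : Commute f g := (hcen f hf g (Sq_le hg)).symm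
    have c3 : Commute g p := (hcen g hg p hp).symm
    calc ⁅p * f, r * g⁆ = p * (f * (r * g)) * f⁻¹ * p⁻¹ * g⁻¹ * r⁻¹ := by
          simp only [commutatorElement_def]; group
      _ = p * r * (g * p⁻¹) * g⁻¹ * r⁻¹ := by rw [(c1.mul_right c2).eq]; group
      _ = ⁅p, r⁆ := by rw [c3.inv_right.eq]; simp only [commutatorElement_def]; group
  have hrad : ∀ p ∈ π.ker, ∀ r ∈ π.ker, ⁅p, r⁆ ∈ Sq π := fun p hp r hr => comm_mem_Sq hp hr
  have hmr : ∀ a ∈ V, ∀ b ∈ V, ∀ c ∈ V, β a (b * c) = β a b * β a c := by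
    rintro _ ⟨a, ha, rfl⟩ _ ⟨b, hb, rfl⟩ _ ⟨c, hc, rfl⟩
    rw [← map_mul, hβ a ha _ (mul_mem hb hc), hβ a ha b hb, hβ a ha c hc]
    calc ⁅a, b * c⁆ = ⁅a, b⁆ * (b * ⁅a, c⁆ * b⁻¹) := by simp only [commutatorElement_def]; group
      _ = _ := by rw [hcen _ (hrad a ha c hc) b hb, mul_inv_cancel_right]
  have hml : ∀ a ∈ V, ∀ b ∈ V, ∀ c ∈ V, β (a * b) c = β a c * β b c := by
    rintro _ ⟨a, ha, rfl⟩ _ ⟨b, hb, rfl⟩ _ ⟨c, hc, rfl⟩
    rw [← map_mul, hβ _ (mul_mem ha hb) c hc, hβ a ha c hc, hβ b hb c hc]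
    calc ⁅a * b, c⁆ = (a * ⁅b, c⁆ * a⁻¹) * ⁅a, c⁆ := by simp only [commutatorElement_def]; group
      _ = _ := by rw [hcen _ (hrad b hb c hc) a ha, mul_inv_cancel_right,
                    hcen _ (hrad a ha c hc) _ (Sq_le (hrad b hb c hc))]
  have hm0 : ∀ a ∈ V, β a a = 1 := by
    rintro _ ⟨a, ha, rfl⟩
    rw [hβ a ha a ha, commutatorElement_self]
  have hmy : ∀ a ∈ V, ∀ b ∈ V, β (q y * a * (q y)⁻¹) (q y * b * (q y)⁻¹) = β a b := by
    rintro _ ⟨a, ha, rfl⟩ _ ⟨b, hb, rfl⟩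
    rw [← map_inv, ← map_mul, ← map_mul, ← map_mul, ← map_mul,
      hβ _ ((MonoidHom.normal_ker π).conj_mem a ha y) _ ((MonoidHom.normal_ker π).conj_mem b hb y),
      hβ a ha b hb, ← conjugate_commutatorElement, hfix _ (hrad a ha b hb), mul_inv_cancel_right]
  have hWW := hF.pairing_trivial β (fun a ha => hm0 a (hW0V ha))
    (fun a ha b hb c hc => hmr a (hW0V ha) b (hW0V hb) c (hW0V hc))
    (fun a ha b hb c hc => hml a (hW0V ha) b (hW0V hb) c (hW0V hc))
    (fun a ha b hb => hmy a (hW0V ha) b (hW0V hb))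
  have hsym : ∀ a ∈ V, ∀ b ∈ V, β a b = β b a := by
    rintro _ ⟨a, ha, rfl⟩ _ ⟨b, hb, rfl⟩
    rw [hβ a ha b hb, hβ b hb a ha, ← commutatorElement_inv a b, eq_inv_iff_mul_eq_one]
    exact hc2 a ha b hb
  have hVinv : ∀ v ∈ V, q y * v * (q y)⁻¹ ∈ V := by
    rintro _ ⟨p, hp, rfl⟩
    exact ⟨y * p * y⁻¹, (MonoidHom.normal_ker π).conj_mem p hp y, by simp⟩
  have hCW : ∀ c ∈ C0, ∀ w ∈ W0, β c w = 1 := by
    intro c hc w hw
    obtain ⟨hcV, hcy⟩ := hc
    replace hcy := mem_centralizer_singleton_iff.1 hcy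
    obtain ⟨v, hv, rfl⟩ := hW0ex w hw
    have e : β c (q y * v * (q y)⁻¹) = β c v := by
      conv_rhs => rw [← hmy c hcV v hv]
      rw [← hcy, mul_inv_cancel_right]
    rw [commutatorElement_def, hmr c hcV _ (hVinv v hv) _ (inv_mem hv), e, inv_eq_of_mul_eq_one_right (layer_sq hv)]
    obtain ⟨p, hp, rfl⟩ := hcV
    obtain ⟨r, hr, rfl⟩ := hv
    rw [hβ p hp r hr]; exact hc2 p hp r hr
  have hVdec : ∀ v ∈ V, ∃ w ∈ W0, ∃ c ∈ C0, v = w * c := by
    let f : W0 → W0 := fun w => ⟨⁅q y, (w : X ⧸ Sq π)⁆, hW0br w (hW0V w.2)⟩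
    have hf : Function.Surjective f := Finite.surjective_of_injective fun a b hab => by
      have h : ⁅q y, (a : X ⧸ Sq π)⁆ = ⁅q y, (b : X ⧸ Sq π)⁆ := congrArg Subtype.val hab
      have h1 : Commute (q y) ((b : X ⧸ Sq π)⁻¹ * a) := by
        refine mul_inv_eq_iff_eq_mul.1 ?_
        rw [commutatorElement_def, commutatorElement_def] at h
        have h2 : q y * (a : X ⧸ Sq π) * (q y)⁻¹ = (q y * b * (q y)⁻¹) * ((b : X ⧸ Sq π)⁻¹ * a) := by
          rw [← mul_assoc, ← h, inv_mul_cancel_right]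
        calc q y * ((b : X ⧸ Sq π)⁻¹ * a) * (q y)⁻¹
            = (q y * b * (q y)⁻¹)⁻¹ * (q y * a * (q y)⁻¹) := by group
          _ = _ := by rw [h2]; group
      exact Subtype.ext (inv_mul_eq_one.1 (hF.free _ (mul_mem (inv_mem b.2) a.2) h1.eq)).symm
    intro v hv
    obtain ⟨w, hw⟩ := hf ⟨⁅q y, v⁆, hW0br v hv⟩
    have hw' : ⁅q y, (w : X ⧸ Sq π)⁆ = ⁅q y, v⁆ := congrArg Subtype.val hw
    refine ⟨w, w.2, (w : X ⧸ Sq π)⁻¹ * v, mem_inf.2 ⟨mul_mem (inv_mem (hW0V w.2)) hv, mem_centralizer_singleton_iff.2 (mul_inv_eq_iff_eq_mul.1 ?_).symm⟩,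
      (mul_inv_cancel_left _ _).symm⟩
    calc q y * ((w : X ⧸ Sq π)⁻¹ * v) * (q y)⁻¹
        = (⁅q y, (w : X ⧸ Sq π)⁆ * w)⁻¹ * (⁅q y, v⁆ * v) := by simp only [commutatorElement_def]; group
      _ = _ := by rw [hw']; group
  have hCC : ∀ c ∈ C0, ∀ d ∈ C0, β c d = 1 := by
    intro c hc d hd
    have hone : ∀ a ∈ V, β a 1 = 1 ∧ β 1 a = 1 := fun a ha => by
      refine ⟨?_, ?_⟩
      · have := hmr a ha 1 (one_mem V) 1 (one_mem V)
        rw [one_mul] at this; exact left_eq_mul.1 this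
      · have := hml 1 (one_mem V) 1 (one_mem V) a ha
        rw [one_mul] at this; exact left_eq_mul.1 this
    by_cases hc1 : c = 1
    · rw [hc1]; exact (hone d hd.1).2
    by_cases hd1 : d = 1
    · rw [hd1]; exact (hone c hc.1).1
    suffices e : c = d by rw [e]; exact hm0 d hd.1
    rcases (Nat.dvd_prime Nat.prime_two).1 hC2 with h | h
    · rw [card_eq_one] at h; exact absurd (mem_bot.1 (h ▸ hc)) hc1
    · obtain ⟨z, -, -, hall⟩ := GenA.SectionalRankFour.exists_gen h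
      rw [(hall c hc).resolve_left hc1, (hall d hd).resolve_left hd1]
  have hab : ∀ p ∈ π.ker, ∀ r ∈ π.ker, p * r = r * p := by
    intro p hp r hr
    rw [← commutatorElement_eq_one_iff_mul_comm, ← hβ p hp r hr]
    obtain ⟨w, hw, c, hc, e⟩ := hVdec (q p) ⟨p, hp, rfl⟩
    obtain ⟨w', hw', c', hc', e'⟩ := hVdec (q r) ⟨r, hr, rfl⟩
    have hwV := hW0V hw
    have hwV' := hW0V hw'
    rw [e, e', hml w hwV c hc.1 _ (mul_mem hwV' hc'.1), hmr w hwV w' hwV' c' hc'.1,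
      hmr c hc.1 w' hwV' c' hc'.1, hWW w hw w' hw', hsym w hwV c' hc'.1, hCW c' hc' w hw, hCW c hc w' hw',
      hCC c hc c' hc']
    simp
  -- the structure of the abelian kernel
  have hkinv : ∀ p ∈ π.ker, y * p * y⁻¹ ∈ π.ker := fun p hp => (MonoidHom.normal_ker π).conj_mem p hp y
  have hbrk : ∀ p ∈ π.ker, ⁅y, p⁆ ∈ π.ker := fun p hp => mul_mem (hkinv p hp) (inv_mem hp)
  have hbrmul : ∀ a ∈ π.ker, ∀ b ∈ π.ker, ⁅y, a * b⁆ = ⁅y, a⁆ * ⁅y, b⁆ := fun a ha b hb => by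
    calc ⁅y, a * b⁆ = ⁅y, a⁆ * (a * ⁅y, b⁆ * a⁻¹) := by simp only [commutatorElement_def]; group
      _ = _ := by rw [hab a ha _ (hbrk b hb), mul_inv_cancel_right]
  let φ : π.ker →* π.ker :=
    { toFun := fun v => ⟨⁅y, (v : X)⁆, hbrk v v.2⟩
      map_one' := Subtype.ext (by simp [commutatorElement_def])
      map_mul' := fun a b => Subtype.ext (hbrmul a a.2 b b.2) }
  set W := φ.range.map π.ker.subtype with hW
  have hWle : W ≤ π.ker := map_subtype_le _
  have hWmem : ∀ w ∈ W, ∃ p ∈ π.ker, ⁅y, p⁆ = w := by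
    rintro _ ⟨_, ⟨v, rfl⟩, rfl⟩; exact ⟨v, v.2, rfl⟩
  have hWof : ∀ p ∈ π.ker, ⁅y, p⁆ ∈ W := fun p hp => ⟨_, ⟨⟨p, hp⟩, rfl⟩, rfl⟩
  have hWsq : ∀ w ∈ W, w * w = 1 := by
    intro w hw
    obtain ⟨p, hp, rfl⟩ := hWmem w hw
    rw [← hbrmul p hp p hp, commutatorElement_eq_one_iff_mul_comm]
    exact hfix _ (sq_mem_Sq hp)
  have hWfree : ∀ w ∈ W, y * w = w * y → w = 1 := by
    intro w hw hwy
    obtain ⟨p, hp, rfl⟩ := hWmem w hw
    exact br_fixed hy7 hwy (hWsq _ hw)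
  have hqW : ∀ w ∈ W, q w ∈ W0 := by
    intro w hw
    obtain ⟨p, hp, rfl⟩ := hWmem w hw
    rw [map_commutatorElement]; exact hW0br _ ⟨p, hp, rfl⟩
  let g : W → W0 := fun w => ⟨q w, hqW w w.2⟩
  have hg : Function.Bijective g := by
    constructor
    · intro a b h
      have h' : q (a : X) = q b := congrArg Subtype.val h
      have hm : (b : X)⁻¹ * a ∈ Sq π := QuotientGroup.eq.1 h'.symm
      exact Subtype.ext (inv_mul_eq_one.1 (hWfree _ (mul_mem (inv_mem b.2) a.2) (hfix _ hm))).symm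
    · rintro ⟨w, hw⟩
      obtain ⟨_, ⟨p, hp, rfl⟩, rfl⟩ := hW0ex w hw
      exact ⟨⟨⁅y, p⁆, hWof p hp⟩, Subtype.ext (map_commutatorElement q y p)⟩
  have hW8 : Nat.card W = 8 := by rw [Nat.card_eq_of_bijective g hg, hF.card]
  have hdec : ∀ p ∈ π.ker, ∃ w ∈ W, ∃ c ∈ π.ker, y * c = c * y ∧ p = w * c := by
    let f : W → W := fun w => ⟨⁅y, (w : X)⁆, hWof w (hWle w.2)⟩
    have hf : Function.Surjective f := Finite.surjective_of_injective fun a b hab' => by
      have h : ⁅y, (a : X)⁆ = ⁅y, (b : X)⁆ := congrArg Subtype.val hab'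
      refine Subtype.ext (inv_mul_eq_one.1 (hWfree _ (mul_mem (inv_mem b.2) a.2) ?_)).symm
      refine mul_inv_eq_iff_eq_mul.1 ?_
      calc y * ((b : X)⁻¹ * a) * y⁻¹ = (⁅y, (b : X)⁆ * b)⁻¹ * (⁅y, (a : X)⁆ * a) := by
            simp only [commutatorElement_def]; group
        _ = _ := by rw [h]; group
    intro p hp
    obtain ⟨w, hw⟩ := hf ⟨⁅y, p⁆, hWof p hp⟩
    have hw' : ⁅y, (w : X)⁆ = ⁅y, p⁆ := congrArg Subtype.val hw
    refine ⟨w, w.2, (w : X)⁻¹ * p, mul_mem (inv_mem (hWle w.2)) hp, mul_inv_eq_iff_eq_mul.1 ?_,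
      (mul_inv_cancel_left _ _).symm⟩
    calc y * ((w : X)⁻¹ * p) * y⁻¹ = (⁅y, (w : X)⁆ * w)⁻¹ * (⁅y, p⁆ * p) := by
          simp only [commutatorElement_def]; group
      _ = _ := by rw [hw']; group
  obtain ⟨t, htk, hty, htC⟩ : ∃ t ∈ π.ker, y * t = t * y ∧
      ∀ c ∈ π.ker, y * c = c * y → c ∈ Sq π ∨ t⁻¹ * c ∈ Sq π := by
    by_cases hall : ∀ c ∈ π.ker, y * c = c * y → c ∈ Sq π
    · exact ⟨1, one_mem _, by simp, fun c hc hcy => Or.inl (hall c hc hcy)⟩
    push Not at hall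
    obtain ⟨t, ht, hty, htn⟩ := hall
    refine ⟨t, ht, hty, fun c hc hcy => ?_⟩
    by_cases hcs : c ∈ Sq π
    · exact Or.inl hcs
    refine Or.inr (QuotientGroup.eq.1 ?_)
    have hm : ∀ x ∈ π.ker, y * x = x * y → q x ∈ C0 := fun x hx hxy => mem_inf.2 ⟨⟨x, hx, rfl⟩,
      mem_centralizer_singleton_iff.2 (by rw [← map_mul, ← map_mul, hxy])⟩
    rcases (Nat.dvd_prime Nat.prime_two).1 hC2 with h | h
    · exfalso
      have := hm t ht hty
      rw [card_eq_one.1 h, mem_bot] at this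
      exact htn ((QuotientGroup.eq_one_iff t).1 this)
    · obtain ⟨z, -, -, hz⟩ := GenA.SectionalRankFour.exists_gen h
      show q t = q c
      rw [(hz _ (hm t ht hty)).resolve_left fun e => htn ((QuotientGroup.eq_one_iff t).1 e),
        (hz _ (hm c hc hcy)).resolve_left fun e => hcs ((QuotientGroup.eq_one_iff c).1 e)]
  let S2 : Subgroup X :=
    { carrier := {f | ∃ g ∈ Sq π, ∃ n : ℕ, f = g * g * (t * t) ^ n}
      one_mem' := ⟨1, one_mem _, 0, by simp⟩
      mul_mem' := by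
        rintro _ _ ⟨a, ha, m, rfl⟩ ⟨b, hb, n, rfl⟩
        refine ⟨a * b, mul_mem ha hb, m + n, ?_⟩
        have c1 : Commute a b := hab a (Sq_le ha) b (Sq_le hb)
        have c2 : Commute ((t * t) ^ m) (b * b) :=
          hab _ (pow_mem (mul_mem htk htk) m) _ (mul_mem (Sq_le hb) (Sq_le hb))
        calc a * a * (t * t) ^ m * (b * b * (t * t) ^ n) = a * a * ((t * t) ^ m * (b * b)) * (t * t) ^ n := by group
          _ = a * (a * b) * b * ((t * t) ^ m * (t * t) ^ n) := by rw [c2.eq]; group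
          _ = _ := by rw [← pow_add]; nth_rewrite 1 [c1.eq]; group
      inv_mem' := by
        rintro _ ⟨a, ha, m, rfl⟩
        obtain ⟨j, hj⟩ : ∃ j, (t * t) ^ j = ((t * t) ^ m)⁻¹ := Submonoid.mem_powers_iff _ _ |>.1
          (mem_powers_iff_mem_zpowers.2 (inv_mem (pow_mem (mem_zpowers (t * t)) m)))
        refine ⟨a⁻¹, inv_mem ha, j, ?_⟩
        rw [hj, mul_inv_rev, mul_inv_rev,
          hab _ (inv_mem (pow_mem (mul_mem htk htk) m)) _ (mul_mem (inv_mem (Sq_le ha)) (inv_mem (Sq_le ha)))] }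
  have hS2 : Sq π ≤ S2 := (closure_le _).2 (by
    rintro _ ⟨p, hp, rfl⟩
    obtain ⟨w, hw, c, hc, hcy, rfl⟩ := hdec p hp
    have e : w * c * (w * c) = c * c := by
      calc w * c * (w * c) = w * (c * w) * c := by group
        _ = (w * w) * (c * c) := by rw [hab c hc w (hWle hw)]; group
        _ = _ := by rw [hWsq w hw, one_mul]
    rw [e]
    rcases htC c hc hcy with h | h
    · exact ⟨c, h, 0, by simp⟩
    · refine ⟨t⁻¹ * c, h, 1, ?_⟩
      have c1 : Commute (t⁻¹ * c) t := hab _ (Sq_le h) t htk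
      rw [pow_one]
      calc c * c = (t * (t⁻¹ * c)) * (t * (t⁻¹ * c)) := by rw [mul_inv_cancel_left]
        _ = t * ((t⁻¹ * c) * t) * (t⁻¹ * c) := by group
        _ = t * t * ((t⁻¹ * c) * (t⁻¹ * c)) := by rw [c1.eq]; group
        _ = _ := ((c1.mul_right c1).mul_left (c1.mul_right c1)).eq.symm)
  have hiter : ∀ m : ℕ, ∀ f ∈ Sq π, ∃ g ∈ Sq π, ∃ n : ℕ, f = g ^ 2 ^ m * (t * t) ^ n := by
    intro m
    induction m with
    | zero => intro f hf; exact ⟨f, hf, 0, by simp⟩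
    | succ m ih =>
      intro f hf
      obtain ⟨g, hg, n, rfl⟩ := ih f hf
      obtain ⟨g', hg', n', e⟩ := hS2 hg
      refine ⟨g', hg', n' * 2 ^ m + n, ?_⟩
      have c1 : Commute (g' * g') ((t * t) ^ n') :=
        hab _ (mul_mem (Sq_le hg') (Sq_le hg')) _ (pow_mem (mul_mem htk htk) n')
      calc g ^ 2 ^ m * (t * t) ^ n = (g' * g') ^ 2 ^ m * ((t * t) ^ n') ^ 2 ^ m * (t * t) ^ n := by
            rw [e, c1.mul_pow]
        _ = g' ^ 2 ^ (m + 1) * (t * t) ^ (n' * 2 ^ m + n) := by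
            rw [← pow_two g', ← pow_mul g', ← pow_mul (t * t), pow_add (t * t), mul_assoc,
              show 2 * 2 ^ m = 2 ^ (m + 1) by ring]
  have hSq : ∀ f ∈ Sq π, ∃ n : ℕ, f = (t * t) ^ n := by
    intro f hf
    obtain ⟨a, ha⟩ := hD.pgroup.exists_card_eq
    obtain ⟨g, hg, n, e⟩ := hiter a f hf
    have : g ^ 2 ^ a = 1 := by
      have h := congrArg Subtype.val (pow_card_eq_one' (x := (⟨g, Sq_le hg⟩ : π.ker)))
      rw [← ha]; exact h
    exact ⟨n, by rw [e, this, one_mul]⟩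
  obtain ⟨k, hk⟩ := IsPGroup.iff_orderOf.1 hD.pgroup ⟨t, htk⟩
  rw [← Subgroup.orderOf_coe] at hk
  have hS : Split π W t k := by
    refine ⟨hWle, hW8, hWsq, htk, hk, hab, fun p hp => ?_, fun n hn => ?_⟩
    · obtain ⟨w, hw, c, hc, hcy, rfl⟩ := hdec p hp
      refine ⟨w, hw, ?_⟩
      rcases htC c hc hcy with h | h
      · obtain ⟨n, e⟩ := hSq c h
        exact ⟨2 * n, by rw [pow_mul, pow_two, ← e]⟩
      · obtain ⟨n, e⟩ := hSq _ h
        refine ⟨1 + 2 * n, ?_⟩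
        rw [pow_add, pow_one, pow_mul, pow_two, ← e, mul_inv_cancel_left]
    · exact hWfree _ hn ((show Commute y t from hty).pow_right n).eq
  rcases Nat.lt_or_ge k 2 with hk2 | hk2
  · refine Or.inl ⟨hab, fun p hp => ?_, ?_⟩
    · have htt : t * t = 1 := by
        have := pow_orderOf_eq_one t
        rw [hk] at this
        interval_cases k
        · rw [pow_zero, pow_one] at this; rw [this, one_mul]
        · rwa [pow_one, pow_two] at this
      obtain ⟨n, e⟩ := hSq _ (sq_mem_Sq hp)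
      rw [e, htt, one_pow]
    · rw [hS.card]; interval_cases k <;> norm_num
  · exact Or.inr ⟨W, t, k, hk2, hS⟩

/-- Either the fixed vector is central or the complement is normal. -/
theorem four_split {G : Type*} [Group G] [Finite G] {π : G →* Q} (hs : Function.Surjective π)
    {V W : Subgroup G} [V.Normal] (hc : ∀ a ∈ V, ∀ b ∈ V, a * b = b * a) (hsq : ∀ a ∈ V, a * a = 1)
    (h16 : Nat.card V = 16) (hk : ∀ k ∈ π.ker, ∀ v ∈ V, k * v = v * k) {y t : G} (hF : Fpf y W) (hWV : W ≤ V)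
    (ht : t ∈ V) (hty : y * t = t * y) (ht1 : t ≠ 1) :
    (∀ g, g * t = t * g) ∨ W.Normal := by
  classical
  by_cases hcen : ∀ g, g * t = t * g
  · exact Or.inl hcen
  right
  have htW : t ∉ W := fun h => ht1 (hF.free t h hty)
  have hWt : ∀ v ∈ V, v ∈ W ∨ t * v ∈ W := by
    have hidx : (W.subgroupOf V).index = 2 := by
      have h := (W.subgroupOf V).card_mul_index
      rw [Nat.card_congr (subgroupOfEquivOfLe hWV).toEquiv, hF.card, h16] at h
      omega
    intro v hv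
    by_cases hvW : v ∈ W
    · exact Or.inl hvW
    · right
      have h := (Subgroup.mul_mem_iff_of_index_two hidx (a := ⟨t, ht⟩) (b := ⟨v, hv⟩)).2
        (iff_of_false (mem_subgroupOf.not.2 htW) (mem_subgroupOf.not.2 hvW))
      simpa [mem_subgroupOf] using h
  set M := centralizer ({t} : Set G) with hM
  set O : Set G := {v | ∃ g, g * t * g⁻¹ = v} with hO
  have htO : t ∈ O := ⟨1, by group⟩
  have hOinv : ∀ g v, v ∈ O → g * v * g⁻¹ ∈ O := by
    rintro g _ ⟨h, rfl⟩; exact ⟨g * h, by group⟩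
  have hOidx : O.ncard = M.index := by
    rw [Subgroup.index, ← Nat.card_coe_set_eq]
    refine (Nat.card_congr (Equiv.ofBijective
      (fun c => (⟨Quotient.liftOn' c (fun h => h * t * h⁻¹) ?_, ?_⟩ : O)) ⟨?_, ?_⟩)).symm
    · intro a b hab
      rw [QuotientGroup.leftRel_apply, mem_centralizer_singleton_iff] at hab
      show a * t * a⁻¹ = b * t * b⁻¹
      calc a * t * a⁻¹ = a * (t * (a⁻¹ * b)) * b⁻¹ := by group
        _ = b * t * b⁻¹ := by rw [← hab]; group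
    · induction c using Quotient.inductionOn' with
      | h a => exact ⟨a, rfl⟩
    · intro c c'
      induction c using Quotient.inductionOn' with
      | h a =>
        induction c' using Quotient.inductionOn' with
        | h b =>
          intro hcc
          have hcc' : a * t * a⁻¹ = b * t * b⁻¹ := congrArg Subtype.val hcc
          refine Quotient.sound' ?_
          rw [QuotientGroup.leftRel_apply, mem_centralizer_singleton_iff]
          calc a⁻¹ * b * t = a⁻¹ * (b * t * b⁻¹) * b := by group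
            _ = t * (a⁻¹ * b) := by rw [← hcc']; group
    · rintro ⟨s, h, hh⟩
      exact ⟨Quotient.mk'' h, Subtype.ext hh⟩
  have hdvd : O.ncard ∣ 168 := by
    have hkM : π.ker ≤ M := fun k hk' => mem_centralizer_singleton_iff.2 (hk k hk' t ht)
    rw [hOidx, ← index_map_eq (f := π) M hs hkM, ← card_Q]
    exact Subgroup.index_dvd_card _
  -- translates under `y` fill a coset
  have hcos : ∀ x ∈ W, x ≠ 1 → ∀ z ∈ W, z ≠ 1 → ∀ (S : Set G), (∀ g v, v ∈ S → g * v * g⁻¹ ∈ S) →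
      (x ∈ S → z ∈ S) ∧ (t * x ∈ S → t * z ∈ S) := by
    intro x hx hx1 z hz hz1 S hS
    obtain ⟨n, -, hn⟩ := hF.orbit hx hx1 hz hz1
    refine ⟨fun h => hn ▸ hS _ _ h, fun h => ?_⟩
    have h2 := hS (y ^ n) _ h
    rwa [← conj_mul, ((show Commute y t from hty).pow_left n).eq, mul_inv_cancel_right, hn] at h2
  obtain ⟨g0, hg0⟩ : ∃ g, g * t * g⁻¹ ≠ t := by
    by_contra hh
    push Not at hh
    exact hcen fun g => mul_inv_eq_iff_eq_mul.1 (hh g)
  set v0 := g0 * t * g0⁻¹ with hv0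
  have hv0O : v0 ∈ O := ⟨g0, rfl⟩
  have hv0V : v0 ∈ V := (inferInstance : V.Normal).conj_mem t ht g0
  have htmem : ∀ v ∈ O, v ∈ V := by
    rintro _ ⟨g, rfl⟩; exact (inferInstance : V.Normal).conj_mem t ht g
  have h1O : (1 : G) ∉ O := by
    rintro ⟨g, hg⟩; exact ht1 (conj_eq_one_iff.1 hg)
  -- one of the two punctured cosets avoids the class of `t`
  have hnot : (∀ x ∈ W, x ≠ 1 → x ∉ O) ∨ ∀ x ∈ W, x ≠ 1 → t * x ∉ O := by
    by_contra hcon
    push Not at hcon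
    obtain ⟨⟨x, hx, hx1, hxO⟩, ⟨z, hz, hz1, hzO⟩⟩ := hcon
    have hsub : (V : Set G) \ {1} ⊆ O := by
      rintro v ⟨hv, hv1⟩
      rcases hWt v hv with h | h
      · exact (hcos x hx hx1 v h hv1 O hOinv).1 hxO
      · by_cases hvt : t * v = 1
        · have : v = t := by
            calc v = (t * t) * v := by rw [hsq t ht, one_mul]
              _ = t := by rw [mul_assoc, hvt, mul_one]
          rw [this]; exact htO
        · have := (hcos z hz hz1 _ h hvt O hOinv).2 hzO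
          rwa [← mul_assoc, hsq t ht, one_mul] at this
    have hle : O ⊆ (V : Set G) \ {1} := fun v hv => ⟨htmem v hv, fun e => h1O (e ▸ hv)⟩
    rw [Set.Subset.antisymm hle hsub, Set.ncard_diff_singleton_of_mem (one_mem V), ← Nat.card_coe_set_eq,
      SetLike.coe_sort_coe, h16] at hdvd
    norm_num at hdvd
  -- an invariant set generating the complement
  obtain ⟨S, hSinv, hSW⟩ : ∃ S : Set G, (∀ g v, v ∈ S → g * v * g⁻¹ ∈ S) ∧
      ((∀ v, v ∈ S ↔ v ∈ W ∧ v ≠ 1) ∨ ∀ v, v ∈ S ↔ ∃ x ∈ W, x ≠ 1 ∧ v = t * x) := by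
    refine ⟨{v | v ∈ V ∧ v ≠ 1 ∧ v ∉ O}, fun g v hv => ⟨(inferInstance : V.Normal).conj_mem v hv.1 g,
      fun e => hv.2.1 (conj_eq_one_iff.1 e), fun h => hv.2.2 ?_⟩, ?_⟩
    · have := hOinv g⁻¹ _ h
      simpa [mul_assoc] using this
    have hv0t : v0 ≠ t := hg0
    rcases hWt v0 hv0V with hv0W | hv0W
    · -- the class contains the complement
      right
      have hnt := hnot.resolve_left fun h => h v0 hv0W (fun e => h1O (e ▸ hv0O)) hv0O
      intro v
      constructor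
      · rintro ⟨hv, hv1, hvO⟩
        rcases hWt v hv with h | h
        · exact absurd ((hcos v0 hv0W (fun e => h1O (e ▸ hv0O)) v h hv1 O hOinv).1 hv0O) hvO
        · refine ⟨t * v, h, fun e => hvO ?_, by rw [← mul_assoc, hsq t ht, one_mul]⟩
          have : v = t := by
            calc v = (t * t) * v := by rw [hsq t ht, one_mul]
              _ = t := by rw [mul_assoc, e, mul_one]
          rw [this]; exact htO
      · rintro ⟨x, hx, hx1, rfl⟩
        refine ⟨mul_mem ht (hWV hx), fun e => htW ?_, hnt x hx hx1⟩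
        have : t = x⁻¹ := mul_eq_one_iff_eq_inv.1 e
        rw [this]; exact inv_mem hx
    · left
      have hne : t * v0 ≠ 1 := fun e => hv0t (by
        calc v0 = (t * t) * v0 := by rw [hsq t ht, one_mul]
          _ = t := by rw [mul_assoc, e, mul_one])
      have hin : t * (t * v0) ∈ O := by rwa [← mul_assoc, hsq t ht, one_mul]
      have hnw := hnot.resolve_right fun h => h _ hv0W hne hin
      intro v
      constructor
      · rintro ⟨hv, hv1, hvO⟩
        rcases hWt v hv with h | h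
        · exact ⟨h, hv1⟩
        · exfalso; apply hvO
          by_cases hvt : t * v = 1
          · have : v = t := by
              calc v = (t * t) * v := by rw [hsq t ht, one_mul]
                _ = t := by rw [mul_assoc, hvt, mul_one]
            rw [this]; exact htO
          · have := (hcos _ hv0W hne _ h hvt O hOinv).2 hin
            rwa [← mul_assoc, hsq t ht, one_mul] at this
      · rintro ⟨hv, hv1⟩; exact ⟨hWV hv, hv1, hnw v hv hv1⟩
  have hex : ∀ x ∈ W, ∃ z ∈ W, z ≠ 1 ∧ z * x ≠ 1 := by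
    intro x hx
    by_contra hcon
    push Not at hcon
    have hsub : (W : Set G) ⊆ {1, x⁻¹} := fun z hz => by
      by_cases h : z = 1
      · exact Or.inl h
      · exact Or.inr (mul_eq_one_iff_eq_inv.1 (hcon z hz h))
    have := Set.ncard_le_ncard hsub (Set.toFinite _)
    rw [← Nat.card_coe_set_eq, SetLike.coe_sort_coe, hF.card] at this
    have := Set.ncard_insert_le (1 : G) {x⁻¹}
    rw [Set.ncard_singleton] at this
    omega
  refine ⟨fun x hx g => ?_⟩
  obtain ⟨z, hz, hz1, hzx⟩ := hex x hx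
  have e : x = z * (z * x) := by rw [← mul_assoc, hF.sq z hz, one_mul]
  rcases hSW with hS | hS
  · rw [e, conj_mul.symm]
    exact mul_mem ((hS _).1 (hSinv g _ ((hS z).2 ⟨hz, hz1⟩))).1
      ((hS _).1 (hSinv g _ ((hS (z * x)).2 ⟨mul_mem hz hx, hzx⟩))).1
  · have e2 : x = (t * z) * (t * (z * x)) := by
      rw [mul_assoc, ← mul_assoc z t, hc z (hWV hz) t ht, mul_assoc t z, ← mul_assoc t t, hsq t ht, one_mul, ← e]
    rw [e2, conj_mul.symm]
    obtain ⟨a, ha, -, e3⟩ := (hS _).1 (hSinv g _ ((hS (t * z)).2 ⟨z, hz, hz1, rfl⟩))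
    obtain ⟨b, hb, -, e4⟩ := (hS _).1 (hSinv g _ ((hS (t * (z * x))).2 ⟨_, mul_mem hz hx, hzx, rfl⟩))
    rw [e3, e4]
    have : t * a * (t * b) = a * b := by
      rw [mul_assoc, ← mul_assoc a t, hc a (hWV ha) t ht, mul_assoc t a, ← mul_assoc t t, hsq t ht, one_mul]
    rw [this]
    exact mul_mem ha hb

end Cfsg.Agent.GroupStructure3.RankFourL32
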