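import Cfsg.Agent.GroupStructure3.RankFourL32.Section

/-!
# No central element of order four in an abelian radical
-/

set_option autoImplicit false
set_option linter.all false

namespace Cfsg.Agent.GroupStructure3.RankFourL32

open Subgroup
open scoped commutatorElement Pointwise

universe u

theorem no_central_cyclic : ∀ (k : ℕ) {X : Type u} [Group X] [Finite X] {π : X →* Q} (hD : Data π)
    (Ω : Subgroup X) [Ω.Normal] (u : X), Ω ≤ π.ker → Nat.card Ω = 16 → (∀ o ∈ Ω, o * o = 1) →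
    (∀ a ∈ π.ker, ∀ b ∈ π.ker, a * b = b * a) → u ∈ π.ker → orderOf u = 2 ^ (k + 2) →
    u ^ 2 ^ (k + 1) ∈ Ω → (∀ g, g * u = u * g) → (∀ p ∈ π.ker, ∃ o ∈ Ω, ∃ n : ℕ, p = o * u ^ n) → False := by
  intro k
  induction k using Nat.strong_induction_on with
  | _ k ih =>
  intro X _ _ π hD Ω _ u hΩ h16 hsq hc hu hord hzΩ hcen hgen
  classical
  set z := u ^ 2 ^ (k + 1) with hz
  have hz2 : z * z = 1 := by
    rw [hz, ← pow_add, show 2 ^ (k + 1) + 2 ^ (k + 1) = 2 ^ (k + 2) by ring, ← hord]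
    exact pow_orderOf_eq_one u
  have hz1 : z ≠ 1 := by
    refine pow_ne_one_of_lt_orderOf (by positivity) ?_
    rw [hord]
    exact Nat.pow_lt_pow_right (by norm_num) (by omega)
  have hcpow : ∀ (n : ℕ) g, g * u ^ n = u ^ n * g := fun n g => ((show Commute g u from hcen g).pow_right n).eq
  have hzc : ∀ g, g * z = z * g := hcpow _
  set N := zpowers z with hN
  have hNmem : ∀ x ∈ N, x = 1 ∨ x = z := by
    intro x hx
    obtain ⟨m, rfl⟩ := Submonoid.mem_powers_iff _ _ |>.1 (mem_powers_iff_mem_zpowers.2 hx)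
    rw [pow_eq_pow_mod m (show z ^ 2 = 1 by rw [pow_two, hz2])]
    have := Nat.mod_lt m (show 0 < 2 by norm_num)
    interval_cases h : m % 2
    · exact Or.inl (pow_zero z)
    · exact Or.inr (pow_one z)
  haveI : N.Normal := ⟨fun x hx g => by
    rcases hNmem x hx with rfl | rfl
    · simp
    · rw [hzc g, mul_inv_cancel_right]; exact mem_zpowers z⟩
  have hNΩ : N ≤ Ω := zpowers_le.2 hzΩ
  have hN2 : Nat.card N = 2 := by rw [Nat.card_zpowers, orderOf_eq_prime (by rw [pow_two, hz2]) hz1]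
  have hNk : N ≤ π.ker := hNΩ.trans hΩ
  obtain ⟨y, hy, hy7⟩ := exists_seven hD.surj hD.pgroup
  -- the layer above the involution
  let q := QuotientGroup.mk' N
  set W := Ω.map q with hW
  have hWcard : Nat.card W = 8 := by
    have h := Subgroup.relIndex_ker Ω q
    rw [QuotientGroup.ker_mk'] at h
    have h' := (N.subgroupOf Ω).card_mul_index
    rw [Nat.card_congr (subgroupOfEquivOfLe hNΩ).toEquiv, hN2, h16] at h'
    rw [hW, ← h, Subgroup.relIndex]
    omega
  have hcw : ∀ p ∈ π.ker, ∀ o ∈ Ω, p * o = o * p := fun p hp o ho => hc p hp o (hΩ ho)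
  have hA : Act (quot π N hNk) W := by
    refine ⟨fun g => by obtain ⟨x, hx⟩ := hD.surj g; exact ⟨q x, hx⟩, ?_,
      ‹Ω.Normal›.map q (QuotientGroup.mk'_surjective N), ?_, ?_, hWcard, ?_, ?_⟩
    · rw [ker_quot]; exact hD.pgroup.map _
    · rintro _ ⟨a, ha, rfl⟩ _ ⟨b, hb, rfl⟩
      rw [← map_mul, ← map_mul, hc a (hΩ ha) b (hΩ hb)]
    · rintro _ ⟨a, ha, rfl⟩
      rw [← map_mul, hsq a ha, map_one]
    · rintro _ hk _ ⟨o, ho, rfl⟩
      rw [ker_quot] at hk
      obtain ⟨p, hp, rfl⟩ := hk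
      rw [← map_mul, ← map_mul, hcw p hp o ho]
    · by_contra hcon
      push Not at hcon
      obtain ⟨p, hp, hpy⟩ := hD.moved hy hy7
      obtain ⟨o, ho, n, rfl⟩ := hgen p hp
      have hm : ⁅y, o⁆ ∈ N := by
        refine (QuotientGroup.eq_one_iff _).1 ?_
        show q ⁅y, o⁆ = 1
        rw [map_commutatorElement, commutatorElement_eq_one_iff_mul_comm]
        exact hcon (q y) (q o) ⟨o, ho, rfl⟩
      have h1 : ⁅y, o⁆ = 1 := by
        refine br_fixed hy7 ?_ (hsq _ (hNΩ hm))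
        rcases hNmem _ hm with e | e <;> rw [e]
        · simp
        · exact hzc y
      refine hpy ?_
      have : ⁅y, o * u ^ n⁆ = ⁅y, o⁆ := by
        calc ⁅y, o * u ^ n⁆ = y * o * (u ^ n * y⁻¹) * (u ^ n)⁻¹ * o⁻¹ := by
              simp only [commutatorElement_def]; group
          _ = ⁅y, o⁆ := by rw [← hcpow n y⁻¹]; simp only [commutatorElement_def]; group
      rw [this, h1]; exact one_mem _
  obtain ⟨k0, hk0, -⟩ := hA.types
  set P1 := Ω ⊔ zpowers (u * u) with hP1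
  haveI : (zpowers (u * u)).Normal := ⟨fun x hx g => by
    obtain ⟨m, rfl⟩ := Submonoid.mem_powers_iff _ _ |>.1 (mem_powers_iff_mem_zpowers.2 hx)
    rw [← pow_two, ← pow_mul, hcpow _ g, mul_inv_cancel_right, pow_mul, pow_two]
    exact pow_mem (mem_zpowers _) m⟩
  haveI : P1.Normal := by rw [hP1]; infer_instance
  have hP1mem : ∀ p ∈ P1, ∃ o ∈ Ω, ∃ n : ℕ, p = o * (u * u) ^ n := by
    intro p hp
    rw [hP1, ← SetLike.mem_coe, normal_mul] at hp
    obtain ⟨o, ho, w, hw, rfl⟩ := Set.mem_mul.1 hp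
    obtain ⟨m, rfl⟩ := Submonoid.mem_powers_iff _ _ |>.1 (mem_powers_iff_mem_zpowers.2 hw)
    exact ⟨o, ho, m, rfl⟩
  have hP1k : P1 ≤ π.ker := sup_le hΩ (zpowers_le.2 (mul_mem hu hu))
  have hodd : ∀ n : ℕ, u ^ n * u ^ n = 1 → 2 ∣ n := by
    intro n hn
    rw [← pow_add] at hn
    have h := orderOf_dvd_of_pow_eq_one hn
    rw [hord, show n + n = 2 * n by ring, pow_succ'] at h
    exact (dvd_pow_self 2 (by omega : k + 1 ≠ 0)).trans (Nat.dvd_of_mul_dvd_mul_left (by norm_num) h)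
  have huP1 : ∀ o ∈ Ω, ∀ n : ℕ, o * u ^ n ∈ P1 → 2 ∣ n := by
    intro o ho n hn
    obtain ⟨o', ho', m, e⟩ := hP1mem _ hn
    obtain ⟨m', hm'⟩ : ∃ m' : ℕ, u ^ m' = ((u * u) ^ m)⁻¹ ∧ 2 ∣ m' := by
      obtain ⟨j, hj⟩ := Submonoid.mem_powers_iff _ _ |>.1
        (mem_powers_iff_mem_zpowers.2 (inv_mem (pow_mem (mem_zpowers (u * u)) m)))
      exact ⟨2 * j, by rw [pow_mul, pow_two, hj], dvd_mul_right 2 j⟩
    have he : u ^ (n + m') = o⁻¹ * o' := by
      rw [pow_add, hm'.1, mul_inv_eq_iff_eq_mul, mul_assoc, ← e, inv_mul_cancel_left]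
    have h := hodd (n + m') (by rw [he]; exact hsq _ (mul_mem (inv_mem ho) ho'))
    exact (Nat.dvd_add_left hm'.2).1 h
  have hP1card : Nat.card π.ker = 2 * Nat.card P1 := by
    have hne : (P1.subgroupOf π.ker).index = 2 := by
      rw [Subgroup.index_eq_two_iff]
      refine ⟨⟨u, hu⟩, fun ⟨b, hb⟩ => ?_⟩
      simp only [mem_subgroupOf, coe_mul]
      obtain ⟨o, ho, n, rfl⟩ := hgen b hb
      have hev : ∀ n, 2 ∣ n → o * u ^ n ∈ P1 := by
        rintro n ⟨j, rfl⟩
        rw [pow_mul, pow_two]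
        exact mul_mem (mem_sup_left ho) (mem_sup_right (pow_mem (mem_zpowers _) j))
      have e : o * u ^ n * u = o * u ^ (n + 1) := by rw [pow_succ, mul_assoc]
      rw [e]
      rcases Nat.even_or_odd n with hn | hn
      · exact Or.inr ⟨hev n hn.two_dvd, fun h => by
          have := huP1 o ho _ h; have := hn.two_dvd; omega⟩
      · exact Or.inl ⟨hev _ (hn.add_one).two_dvd, fun h => by
          have := huP1 o ho _ h; obtain ⟨j, rfl⟩ := hn; omega⟩
    have h := (P1.subgroupOf π.ker).card_mul_index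
    rw [Nat.card_congr (subgroupOfEquivOfLe hP1k).toEquiv, hne] at h
    omega
  -- the preimage of the centre
  set F := Ω ⊓ (cfix W (q (hD.surj (root k0 0)).choose)).comap q with hFd
  have hFmem : ∀ {R : X} {i : Fin 3}, π R = root k0 i → ∀ o ∈ Ω, (q o ∈ cfix W (q R) ↔ o ∈ F) := by
    intro R i hR o ho
    rw [hFd, mem_inf, mem_comap, hk0 (q R) (q (hD.surj (root k0 0)).choose) i 0 hR (hD.surj (root k0 0)).choose_spec]
    exact ⟨fun h => ⟨ho, h⟩, fun h => h.2⟩
  have hfix : ∀ {R : X} {i : Fin 3}, π R = root k0 i → ∀ f ∈ F, R ^ 2 * f = f * R ^ 2 := by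
    intro R i hR f hf
    have h := (mem_cfix.1 ((hFmem hR f hf.1).2 hf)).2
    rw [← map_mul, ← map_mul] at h
    have hm : f⁻¹ * (R * f * R⁻¹) ∈ N := by
      refine QuotientGroup.eq.1 ?_
      show q f = q (R * f * R⁻¹)
      rw [map_mul, h, ← map_mul, mul_inv_cancel_right]
    obtain ⟨n, hn, hRn⟩ : ∃ n, n ∈ N ∧ R * f * R⁻¹ = f * n := ⟨_, hm, by group⟩
    have hRnn : R * n * R⁻¹ = n := by
      rcases hNmem n hn with rfl | rfl
      · simp
      · rw [hzc R, mul_inv_cancel_right]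
    have hnn : n * n = 1 := hsq n (hNΩ hn)
    rw [← mul_inv_eq_iff_eq_mul]
    calc R ^ 2 * f * (R ^ 2)⁻¹ = R * (R * f * R⁻¹) * R⁻¹ := by rw [pow_two]; group
      _ = (R * f * R⁻¹) * (R * n * R⁻¹) := by conv_lhs => rw [hRn]
                                              group
      _ = f := by rw [hRn, hRnn, mul_assoc, hnn, mul_one]
  have hbr : ∀ {R : X} {i : Fin 3}, π R = root k0 i → ∀ o ∈ Ω, ⁅R ^ 2, o⁆ ∈ F := by
    intro R i hR o ho
    have hm : ⁅R ^ 2, o⁆ ∈ Ω := mul_mem (‹Ω.Normal›.conj_mem o ho _) (inv_mem ho)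
    refine (hFmem hR _ hm).1 ?_
    rw [map_commutatorElement, map_pow]
    exact (hA.centre (R := q R) (k := k0) (i := i) hR).2.2.2 _ ⟨o, ho, rfl⟩
  have h4fix : ∀ {R : X} {i : Fin 3}, π R = root k0 i → ∀ o ∈ Ω, ∀ n : ℕ, R ^ 4 = o * u ^ n → o ∈ F := by
    intro R i hR o ho n e
    refine (hFmem hR o ho).1 (mem_cfix.2 ⟨⟨o, ho, rfl⟩, ?_⟩)
    rw [← map_mul, ← map_mul]
    congr 1
    have eo : o = R ^ 4 * (u ^ n)⁻¹ := eq_mul_inv_of_mul_eq e.symm
    rw [eo]
    exact ((Commute.self_pow R 4).mul_right (show Commute R (u ^ n) from hcpow n R).inv_right).eq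
  obtain ⟨R, hR⟩ := hD.surj (root k0 0)
  obtain ⟨R', hR'⟩ := hD.surj (root k0 1)
  rcases split_or hD P1 hP1k hP1card with ⟨X1, hinf, hsup⟩ | hout
  · -- the extension splits off
    rcases k with _ | k
    · have hP1Ω : P1 = Ω := by
        refine sup_eq_left.2 (zpowers_le.2 ?_)
        rw [← pow_two]; exact hzΩ
      rw [hP1Ω] at hinf
      have hlift : ∀ i, ∃ R, π R = root k0 i ∧ R ∈ X1 := by
        intro i
        obtain ⟨x, hx⟩ := hD.surj (root k0 i)
        have hx' : x ∈ (X1 : Set X) * (π.ker : Set X) := by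
          rw [← Subgroup.mul_normal, hsup]; trivial
        obtain ⟨a, ha, p, hp, rfl⟩ := Set.mem_mul.1 hx'
        exact ⟨a, by rwa [map_mul, MonoidHom.mem_ker.1 hp, mul_one] at hx, ha⟩
      obtain ⟨R0, hR0, h0⟩ := hlift 0
      obtain ⟨R1, hR1, h1⟩ := hlift 1
      obtain ⟨R2, hR2, h2⟩ := hlift 2
      have hpow4 : ∀ {S : X} {i : Fin 3}, π S = root k0 i → S ∈ X1 → S ^ 4 ∈ F := by
        intro S i hS hSX
        have hm : S ^ 4 ∈ Ω := hinf ▸ (⟨pow_mem hSX 4, by
          show S ^ 4 ∈ π.ker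
          rw [MonoidHom.mem_ker, map_pow, hS, root_four]⟩ : S ^ 4 ∈ X1 ⊓ π.ker)
        exact h4fix hS _ hm 0 (by rw [pow_zero, mul_one])
      set A := R0 ^ 2 with hAd
      set B := R1 ^ 2 with hBd
      have hAA : A * A ∈ F := by rw [hAd, ← pow_add]; exact hpow4 hR0 h0
      have hBB : B * B ∈ F := by rw [hBd, ← pow_add]; exact hpow4 hR1 h1
      have hAB : π (A * B) = π (R2 ^ 2) := by
        rw [map_mul, hAd, hBd, map_pow, map_pow, map_pow, hR0, hR1, hR2, root_mul]
      set p := (A * B)⁻¹ * R2 ^ 2 with hpd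
      have hpΩ : p ∈ Ω := hinf.le (mem_inf.2 ⟨mul_mem (inv_mem (mul_mem (pow_mem h0 2) (pow_mem h1 2))) (pow_mem h2 2), by
        rw [MonoidHom.mem_ker, map_mul, map_inv, hAB, inv_mul_cancel]⟩)
      have hconjF : ∀ x f, f ∈ F → (x = A ∨ x = B) → x * f * x⁻¹ = f := by
        rintro x f hf (rfl | rfl)
        · rw [hfix hR0 f hf, mul_inv_cancel_right]
        · rw [hfix hR1 f hf, mul_inv_cancel_right]
      have hABc : ⁅A, B⁆ ∈ F := by
        have e2 : (R2 ^ 2) * (R2 ^ 2) ∈ F := by rw [← pow_add]; exact hpow4 hR2 h2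
        have hAA' : ∀ x f, f ∈ F → (x = A ∨ x = B) → x * f = f * x := fun x f hf hx =>
          mul_inv_eq_iff_eq_mul.1 (hconjF x f hf hx)
        have e4 : (R2 ^ 2) * (R2 ^ 2) = ⁅A, B⁆ * (B * (A * A) * B⁻¹) * (B * B) * ((A * B)⁻¹ * p * (A * B) * p) := by
          rw [show R2 ^ 2 = A * B * p by rw [hpd]; group]
          simp only [commutatorElement_def]; group
        have e5 : (A * B)⁻¹ * p * (A * B) * p ∈ F := by
          have hC : A * B = R2 ^ 2 * p⁻¹ := by rw [hpd]; group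
          have hq : p * (R2 ^ 2)⁻¹ * p * R2 ^ 2 * p⁻¹ * p = ⁅p * (R2 ^ 2)⁻¹, p⁆ * (p * p) := by
            simp only [commutatorElement_def]; group
          have hcm : ⁅(R2 ^ 2)⁻¹, p⁆ ∈ F := by
            have h := hbr hR2 ((R2 ^ 2)⁻¹ * p * R2 ^ 2) (by simpa using ‹Ω.Normal›.conj_mem p hpΩ (R2 ^ 2)⁻¹)
            have e : ⁅R2 ^ 2, (R2 ^ 2)⁻¹ * p * R2 ^ 2⁆ = (⁅(R2 ^ 2)⁻¹, p⁆)⁻¹ := by
              simp only [commutatorElement_def]; group
            rw [e] at h
            exact inv_mem_iff.1 h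
          have hm : (R2 ^ 2)⁻¹ * p * R2 ^ 2 * p ∈ F := by
            have e : (R2 ^ 2)⁻¹ * p * R2 ^ 2 * p = ⁅(R2 ^ 2)⁻¹, p⁆ * (p * p) := by
              simp only [commutatorElement_def]; group
            rw [e, hsq p hpΩ, mul_one]; exact hcm
          have ep : (A * B)⁻¹ * p * (A * B) * p = (R2 ^ 2)⁻¹ * p * R2 ^ 2 * p := by
            have hmΩ : (R2 ^ 2)⁻¹ * p * R2 ^ 2 ∈ Ω := by simpa using ‹Ω.Normal›.conj_mem p hpΩ (R2 ^ 2)⁻¹
            rw [← hcw p (hΩ hpΩ) _ hmΩ, hC]; group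
          rw [ep]
          exact hm
        rw [e4, hconjF B _ hAA (Or.inr rfl)] at e2
        exact (mul_mem_cancel_right hAA).1 ((mul_mem_cancel_right hBB).1 ((mul_mem_cancel_right e5).1 e2))
      have hFΩ : F ≤ Ω := inf_le_left
      have hzF : z ∈ F := (hFmem hR0 z hzΩ).1 (by
        rw [show q z = 1 from (QuotientGroup.eq_one_iff z).2 (mem_zpowers z)]; exact one_mem _)
      let S : Set X := (Ω : Set X) ∪ {u, A, B}
      have hS : ∀ s ∈ S, s ∈ π.ker ∨ s = A ∨ s = B := by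
        rintro s (h | rfl | rfl | rfl)
        exacts [Or.inl (hΩ h), Or.inl hu, Or.inr (Or.inl rfl), Or.inr (Or.inr rfl)]
      have hb := section_bound hD.rank (N := F) (S := S)
        (fun s hs f hf => by
          rcases hS s hs with h | h
          · rw [hc s h f (hΩ (hFΩ hf)), mul_inv_cancel_right]; exact hf
          · rw [hconjF s f hf h]; exact hf)
        (by
          rintro s (h | rfl | rfl | rfl)
          · rw [hsq s h]; exact one_mem F
          · rw [← pow_two]; exact hzF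
          · exact hAA
          · exact hBB)
        (by
          have hkey : ∀ x ∈ ({A, B} : Set X), ∀ p ∈ (Ω : Set X) ∪ {u}, ⁅x, p⁆ ∈ F := by
            rintro x hx p (hp | rfl)
            · rcases hx with rfl | rfl
              · exact hbr hR0 p hp
              · exact hbr hR1 p hp
            · rw [commutatorElement_eq_one_iff_mul_comm.2 (hcen x)]; exact one_mem F
          have hsw : ∀ a b : X, ⁅a, b⁆ ∈ F → ⁅b, a⁆ ∈ F := fun a b h => by
            rw [← commutatorElement_inv]; exact inv_mem h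
          rintro s hs t ht
          rcases hs with hs | hs | hs | hs <;> rcases ht with ht | ht | ht | ht
          all_goals first
            | (rw [commutatorElement_eq_one_iff_mul_comm.2 (hc s (by first | exact hΩ hs | (rw [hs]; exact hu)) t
                (by first | exact hΩ ht | (rw [ht]; exact hu)))]; exact one_mem F)
            | exact hkey s (by first | exact Or.inl hs | exact Or.inr hs | exact Or.inl ht | exact Or.inr ht) t (by first | exact Or.inl hs | exact Or.inr hs | exact Or.inl ht | exact Or.inr ht)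
            | exact hsw _ _ (hkey t (by first | exact Or.inl hs | exact Or.inr hs | exact Or.inl ht | exact Or.inr ht) s (by first | exact Or.inl hs | exact Or.inr hs | exact Or.inl ht | exact Or.inr ht))
            | (subst hs ht; rw [commutatorElement_self]; exact one_mem F)
            | (subst hs ht; exact hABc)
            | (subst hs ht; exact hsw _ _ hABc))
      have hge := card_ge (π := π) (K := Subgroup.closure (S ∪ (F : Set X))) (P0 := π.ker)
        (fun p hp => by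
          obtain ⟨o, ho, n, rfl⟩ := hgen p hp
          have m1 : o ∈ Subgroup.closure (S ∪ (F : Set X)) := Subgroup.subset_closure (Or.inl (Or.inl ho))
          have m2 : u ∈ Subgroup.closure (S ∪ (F : Set X)) :=
            Subgroup.subset_closure (Or.inl (Or.inr (Or.inl rfl)))
          exact mul_mem m1 (pow_mem m2 n))
        le_rfl hR0 hR1 hR2 rfl rfl (Subgroup.subset_closure (Or.inl (Or.inr (Or.inr (Or.inl rfl)))))
        (Subgroup.subset_closure (Or.inl (Or.inr (Or.inr (Or.inr rfl)))))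
      have hF4 : Nat.card F ≤ 4 := by
        have h := Subgroup.relIndex_ker F q
        rw [QuotientGroup.ker_mk'] at h
        have hNF : N ≤ F := zpowers_le.2 hzF
        have h' := (N.subgroupOf F).card_mul_index
        rw [Nat.card_congr (subgroupOfEquivOfLe hNF).toEquiv, hN2] at h'
        have hle : Nat.card (F.map q) ≤ 2 := by
          refine (Subgroup.card_le_of_le (K := cfix W (q R0)) ?_).trans
            (hA.centre (R := q R0) (k := k0) (i := 0) hR0).1.le
          rintro _ ⟨f, hf, rfl⟩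
          exact (hFmem hR0 f hf.1).2 hf
        rw [← h, Subgroup.relIndex] at hle
        omega
      rw [hP1card, hP1Ω, h16] at hge
      omega
    · obtain ⟨hD1, hcard1⟩ := hD.sub hinf hsup hP1card
      have hΩX : Ω ≤ X1 := (le_sup_left : Ω ≤ P1).trans (hinf.ge.trans inf_le_left)
      have huX : u * u ∈ X1 := (hinf.ge (mem_sup_right (mem_zpowers _))).1
      haveI : (Ω.subgroupOf X1).Normal := ‹Ω.Normal›.subgroupOf X1
      refine ih k (by omega) (π := π.comp X1.subtype) hD1 (Ω.subgroupOf X1) ⟨u * u, huX⟩ (fun o ho => hΩ ho) ?_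
        (fun o ho => Subtype.ext (hsq _ ho)) (fun a ha b hb => Subtype.ext (hc _ ha _ hb)) (mul_mem hu hu) ?_ ?_
        (fun g => Subtype.ext (by
          show (g : X) * (u * u) = u * u * g
          rw [← mul_assoc, hcen g, mul_assoc, hcen g, ← mul_assoc])) ?_
      · rw [Nat.card_congr (subgroupOfEquivOfLe hΩX).toEquiv, h16]
      · rw [← Subgroup.orderOf_coe, show ((⟨u * u, huX⟩ : X1) : X) = u ^ 2 from (pow_two u).symm,
          orderOf_pow, hord]
        rw [show Nat.gcd (2 ^ (k + 1 + 2)) 2 = 2 from Nat.gcd_eq_right (dvd_pow_self 2 (by omega)),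
          pow_succ' 2 (k + 2)]
        omega
      · rw [mem_subgroupOf, SubmonoidClass.coe_pow]
        show (u * u) ^ 2 ^ (k + 1) ∈ Ω
        rw [← pow_two, ← pow_mul, ← pow_succ']
        exact hzΩ
      · intro p hp
        obtain ⟨o, ho, n, e⟩ := hP1mem (p : X) (hinf.le ⟨p.2, hp⟩)
        exact ⟨⟨o, hΩX ho⟩, ho, n, Subtype.ext (by simp [e])⟩
  · -- every root has fourth power outside
    obtain ⟨R'', hR''⟩ := hD.surj (root k0 2)
    set A := R ^ 2 with hAd
    set B := R' ^ 2 with hBd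
    have hpow : ∀ {S : X} {i : Fin 3}, π S = root k0 i →
        ∃ o ∈ F, ∃ n : ℕ, ¬ 2 ∣ n ∧ S ^ 4 = o * u ^ n := by
      intro S i hS
      have hm : S ^ 4 ∈ π.ker := by rw [MonoidHom.mem_ker, map_pow, hS, root_four]
      obtain ⟨o, ho, n, e⟩ := hgen _ hm
      refine ⟨o, h4fix hS o ho n e, n, fun ⟨j, hj⟩ => hout S k0 i hS ?_, e⟩
      rw [e, hj, pow_mul, pow_two]
      exact mul_mem (mem_sup_left ho) (mem_sup_right (pow_mem (mem_zpowers _) j))
    obtain ⟨o0, ho0, n0, hn0, e0⟩ := hpow hR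
    obtain ⟨o1, ho1, n1, hn1, e1⟩ := hpow hR'
    have hcentA : ∀ {o : X} {n : ℕ} {S : X} {i : Fin 3}, π S = root k0 i → o ∈ F →
        Commute (o * u ^ n) (S ^ 2) := fun {o n S i} hS ho =>
      ((show Commute (S ^ 2) o from hfix hS o ho).mul_right (hcpow n (S ^ 2))).symm
    have hAA : A * A = o0 * u ^ n0 := by rw [hAd, ← pow_add]; exact e0
    have hBB : B * B = o1 * u ^ n1 := by rw [hBd, ← pow_add]; exact e1
    have hAB : π (A * B) = π (R'' ^ 2) := by
      rw [map_mul, hAd, hBd, map_pow, map_pow, map_pow, hR, hR', hR'', root_mul]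
    have hck : ⁅A, B⁆ ∈ π.ker := by
      rw [MonoidHom.mem_ker, map_commutatorElement, commutatorElement_eq_one_iff_mul_comm, hAd, hBd,
        map_pow, map_pow, hR, hR', root_comm]
    obtain ⟨oc, hoc, i, hci⟩ := hgen _ hck
    have hiodd : ¬ 2 ∣ i := by
      intro hi
      obtain ⟨j, rfl⟩ := hi
      set p := (A * B)⁻¹ * R'' ^ 2 with hpd
      have hp : p ∈ π.ker := by rw [MonoidHom.mem_ker, map_mul, map_inv, hAB, inv_mul_cancel]
      refine hout R'' k0 2 hR'' ?_
      have e4 : R'' ^ 4 = ⁅A, B⁆ * (B * (A * A) * B⁻¹) * (B * B) * ((A * B)⁻¹ * p * (A * B) * p) := by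
        rw [show (4 : ℕ) = 2 + 2 from rfl, pow_add, show R'' ^ 2 = A * B * p by rw [hpd]; group]
        simp only [commutatorElement_def]; group
      rw [e4, hci, hAA, hBB, ← ((hcentA (n := n0) hR' ho0).eq : o0 * u ^ n0 * B = B * (o0 * u ^ n0)),
        mul_inv_cancel_right]
      obtain ⟨o, ho, n, hpe⟩ := hgen p hp
      rw [hpe]
      have hq : (A * B)⁻¹ * (o * u ^ n) * (A * B) = (A * B)⁻¹ * o * (A * B) * u ^ n := by
        rw [← mul_assoc (A * B)⁻¹ o, mul_assoc _ (u ^ n), ← hcpow n (A * B), ← mul_assoc]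
      have hoo : (A * B)⁻¹ * o * (A * B) ∈ Ω := by simpa using ‹Ω.Normal›.conj_mem o ho (A * B)⁻¹
      have h1 : oc * u ^ (2 * j) ∈ P1 := by
        rw [pow_mul, pow_two]
        exact mul_mem (mem_sup_left hoc) (mem_sup_right (pow_mem (mem_zpowers _) j))
      have h2 : o0 * u ^ n0 * (o1 * u ^ n1) ∈ P1 := by
        have : o0 * u ^ n0 * (o1 * u ^ n1) = (o0 * o1) * u ^ (n0 + n1) := by
          rw [pow_add]
          calc o0 * u ^ n0 * (o1 * u ^ n1) = o0 * (u ^ n0 * o1) * u ^ n1 := by group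
            _ = _ := by rw [← hcpow n0 o1]; group
        rw [this]
        obtain ⟨m, hm⟩ : 2 ∣ n0 + n1 := by omega
        rw [hm, pow_mul, pow_two]
        exact mul_mem (mem_sup_left (mul_mem ho0.1 ho1.1)) (mem_sup_right (pow_mem (mem_zpowers _) m))
      have h3 : (A * B)⁻¹ * (o * u ^ n) * (A * B) * (o * u ^ n) ∈ P1 := by
        rw [hq]
        have : (A * B)⁻¹ * o * (A * B) * u ^ n * (o * u ^ n) = ((A * B)⁻¹ * o * (A * B) * o) * (u * u) ^ n := by
          rw [(Commute.refl u).mul_pow]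
          calc _ = (A * B)⁻¹ * o * (A * B) * (u ^ n * o) * u ^ n := by group
            _ = _ := by rw [← hcpow n o]; group
        rw [this]
        exact mul_mem (mem_sup_left (mul_mem hoo ho)) (mem_sup_right (pow_mem (mem_zpowers _) n))
      rw [mul_assoc (oc * u ^ (2 * j))]
      exact mul_mem (mul_mem h1 h2) h3
    have hu2i : u ^ i * u ^ i ≠ 1 := fun h => hiodd (hodd i h)
    have hkey : ∀ {S : X} {j : Fin 3}, π S = root k0 j → ∀ {o : X}, o ∈ Ω → ∀ m : ℕ, ¬ 2 ∣ m →
        S ^ 2 * (o * u ^ m) * (S ^ 2)⁻¹ * (o * u ^ m) = 1 →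
        q o ∈ cfix W (q S ^ 2) ∧ ⁅S ^ 2, o⁆ ≠ 1 := by
      intro S j hS o ho m hm h
      have e : ⁅S ^ 2, o⁆ * (u ^ m * u ^ m) = 1 := by
        rw [← h]
        have hoo : o⁻¹ = o := inv_eq_of_mul_eq_one_right (hsq o ho)
        rw [commutatorElement_def, hoo]
        calc S ^ 2 * o * (S ^ 2)⁻¹ * o * (u ^ m * u ^ m) = S ^ 2 * o * ((S ^ 2)⁻¹ * (o * u ^ m)) * u ^ m := by group
          _ = S ^ 2 * o * ((S ^ 2)⁻¹ * (u ^ m * o)) * u ^ m := by rw [hcpow m o]
          _ = _ := by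
            rw [← mul_assoc ((S ^ 2)⁻¹) (u ^ m) o, hcpow m (S ^ 2)⁻¹]
            group
      have hne : ⁅S ^ 2, o⁆ ≠ 1 := fun h1 => by
        rw [h1, one_mul] at e; exact hm (hodd m e)
      refine ⟨mem_cfix.2 ⟨⟨o, ho, rfl⟩, ?_⟩, hne⟩
      rw [← commutatorElement_eq_one_iff_mul_comm, ← map_pow, ← map_commutatorElement]
      refine (QuotientGroup.eq_one_iff _).2 ?_
      have hin : ⁅S ^ 2, o⁆ ∈ Ω := mul_mem (‹Ω.Normal›.conj_mem o ho _) (inv_mem ho)
      have hue : ⁅S ^ 2, o⁆ = (u ^ m * u ^ m)⁻¹ := eq_inv_of_mul_eq_one_left e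
      -- an involution among the powers
      have hsqm := hsq _ hin
      rw [hue, ← mul_inv_rev, inv_eq_one, ← pow_add, ← pow_add] at hsqm
      have hd := orderOf_dvd_of_pow_eq_one hsqm
      rw [hord] at hd
      obtain ⟨c, hc'⟩ := hd
      rw [hue, ← pow_add]
      refine inv_mem ?_
      have hmm : m + m = 2 ^ (k + 1) * c := by
        have : 2 * (2 ^ (k + 1) * c) = m + m + (m + m) := by rw [hc', pow_succ 2 (k + 1)]; ring
        omega
      rw [hmm, pow_mul]
      exact pow_mem (mem_zpowers z) c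
    have hA1 : A * ⁅A, B⁆ * A⁻¹ * ⁅A, B⁆ = 1 := by
      calc A * ⁅A, B⁆ * A⁻¹ * ⁅A, B⁆ = ⁅A * A, B⁆ := by simp only [commutatorElement_def]; group
        _ = 1 := by rw [commutatorElement_eq_one_iff_mul_comm, hAA]; exact (hcentA hR' ho0).eq
    have hB1 : B * ⁅A, B⁆ * B⁻¹ * ⁅A, B⁆ = 1 := by
      have h : ⁅B * B, A⁆ = 1 := by
        rw [commutatorElement_eq_one_iff_mul_comm, hBB]; exact (hcentA hR ho1).eq
      have e : ⁅A, B⁆ * (B * ⁅A, B⁆ * B⁻¹) = (⁅B * B, A⁆)⁻¹ := by
        simp only [commutatorElement_def, mul_inv_rev, inv_inv, mul_assoc, inv_mul_cancel_left]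
      rw [hc _ ((MonoidHom.normal_ker π).conj_mem _ hck B) _ hck, e, h, inv_one]
    rw [hci] at hA1 hB1
    obtain ⟨f0, hne⟩ := hkey hR hoc i hiodd hA1
    obtain ⟨f1, -⟩ := hkey hR' hoc i hiodd hB1
    have hocF : oc ∈ F := by
      refine (hFmem hR oc hoc).1 ?_
      rw [← hA.inf_axes hk0 (R := q R) (R' := q R') (i := 0) (j := 1) hR hR' (by decide)]
      exact ⟨f0, f1⟩
    exact hne (commutatorElement_eq_one_iff_mul_comm.2 (hfix hR oc hocF))

end Cfsg.Agent.GroupStructure3.RankFourL32
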