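import Cfsg.Agent.GroupStructure3.RankFourL32.Section

/-!
# A homocyclic radical of exponent four in coordinates
-/

set_option autoImplicit false
set_option linter.all false

namespace Cfsg.Agent.GroupStructure3.RankFourL32

open Subgroup Matrix
open scoped commutatorElement

universe u

/-- The matrix of a root on a homocyclic group of exponent four. -/
def stdRoot : Matrix (Fin 3) (Fin 3) (ZMod 4) := !![1, 0, 0; 1, 1, 2; 0, 1, 3]

theorem stdRoot_cases : ∀ a b c : ZMod 4,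
    (!![1, 0, 2 * a; 1, 1, 2 * b; 0, 1, 1 + 2 * c] : Matrix (Fin 3) (Fin 3) (ZMod 4)) *
      !![1, 0, 2 * a; 1, 1, 2 * b; 0, 1, 1 + 2 * c] *
      (!![1, 0, 2 * a; 1, 1, 2 * b; 0, 1, 1 + 2 * c] * !![1, 0, 2 * a; 1, 1, 2 * b; 0, 1, 1 + 2 * c]) = 1 →
    (!![1, 0, 2 * a; 1, 1, 2 * b; 0, 1, 1 + 2 * c] : Matrix (Fin 3) (Fin 3) (ZMod 4)).det = 1 →
    (!![1, 0, 2 * a; 1, 1, 2 * b; 0, 1, 1 + 2 * c] : Matrix (Fin 3) (Fin 3) (ZMod 4)) = stdRoot := by
  unfold stdRoot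
  decide +kernel

theorem stdRoot_fixed : ∀ v : Fin 3 → ZMod 4, stdRoot *ᵥ v = v → ∃ n : Fin 4, v = (n : ℕ) • ![2, 2, 1] := by
  unfold stdRoot
  decide +kernel

theorem stdRoot_image : ∀ v : Fin 3 → ZMod 4,
    ∃ n : Fin 4, (stdRoot * stdRoot) *ᵥ v + v = (n : ℕ) • ![2, 2, 1] := by
  unfold stdRoot
  decide +kernel

theorem stdRoot_preimage : (stdRoot * stdRoot) *ᵥ ![1, 0, 0] + ![1, 0, 0] = ![2, 2, 1] := by
  unfold stdRoot
  decide +kernel

theorem stdRoot_g : stdRoot *ᵥ ![2, 2, 1] = ![2, 2, 1] := by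
  unfold stdRoot
  decide +kernel

variable {X : Type u} [Group X] [Finite X] {π : X →* Q}

/-- A homocyclic radical of exponent four and rank three. -/
structure Homocyclic (π : X →* Q) : Prop where
  data : Data π
  comm : ∀ a ∈ π.ker, ∀ b ∈ π.ker, a * b = b * a
  exp : ∀ f ∈ Sq π, f * f = 1
  layer : Act (quot π (Sq π) Sq_le) (π.ker.map (QuotientGroup.mk' (Sq π)))
  base : Act π (Sq π)
  nonsq : ∀ p ∈ π.ker, p * p = 1 → p ∈ Sq π

theorem Homocyclic.card (h : Homocyclic π) : Nat.card π.ker = 64 := by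
  have h1 := card_ker_quot (π := π) (Sq π) Sq_le
  rw [ker_quot, h.layer.card, h.base.card] at h1
  exact h1

theorem four_eq_one (h : Homocyclic π) {p : X} (hp : p ∈ π.ker) : p ^ 4 = 1 := by
  rw [show (4 : ℕ) = 2 + 2 from rfl, pow_add, pow_two]
  exact h.exp _ (sq_mem_Sq hp)

/-- Facts about a root of an involution on a homocyclic radical. -/
theorem root_facts (h : Homocyclic π) {R : X} {k : Bool} {i : Fin 3} (hR : π R = root k i) :
    ∃ g ∈ π.ker, R * g = g * R ∧ g ∉ Sq π ∧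
      (∀ x ∈ π.ker, R * x = x * R → ∃ n : ℕ, x = g ^ n) ∧
      (∀ m ∈ π.ker, ∃ n : ℕ, R ^ 2 * m * (R ^ 2)⁻¹ * m = g ^ n) ∧
      ∃ p ∈ π.ker, R ^ 2 * p * (R ^ 2)⁻¹ * p = g := by
  classical
  let q := QuotientGroup.mk' (Sq π)
  set V := π.ker.map q with hV
  haveI := h.layer.normal
  have hqR : quot π (Sq π) Sq_le (q R) = root k i := hR
  obtain ⟨hc2, h4, hsub, hbr⟩ : Nat.card (cfix V (q R)) = 2 ∧ Nat.card (cfix V (q R ^ 2)) = 4 ∧
      cfix V (q R) ≤ cfix V (q R ^ 2) ∧ ∀ w ∈ V, ⁅q R ^ 2, w⁆ ∈ cfix V (q R) := h.layer.centre hqR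
  have hcj : ∀ (x : X) {p : X}, p ∈ π.ker → x * p * x⁻¹ ∈ π.ker := fun x p hp =>
    (MonoidHom.normal_ker π).conj_mem p hp x
  -- a basis adapted to the root
  obtain ⟨p, hp, hpn⟩ : ∃ p ∈ π.ker, q p ∉ cfix V (q R ^ 2) := by
    by_contra hcon
    push Not at hcon
    have hle : V ≤ cfix V (q R ^ 2) := by
      rintro _ ⟨p, hp, rfl⟩; exact hcon p hp
    have := card_le_of_le hle
    rw [h.layer.card] at this
    omega
  set p1 := ⁅R, p⁆ with hp1d
  set e := ⁅R, p1⁆ with hed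
  have hp1 : p1 ∈ π.ker := mul_mem (hcj R hp) (inv_mem hp)
  have he : e ∈ π.ker := mul_mem (hcj R hp1) (inv_mem hp1)
  have hqsq : ∀ x ∈ π.ker, q x * q x = 1 := fun x hx => layer_sq ⟨x, hx, rfl⟩
  have hqe : q e = ⁅q R ^ 2, q p⁆ := by
    have hvi : ∀ v ∈ V, v⁻¹ = v := fun v hv => inv_eq_of_mul_eq_one_right (layer_sq hv)
    have hm1 : q (R * p * R⁻¹) ∈ V := ⟨_, hcj R hp, rfl⟩
    have hm2 : q (R * (R * p * R⁻¹) * R⁻¹) ∈ V := ⟨_, hcj R (hcj R hp), rfl⟩
    have e1 : q e = (q (R * (R * p * R⁻¹) * R⁻¹) * (q (R * p * R⁻¹))⁻¹) * (q p * (q (R * p * R⁻¹))⁻¹) := by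
      rw [← map_inv, ← map_mul, ← map_mul, ← map_mul]
      congr 1
      rw [hed, hp1d]
      simp only [commutatorElement_def]; group
    rw [e1, hvi _ hm1]
    have hc := h.layer.comm _ hm1 (q p) ⟨p, hp, rfl⟩
    calc q (R * (R * p * R⁻¹) * R⁻¹) * q (R * p * R⁻¹) * (q p * q (R * p * R⁻¹))
        = q (R * (R * p * R⁻¹) * R⁻¹) * (q p * (q (R * p * R⁻¹) * q (R * p * R⁻¹))) := by
          rw [← mul_assoc, mul_assoc _ (q (R * p * R⁻¹)) (q p), hc]; group
      _ = q (R * (R * p * R⁻¹) * R⁻¹) * (q p)⁻¹ := by rw [hqsq _ (hcj R hp), mul_one, hvi _ ⟨p, hp, rfl⟩]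
      _ = _ := by
        rw [commutatorElement_def]
        simp only [map_mul, map_inv, pow_two]; group
  have hec : q e ∈ cfix V (q R) := hqe ▸ hbr _ ⟨p, hp, rfl⟩
  have hene : q e ≠ 1 := by
    rw [hqe]; intro h1
    exact hpn (mem_cfix.2 ⟨⟨p, hp, rfl⟩, commutatorElement_eq_one_iff_mul_comm.1 h1⟩)
  have hcen : ∀ x ∈ cfix V (q R), x = 1 ∨ x = q e := fun x hx => by
    by_cases hx1 : x = 1
    · exact Or.inl hx1
    · exact Or.inr (h.layer.eq_centre hqR hx hx1 hec hene)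
  have hp1a : q p1 ∈ cfix V (q R ^ 2) := by
    refine mem_cfix.2 ⟨⟨p1, hp1, rfl⟩, ?_⟩
    have hcomm := (mem_cfix.1 hec).2
    have e0 : q e = q R * q p1 * (q R)⁻¹ * (q p1)⁻¹ := by rw [hed, map_commutatorElement, commutatorElement_def]
    rw [← mul_inv_eq_iff_eq_mul]
    calc q R ^ 2 * q p1 * (q R ^ 2)⁻¹ = q R * (q R * q p1 * (q R)⁻¹) * (q R)⁻¹ := by rw [pow_two]; group
      _ = q R * (q e * q p1) * (q R)⁻¹ := by rw [e0]; group
      _ = (q R * q e * (q R)⁻¹) * (q R * q p1 * (q R)⁻¹) := by group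
      _ = q e * (q e * q p1) := by rw [hcomm, mul_inv_cancel_right, e0]; group
      _ = q p1 := by rw [← mul_assoc, hqsq e he, one_mul]
  have hp1n : q p1 ∉ cfix V (q R) := by
    intro hm
    refine hene ?_
    rw [hed, map_commutatorElement, commutatorElement_eq_one_iff_mul_comm]
    exact (mem_cfix.1 hm).2
  -- coordinates
  have hz : ∀ (x : X), x ∈ π.ker → ∀ a b : ZMod 4, x ^ (a + b).val = x ^ a.val * x ^ b.val := by
    intro x hx a b
    rw [ZMod.val_add, ← pow_eq_pow_mod _ (four_eq_one h hx), pow_add]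
  let ψ : (Fin 3 → ZMod 4) → X := fun v => p ^ (v 0).val * p1 ^ (v 1).val * e ^ (v 2).val
  have hψk : ∀ v, ψ v ∈ π.ker := fun v =>
    mul_mem (mul_mem (pow_mem hp _) (pow_mem hp1 _)) (pow_mem he _)
  have hψadd : ∀ v w, ψ (v + w) = ψ v * ψ w := by
    intro v w
    simp only [ψ, Pi.add_apply, hz p hp, hz p1 hp1, hz e he]
    have c1 := h.comm _ (pow_mem hp (w 0).val) _ (pow_mem hp1 (v 1).val)
    have c2 := h.comm _ (mul_mem (pow_mem hp (w 0).val) (pow_mem hp1 (w 1).val)) _ (pow_mem he (v 2).val)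
    calc p ^ (v 0).val * p ^ (w 0).val * (p1 ^ (v 1).val * p1 ^ (w 1).val) * (e ^ (v 2).val * e ^ (w 2).val)
        = p ^ (v 0).val * (p ^ (w 0).val * p1 ^ (v 1).val) * p1 ^ (w 1).val * e ^ (v 2).val * e ^ (w 2).val := by
          group
      _ = p ^ (v 0).val * p1 ^ (v 1).val * ((p ^ (w 0).val * p1 ^ (w 1).val) * e ^ (v 2).val) * e ^ (w 2).val := by
          rw [c1]; group
      _ = _ := by rw [c2]; group
  let H : Subgroup X :=
    { carrier := Set.range ψ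
      one_mem' := ⟨0, by simp [ψ]⟩
      mul_mem' := by rintro _ _ ⟨v, rfl⟩ ⟨w, rfl⟩; exact ⟨v + w, hψadd v w⟩
      inv_mem' := by
        rintro _ ⟨v, rfl⟩
        refine ⟨-v, (inv_eq_of_mul_eq_one_left ?_).symm⟩
        rw [← hψadd]; simp [ψ] }
  have hval : (1 : ZMod 4).val = 1 := rfl
  have hψp : ψ ![1, 0, 0] = p := by simp [ψ, hval]
  have hψp1 : ψ ![0, 1, 0] = p1 := by simp [ψ, hval]
  have hψe : ψ ![0, 0, 1] = e := by simp [ψ, hval]
  have hHk : H ≤ π.ker := by rintro _ ⟨v, rfl⟩; exact hψk v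
  have hHV : H.map q = V := by
    refine eq_of_le_of_card_ge (map_mono hHk) ?_
    have m0 : q p ∈ H.map q := ⟨p, ⟨_, hψp⟩, rfl⟩
    have m1 : q p1 ∈ H.map q := ⟨p1, ⟨_, hψp1⟩, rfl⟩
    have m2 : q e ∈ H.map q := ⟨e, ⟨_, hψe⟩, rfl⟩
    have d : Nat.card (H.map q) ∣ 8 := h.layer.card ▸ card_dvd_of_le (map_mono hHk)
    have hlt1 : 1 < Nat.card ↥(H.map q ⊓ cfix V (q R ^ 2)) := by
      rw [one_lt_card_iff_ne_bot]
      intro hb
      exact hene (mem_bot.1 (hb ▸ mem_inf.2 ⟨m2, hsub hec⟩))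
    have hne2 : Nat.card ↥(H.map q ⊓ cfix V (q R ^ 2)) ≠ 2 := fun e2 => by
      obtain ⟨z, -, -, hall⟩ := GenA.SectionalRankFour.exists_gen e2
      have hp11 : q p1 ≠ 1 := fun e' => hp1n (e'.symm ▸ one_mem _)
      refine hp1n ?_
      have e3 : q p1 = q e :=
        ((hall _ (mem_inf.2 ⟨m1, hp1a⟩)).resolve_left hp11).trans
          ((hall _ (mem_inf.2 ⟨m2, hsub hec⟩)).resolve_left hene).symm
      rw [e3]; exact hec
    have d1 : Nat.card ↥(H.map q ⊓ cfix V (q R ^ 2)) ∈ Nat.divisors 4 :=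
      Nat.mem_divisors.2 ⟨h4 ▸ card_dvd_of_le inf_le_right, by norm_num⟩
    rw [show Nat.divisors 4 = {1, 2, 4} by decide] at d1
    simp only [Finset.mem_insert, Finset.mem_singleton] at d1
    have h44 : Nat.card ↥(H.map q ⊓ cfix V (q R ^ 2)) = 4 := by omega
    have hne : Nat.card ↥(H.map q ⊓ cfix V (q R ^ 2)) ≠ Nat.card (H.map q) := fun e2 => hpn
      ((eq_of_le_of_card_ge inf_le_left e2.ge).ge m0).2
    have hd2 := card_dvd_of_le (inf_le_left : H.map q ⊓ cfix V (q R ^ 2) ≤ H.map q)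
    have hd3 : Nat.card (H.map q) ∈ Nat.divisors 8 := Nat.mem_divisors.2 ⟨d, by norm_num⟩
    rw [show Nat.divisors 8 = {1, 2, 4, 8} by decide] at hd3
    simp only [Finset.mem_insert, Finset.mem_singleton] at hd3
    rw [h.layer.card]
    rw [h44] at hd2 hne
    rcases hd3 with e3 | e3 | e3 | e3 <;> rw [e3] at hd2 hne ⊢ <;> omega
  have hdecomp : ∀ x ∈ π.ker, ∃ a ∈ H, ∃ f ∈ Sq π, x = a * f := by
    intro x hx
    obtain ⟨a, ha, hax⟩ := hHV.ge ⟨x, hx, rfl⟩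
    exact ⟨a, ha, a⁻¹ * x, QuotientGroup.eq.1 hax, (mul_inv_cancel_left _ _).symm⟩
  have hUH : Sq π ≤ H := (closure_le _).2 (by
    rintro _ ⟨x, hx, rfl⟩
    obtain ⟨a, ha, f, hf, rfl⟩ := hdecomp x hx
    have : a * f * (a * f) = a * a := by
      calc a * f * (a * f) = a * (f * a) * f := by group
        _ = (a * a) * (f * f) := by rw [h.comm f (Sq_le hf) a (hHk ha)]; group
        _ = _ := by rw [h.exp f hf, mul_one]
    rw [this]; exact mul_mem ha ha)
  have hsurj : ∀ x ∈ π.ker, ∃ v, ψ v = x := by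
    intro x hx
    obtain ⟨a, ha, f, hf, rfl⟩ := hdecomp x hx
    exact mul_mem ha (hUH hf)
  let ψ' : (Fin 3 → ZMod 4) → π.ker := fun v => ⟨ψ v, hψk v⟩
  have hψinj : Function.Injective ψ := by
    have hb : Function.Bijective ψ' := by
      refine Function.Surjective.bijective_of_nat_card_le (fun x => ?_) ?_
      · obtain ⟨v, hv⟩ := hsurj x x.2; exact ⟨v, Subtype.ext hv⟩
      · rw [h.card]; simp [Nat.card_eq_fintype_card]
    exact fun v w hvw => hb.1 (Subtype.ext hvw)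
  choose inv hinv using fun x : π.ker => hsurj x x.2
  -- the action in coordinates
  let col : X → Fin 3 → (Fin 3 → ZMod 4) := fun x j => inv ⟨x * ψ (Pi.single j 1) * x⁻¹, hcj x (hψk _)⟩
  let μ : X → Matrix (Fin 3) (Fin 3) (ZMod 4) := fun x => Matrix.of fun a b => col x b a
  have hψpow : ∀ (n : ℕ) v, ψ (n • v) = ψ v ^ n := by
    intro n v
    induction n with
    | zero => simp [ψ]
    | succ n ih => rw [succ_nsmul, hψadd, ih, pow_succ]
  have hμ : ∀ x v, ψ (μ x *ᵥ v) = x * ψ v * x⁻¹ := by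
    intro x v
    have hv : v = (v 0).val • (Pi.single 0 1 : Fin 3 → ZMod 4) + (v 1).val • (Pi.single 1 1 : Fin 3 → ZMod 4) +
        (v 2).val • (Pi.single 2 1 : Fin 3 → ZMod 4) := by
      ext a
      rw [Pi.add_apply, Pi.add_apply, Pi.smul_apply, Pi.smul_apply, Pi.smul_apply]
      fin_cases a <;> simp [-ZMod.natCast_val, ZMod.natCast_zmod_val]
    have hcol : ∀ j, ψ (μ x *ᵥ Pi.single j 1) = x * ψ (Pi.single j 1) * x⁻¹ := fun j => by
      rw [show μ x *ᵥ Pi.single j 1 = col x j by ext a; simp [μ]]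
      exact hinv _
    rw [hv, Matrix.mulVec_add, Matrix.mulVec_add, Matrix.mulVec_smul, Matrix.mulVec_smul, Matrix.mulVec_smul]
    simp only [hψadd, hψpow, hcol, conj_pow]
    group
  have hext : ∀ A B : Matrix (Fin 3) (Fin 3) (ZMod 4), (∀ v, ψ (A *ᵥ v) = ψ (B *ᵥ v)) → A = B :=
    fun A B hAB => Matrix.ext fun a b => by
      have := congrFun (hψinj (hAB (Pi.single b 1))) a
      simpa using this
  have hμmul : ∀ x y, μ (x * y) = μ x * μ y := fun x y => hext _ _ fun v => by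
    rw [← Matrix.mulVec_mulVec, hμ, hμ, hμ]; group
  have hμker : ∀ x ∈ π.ker, μ x = 1 := fun x hx => hext _ _ fun v => by
    rw [hμ, Matrix.one_mulVec, h.comm x hx _ (hψk v), mul_inv_cancel_right]
  let μh : X →* Matrix (Fin 3) (Fin 3) (ZMod 4) :=
    { toFun := μ, map_one' := hμker 1 (one_mem _), map_mul' := hμmul }
  let dh : X →* ZMod 4 := (Matrix.detMonoidHom).comp μh
  let du : X →* (ZMod 4)ˣ := dh.toHomUnits
  have hdet : ∀ x, (μ x).det = 1 := by
    intro x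
    have hle : π.ker ≤ du.ker := fun y hy => MonoidHom.mem_ker.2 (Units.ext (by
      show (μ y).det = 1
      rw [hμker y hy, Matrix.det_one]))
    have hc : commutator X ≤ du.ker := Abelianization.commutator_subset_ker du
    have htop : du.ker = ⊤ := by
      have h1 : (du.ker).map π = ⊤ := by
        rw [eq_top_iff, ← commutator_Q]
        refine le_trans ?_ (map_mono hc)
        rw [_root_.commutator_def, _root_.commutator_def, map_commutator, ← MonoidHom.range_eq_map,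
          MonoidHom.range_eq_top.2 h.data.surj]
      have h2 := congrArg (Subgroup.comap π) h1
      rwa [comap_map_eq, comap_top, sup_eq_left.2 hle] at h2
    have := MonoidHom.mem_ker.1 (htop.ge (mem_top x))
    exact congrArg Units.val this
  -- the matrix of the root
  have hRe : ⁅R, e⁆ ∈ Sq π := by
    refine (QuotientGroup.eq_one_iff _).1 ?_
    show q ⁅R, e⁆ = 1
    rw [map_commutatorElement, commutatorElement_eq_one_iff_mul_comm]
    exact (mem_cfix.1 hec).2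
  obtain ⟨v, hv⟩ : ∃ v, ψ ((2 : ℕ) • v) = ⁅R, e⁆ := by
    have hcl : ∀ f ∈ Sq π, ∃ x ∈ π.ker, f = x * x := by
      let Hs : Subgroup X :=
        { carrier := {f | ∃ x ∈ π.ker, f = x * x}
          one_mem' := ⟨1, one_mem _, by simp⟩
          mul_mem' := by
            rintro _ _ ⟨a, ha, rfl⟩ ⟨b, hb, rfl⟩
            exact ⟨a * b, mul_mem ha hb, ((show Commute a b from h.comm a ha b hb).mul_mul_mul_comm a b)⟩
          inv_mem' := by
            rintro _ ⟨a, ha, rfl⟩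
            exact ⟨a⁻¹, inv_mem ha, mul_inv_rev _ _⟩ }
      intro f hf
      exact ((closure_le Hs).2 fun z hz => hz) hf
    obtain ⟨x, hx, e2⟩ := hcl _ hRe
    obtain ⟨v, rfl⟩ := hsurj x hx
    exact ⟨v, by rw [hψpow, pow_two, e2]⟩
  have hstd : μ R = stdRoot := by
    have hM : μ R = !![1, 0, 2 * v 0; 1, 1, 2 * v 1; 0, 1, 1 + 2 * v 2] := by
      refine hext _ _ fun w => ?_
      have hw : w = (w 0).val • ![1, 0, 0] + (w 1).val • ![0, 1, 0] + (w 2).val • ![0, 0, 1] := by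
        ext a; fin_cases a <;> simp
      have i0 : (!![1, 0, 2 * v 0; 1, 1, 2 * v 1; 0, 1, 1 + 2 * v 2] : Matrix (Fin 3) (Fin 3) (ZMod 4)) *ᵥ ![1, 0, 0] =
          ![0, 1, 0] + ![1, 0, 0] := by
        ext a; fin_cases a <;> simp [Matrix.mulVec, dotProduct, Fin.sum_univ_three]
      have i1 : (!![1, 0, 2 * v 0; 1, 1, 2 * v 1; 0, 1, 1 + 2 * v 2] : Matrix (Fin 3) (Fin 3) (ZMod 4)) *ᵥ ![0, 1, 0] =
          ![0, 0, 1] + ![0, 1, 0] := by
        ext a; fin_cases a <;> simp [Matrix.mulVec, dotProduct, Fin.sum_univ_three]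
      have i2 : (!![1, 0, 2 * v 0; 1, 1, 2 * v 1; 0, 1, 1 + 2 * v 2] : Matrix (Fin 3) (Fin 3) (ZMod 4)) *ᵥ ![0, 0, 1] =
          (2 : ℕ) • v + ![0, 0, 1] := by
        ext a; fin_cases a <;> simp [Matrix.mulVec, dotProduct, Fin.sum_univ_three, two_mul, two_nsmul, add_comm]
      rw [hw, Matrix.mulVec_add, Matrix.mulVec_add, Matrix.mulVec_smul, Matrix.mulVec_smul, Matrix.mulVec_smul,
        Matrix.mulVec_add, Matrix.mulVec_add, Matrix.mulVec_smul, Matrix.mulVec_smul, Matrix.mulVec_smul,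
        i0, i1, i2]
      have b0 : ψ (μ R *ᵥ ![1, 0, 0]) = ψ (![0, 1, 0] + ![1, 0, 0]) := by
        rw [hμ, hψadd, hψp, hψp1, hp1d, commutatorElement_def, inv_mul_cancel_right]
      have b1 : ψ (μ R *ᵥ ![0, 1, 0]) = ψ (![0, 0, 1] + ![0, 1, 0]) := by
        rw [hμ, hψadd, hψe, hψp1, hed, commutatorElement_def, inv_mul_cancel_right]
      have b2 : ψ (μ R *ᵥ ![0, 0, 1]) = ψ ((2 : ℕ) • v + ![0, 0, 1]) := by
        rw [hμ, hψadd, hv, hψe, commutatorElement_def, inv_mul_cancel_right]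
      rw [hψinj b0, hψinj b1, hψinj b2]
    rw [hM]
    refine stdRoot_cases _ _ _ ?_ ?_
    · rw [← hM, ← hμmul, ← hμmul]
      refine hμker _ ?_
      rw [show R * R * (R * R) = R ^ 4 by simp only [pow_succ, pow_zero, one_mul, mul_assoc], MonoidHom.mem_ker, map_pow, hR, root_four]
    · rw [← hM]; exact hdet R
  have hsqR : ∀ w, ψ ((stdRoot * stdRoot) *ᵥ w) = R ^ 2 * ψ w * (R ^ 2)⁻¹ := fun w => by
    rw [← hstd, ← hμmul, hμ, pow_two]
  set g := ψ ![2, 2, 1] with hg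
  refine ⟨g, hψk _, ?_, ?_, ?_, ?_, p, hp, ?_⟩
  · rw [← mul_inv_eq_iff_eq_mul, hg, ← hμ, hstd, stdRoot_g]
  · intro hgU
    have h1 : ψ (![2, 2, 1] + ![2, 2, 1]) = ψ 0 := by
      rw [hψadd]
      show g * g = _
      rw [h.exp g hgU]; simp [ψ]
    exact absurd (hψinj h1) (by decide)
  · intro x hx hRx
    obtain ⟨w, rfl⟩ := hsurj x hx
    have : μ R *ᵥ w = w := hψinj (by rw [hμ, hRx, mul_inv_cancel_right])
    rw [hstd] at this
    obtain ⟨n, rfl⟩ := stdRoot_fixed w this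
    exact ⟨(n : ℕ), hψpow _ _⟩
  · intro m hm
    obtain ⟨w, rfl⟩ := hsurj m hm
    obtain ⟨n, hn⟩ := stdRoot_image w
    exact ⟨(n : ℕ), by rw [← hsqR, ← hψadd, hn, hψpow]⟩
  · rw [hg, ← stdRoot_preimage, hψadd, hsqR, hψp]

end Cfsg.Agent.GroupStructure3.RankFourL32
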