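import Cfsg.Agent.GroupStructure3.RankFourL32.Coordinates

/-!
# No homocyclic radical of exponent four
-/

set_option autoImplicit false
set_option linter.all false

namespace Cfsg.Agent.GroupStructure3.RankFourL32

open Subgroup
open scoped commutatorElement

universe u

variable {X : Type u} [Group X] [Finite X] {π : X →* Q}

theorem layer_act (hD : Data π) (h8 : Nat.card (π.ker.map (QuotientGroup.mk' (Sq π))) = 8) :
    Act (quot π (Sq π) Sq_le) (π.ker.map (QuotientGroup.mk' (Sq π))) := by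
  let q := QuotientGroup.mk' (Sq π)
  refine ⟨fun g => by obtain ⟨x, hx⟩ := hD.surj g; exact ⟨q x, hx⟩, ?_,
    (MonoidHom.normal_ker π).map q (QuotientGroup.mk'_surjective _), fun a ha b hb => layer_comm ha hb,
    fun a ha => layer_sq ha, h8, ?_, ?_⟩
  · rw [ker_quot]; exact hD.pgroup.map _
  · intro k hk w hw
    rw [ker_quot] at hk
    exact layer_comm hk hw
  · obtain ⟨y, hy, hy7⟩ := exists_seven hD.surj hD.pgroup
    obtain ⟨p, hp, hpn⟩ := hD.moved hy hy7
    refine ⟨q y, q p, ⟨p, hp, rfl⟩, fun h => hpn ?_⟩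
    rw [← commutatorElement_eq_one_iff_mul_comm, ← map_commutatorElement] at h
    exact (QuotientGroup.eq_one_iff _).1 h

/-- Coinciding centres are detected by one common fixed vector. -/
theorem Act.centreType_of_common {G : Type*} [Group G] [Finite G] {π : G →* Q} {W : Subgroup G}
    (hA : Act π W) {k : Bool} {c : G} (hc : c ≠ 1)
    (h : ∀ (R : G) (i : Fin 3), π R = root k i → c ∈ cfix W R) : CentreType π W k := by
  intro R R' i j hR hR'
  obtain ⟨z, hz, -, hall⟩ := hA.exists_centre hR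
  obtain ⟨z', hz', -, hall'⟩ := hA.exists_centre hR'
  have e1 : c = z := (hall c (h R i hR)).resolve_left hc
  have e2 : c = z' := (hall' c (h R' j hR')).resolve_left hc
  ext x
  constructor
  · intro hx; rcases hall x hx with rfl | rfl
    · exact one_mem _
    · exact (e1.symm.trans e2) ▸ hz'
  · intro hx; rcases hall' x hx with rfl | rfl
    · exact one_mem _
    · exact (e2.symm.trans e1) ▸ hz

theorem no_core (hD : Data π) (hbase : Act π (Sq π))
    (h8 : Nat.card (π.ker.map (QuotientGroup.mk' (Sq π))) = 8) : False := by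
  classical
  let q := QuotientGroup.mk' (Sq π)
  set V := π.ker.map q with hV
  have hL : Act (quot π (Sq π) Sq_le) V := layer_act hD h8
  obtain ⟨y, hy, hy7⟩ := exists_seven hD.surj hD.pgroup
  have hFV : Fpf (q y) V := hL.toFpf hy (by rw [← map_pow, hy7, map_one])
  have hcen : ∀ f ∈ Sq π, ∀ p ∈ π.ker, p * f = f * p := fun f hf p hp => hbase.cent p hp f hf
  have hcj : ∀ (x : X) {p : X}, p ∈ π.ker → x * p * x⁻¹ ∈ π.ker := fun x p hp =>
    (MonoidHom.normal_ker π).conj_mem p hp x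
  -- squares depend only on classes
  have hsqq : ∀ a ∈ π.ker, ∀ b ∈ π.ker, q a = q b → a * a = b * b := by
    intro a ha b hb hab
    have hf : a⁻¹ * b ∈ Sq π := QuotientGroup.eq.1 hab
    symm
    calc b * b = a * ((a⁻¹ * b) * a) * (a⁻¹ * b) := by group
      _ = a * a * ((a⁻¹ * b) * (a⁻¹ * b)) := by rw [← hcen _ hf a ha]; group
      _ = a * a := by rw [hbase.sq _ hf, mul_one]
  have hsqne : ∀ a ∈ π.ker, a ∉ Sq π → a * a ≠ 1 := by
    intro a ha hna h1
    have hbot : Sq π = ⊥ := closure_eq_bot_iff.2 (by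
      rintro _ ⟨b, hb, rfl⟩
      by_cases hbS : b ∈ Sq π
      · exact hbase.sq b hbS
      obtain ⟨n, -, hn⟩ := hFV.orbit (v := q b) ⟨a, ha, rfl⟩ (fun e => hna ((QuotientGroup.eq_one_iff a).1 e))
        ⟨b, hb, rfl⟩ (fun e => hbS ((QuotientGroup.eq_one_iff b).1 e))
      rw [← map_pow, ← map_inv, ← map_mul, ← map_mul] at hn
      rw [← hsqq _ (hcj _ ha) b hb hn, conj_mul, h1, mul_one, mul_inv_cancel]
      exact rfl)
    have := hbase.card
    rw [hbot, card_bot] at this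
    omega
  have hsqfix : ∀ {R : X} {k : Bool} {i : Fin 3}, π R = root k i → ∀ a ∈ π.ker, q a ∈ cfix V (q R) →
      a * a ∈ cfix (Sq π) R := by
    intro R k i hR a ha hqa
    refine mem_cfix.2 ⟨sq_mem_Sq ha, mul_inv_eq_iff_eq_mul.1 ?_⟩
    rw [← conj_mul]
    refine hsqq _ (hcj R ha) a ha ?_
    rw [map_mul, map_mul, map_inv, (mem_cfix.1 hqa).2, mul_inv_cancel_right]
  obtain ⟨k, hk, hkA⟩ := hL.types
  -- the base has the same types
  obtain ⟨R0, hR0⟩ := hD.surj (root k 0)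
  obtain ⟨c, hc, hc1, -⟩ := hL.exists_centre (R := q R0) (k := k) (i := 0) hR0
  obtain ⟨e, he, rfl⟩ := (mem_cfix.1 hc).1
  have hek : e ∉ Sq π := fun h => hc1 ((QuotientGroup.eq_one_iff e).2 h)
  have hkU : CentreType π (Sq π) k := hbase.centreType_of_common (hsqne e he hek) fun R i hR =>
    hsqfix hR e he (hk (q R0) (q R) 0 i hR0 hR ▸ hc)
  have hkUA : AxisType π (Sq π) (!k) := by
    rcases hbase.type (!k) with h | h
    · exfalso
      obtain ⟨k', hk', hk'A⟩ := hbase.types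
      obtain ⟨S, hS⟩ := hD.surj (root (!k') 0)
      obtain ⟨S', hS'⟩ := hD.surj (root (!k') 1)
      refine (hk'A S S' 0 1 hS hS' (by decide)).1 ?_
      by_cases e : (!k') = k
      · rw [e] at hS hS'; exact hkU S S' 0 1 hS hS'
      · have e' : (!k') = !k := by cases k <;> cases k' <;> simp_all
        rw [e'] at hS hS'; exact h S S' 0 1 hS hS'
    · exact h
  -- the squaring is linear
  have hcomm : ∀ a ∈ π.ker, ∀ b ∈ π.ker, a * b = b * a := by
    have hex : ∀ i, ∃ S a, π S = root (!k) i ∧ a ∈ π.ker ∧ q a ∈ cfix V (q S) ∧ q a ≠ 1 := by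
      intro i
      obtain ⟨S, hS⟩ := hD.surj (root (!k) i)
      obtain ⟨c', hc', hc1', -⟩ := hL.exists_centre (R := q S) (k := !k) (i := i) hS
      obtain ⟨a, ha, rfl⟩ := (mem_cfix.1 hc').1
      exact ⟨S, a, hS, ha, hc', hc1'⟩
    obtain ⟨S0, a0, hS0, ha0, hq0, hn0⟩ := hex 0
    obtain ⟨S1, a1, hS1, ha1, hq1, hn1⟩ := hex 1
    obtain ⟨S2, a2, hS2, ha2, hq2, hn2⟩ := hex 2
    have hV2 : q a0 * q a1 = q a2 := hL.axis_mul hkA (R0 := q S0) (R1 := q S1) (R2 := q S2) hS0 hS1 hS2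
      hq0 hn0 hq1 hn1 hq2 hn2
    have hnS : ∀ a, q a ≠ 1 → a ∉ Sq π := fun a h h' => h ((QuotientGroup.eq_one_iff a).2 h')
    have hU2 : (a0 * a0) * (a1 * a1) = a2 * a2 :=
      hbase.axis_mul hkUA hS0 hS1 hS2 (hsqfix hS0 a0 ha0 hq0) (hsqne a0 ha0 (hnS _ hn0))
        (hsqfix hS1 a1 ha1 hq1) (hsqne a1 ha1 (hnS _ hn1)) (hsqfix hS2 a2 ha2 hq2) (hsqne a2 ha2 (hnS _ hn2))
    have h01 : a0 * a1 = a1 * a0 := by
      have h := hsqq _ (mul_mem ha0 ha1) a2 ha2 (by rw [map_mul, hV2])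
      rw [← hU2] at h
      have h' : a0 * (a1 * a0 * a1) = a0 * (a0 * (a1 * a1)) := by
        calc a0 * (a1 * a0 * a1) = a0 * a1 * (a0 * a1) := by group
          _ = a0 * a0 * (a1 * a1) := h
          _ = _ := by group
      have h'' := mul_left_cancel h'
      calc a0 * a1 = (a0 * (a1 * a1)) * a1⁻¹ := by group
        _ = (a1 * a0 * a1) * a1⁻¹ := by rw [h'']
        _ = a1 * a0 := by group
    have hn01 : q a0 ≠ q a1 := by
      intro e
      have : q a2 = 1 := by rw [← hV2, e]; exact layer_sq ⟨a1, ha1, rfl⟩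
      exact hn2 this
    have hlift : ∀ a ∈ π.ker, ∀ b ∈ π.ker, ∀ a' ∈ π.ker, ∀ b' ∈ π.ker, q a = q a' → q b = q b' →
        a * b = b * a → a' * b' = b' * a' := by
      intro a ha b hb a' ha' b' hb' ea eb hab
      have hfa : a⁻¹ * a' ∈ Sq π := QuotientGroup.eq.1 ea
      have hfb : b⁻¹ * b' ∈ Sq π := QuotientGroup.eq.1 eb
      obtain ⟨f, hf, rfl⟩ : ∃ f ∈ Sq π, a' = a * f := ⟨_, hfa, (mul_inv_cancel_left _ _).symm⟩
      obtain ⟨g, hg, rfl⟩ : ∃ g ∈ Sq π, b' = b * g := ⟨_, hfb, (mul_inv_cancel_left _ _).symm⟩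
      have h1 : Commute a b := hab
      have h2 : Commute a g := hcen g hg a ha
      have h3 : Commute f b := (hcen f hf b hb).symm
      have h4 : Commute f g := hbase.comm f hf g hg
      exact ((h1.mul_right h2).mul_left (h3.mul_right h4)).eq
    have hcent0 : ∀ x ∈ π.ker, a0 * x = x * a0 := by
      intro x hx
      by_cases hx1 : q x = 1
      · exact hcen x ((QuotientGroup.eq_one_iff x).1 hx1) a0 ha0
      by_cases hxa : q x = q a0
      · exact hlift a0 ha0 a0 ha0 a0 ha0 x hx rfl hxa.symm rfl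
      obtain ⟨n, u, v, hu, hv, hua, hvx⟩ := hFV.lines (x := q x) ⟨a0, ha0, rfl⟩ hn0 ⟨a1, ha1, rfl⟩ hn1 hn01
        ⟨x, hx, rfl⟩ hx1 hxa
      have hrep : ∀ w, w ∈ ({q a0, q a1, q a0 * q a1} : Set (X ⧸ Sq π)) →
          ∃ b ∈ π.ker, q b = w ∧ (b = a0 ∨ b = a1 ∨ b = a0 * a1) := by
        rintro w (rfl | rfl | rfl)
        · exact ⟨a0, ha0, rfl, Or.inl rfl⟩
        · exact ⟨a1, ha1, rfl, Or.inr (Or.inl rfl)⟩
        · exact ⟨_, mul_mem ha0 ha1, map_mul q a0 a1, Or.inr (Or.inr rfl)⟩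
      obtain ⟨bu, hbu, rfl, hbu'⟩ := hrep u hu
      obtain ⟨bv, hbv, rfl, hbv'⟩ := hrep v hv
      have hb : Commute bu bv := by
        have h01' : Commute a0 a1 := h01
        rcases hbu' with rfl | rfl | rfl <;> rcases hbv' with rfl | rfl | rfl
        all_goals first
          | exact Commute.refl _
          | exact h01'
          | exact h01'.symm
          | exact (Commute.refl _).mul_right h01'
          | exact h01'.symm.mul_right (Commute.refl _)
          | exact ((Commute.refl _).mul_right h01').symm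
          | exact (h01'.symm.mul_right (Commute.refl _)).symm
      rw [← map_pow, ← map_inv, ← map_mul, ← map_mul] at hua hvx
      exact hlift _ (hcj _ hbu) _ (hcj _ hbv) a0 ha0 x hx hua hvx (by
        calc y ^ n * bu * (y ^ n)⁻¹ * (y ^ n * bv * (y ^ n)⁻¹) = y ^ n * (bu * bv) * (y ^ n)⁻¹ := by group
          _ = y ^ n * (bv * bu) * (y ^ n)⁻¹ := by rw [hb.eq]
          _ = _ := by group)
    intro a ha b hb
    by_cases ha1' : q a = 1
    · exact (hcen a ((QuotientGroup.eq_one_iff a).1 ha1') b hb).symm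
    obtain ⟨n, -, hn⟩ := hFV.orbit ⟨a0, ha0, rfl⟩ hn0 ⟨a, ha, rfl⟩ ha1'
    rw [← map_pow, ← map_inv, ← map_mul, ← map_mul] at hn
    refine hlift _ (hcj _ ha0) b hb a ha b hb hn rfl ?_
    have h := hcent0 ((y ^ n)⁻¹ * b * y ^ n) (by simpa using hcj (y ^ n)⁻¹ hb)
    calc y ^ n * a0 * (y ^ n)⁻¹ * b = y ^ n * (a0 * ((y ^ n)⁻¹ * b * y ^ n)) * (y ^ n)⁻¹ := by group
      _ = y ^ n * (((y ^ n)⁻¹ * b * y ^ n) * a0) * (y ^ n)⁻¹ := by rw [h]
      _ = _ := by group
  have hH : Homocyclic π := ⟨hD, hcomm, hbase.sq, hL, hbase, fun p hp h => by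
    by_contra hn; exact hsqne p hp hn h⟩
  -- the common centre
  set f := e * e with hf
  have hf1 : f ≠ 1 := hsqne e he hek
  have hff : f * f = 1 := hbase.sq f (sq_mem_Sq he)
  have hfc : ∀ (R : X) (i : Fin 3), π R = root k i → f ∈ cfix (Sq π) R := fun R i hR =>
    hsqfix hR e he (hk (q R0) (q R) 0 i hR0 hR ▸ hc)
  set N := zpowers f with hN
  have hN2 : Nat.card N = 2 := by rw [Nat.card_zpowers, orderOf_eq_prime (by rw [pow_two, hff]) hf1]
  have hNfix : ∀ (R : X) (i : Fin 3), π R = root k i → ∀ x ∈ N, R ^ 2 * x = x * R ^ 2 := by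
    intro R i hR x hx
    obtain ⟨m, rfl⟩ := mem_zpowers_iff.1 hx
    exact (((show Commute R f from (mem_cfix.1 (hfc R i hR)).2).pow_left 2).zpow_right m).eq
  have hcfN : ∀ {R : X} {i : Fin 3}, π R = root k i → ∀ x ∈ cfix (Sq π) R, x ∈ N := by
    intro R i hR x hx
    by_cases hx1 : x = 1
    · rw [hx1]; exact one_mem _
    · rw [hbase.eq_centre hR hx hx1 (hfc R i hR) hf1]; exact mem_zpowers f
  -- data for each involution
  have key : ∀ i, ∃ R A g, π R = root k i ∧ π A = root k i ^ 2 ∧ g ∈ π.ker ∧ g ∉ Sq π ∧ q g = q e ∧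
      g * g = f ∧ A * A ∈ N ∧ A * g = g * A ∧ ∀ x ∈ π.ker, A * x * A⁻¹ = R ^ 2 * x * (R ^ 2)⁻¹ := by
    intro i
    obtain ⟨R, hR⟩ := hD.surj (root k i)
    obtain ⟨g, hg, hRg, hgn, hfix, himg, p, hp, hpg⟩ := root_facts hH hR
    have hqg : q g = q e := by
      refine hL.eq_centre (R := q R) (k := k) (i := i) hR (mem_cfix.2 ⟨⟨g, hg, rfl⟩, ?_⟩)
        (fun h => hgn ((QuotientGroup.eq_one_iff g).1 h)) (hk (q R0) (q R) 0 i hR0 hR ▸ hc) hc1
      rw [← map_mul, ← map_mul, hRg]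
    have hgg : g * g = f := hsqq g hg e he hqg
    have hR4 : R ^ 2 * R ^ 2 ∈ π.ker := by rw [← pow_add, MonoidHom.mem_ker, map_pow, hR, root_four]
    obtain ⟨n, hn⟩ := hfix _ hR4 (by rw [← pow_add]; exact (Commute.self_pow R 4).eq)
    have hact : ∀ z ∈ π.ker, ∀ x ∈ π.ker, R ^ 2 * z * x * (R ^ 2 * z)⁻¹ = R ^ 2 * x * (R ^ 2)⁻¹ := by
      intro z hz x hx
      calc R ^ 2 * z * x * (R ^ 2 * z)⁻¹ = R ^ 2 * ((z * x) * z⁻¹) * (R ^ 2)⁻¹ := by group
        _ = _ := by rw [hcomm z hz x hx, mul_inv_cancel_right]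
    have hgev : ∀ m, g ^ (2 * m) ∈ N := fun m => by
      rw [pow_mul, pow_two, hgg]; exact pow_mem (mem_zpowers f) m
    rcases Nat.even_or_odd n with hev | hodd
    · refine ⟨R, R ^ 2, g, hR, by rw [map_pow, hR], hg, hgn, hqg, hgg, ?_,
        ((show Commute R g from hRg).pow_left 2).eq, fun x _ => rfl⟩
      rw [hn]; obtain ⟨m, rfl⟩ := hev; rw [← two_mul]; exact hgev m
    · refine ⟨R, R ^ 2 * p, g, hR, by rw [map_mul, map_pow, hR, MonoidHom.mem_ker.1 hp, mul_one], hg, hgn,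
        hqg, hgg, ?_, ?_, fun x hx => hact p hp x hx⟩
      · have e2 : R ^ 2 * p * (R ^ 2 * p) = (R ^ 2 * p * (R ^ 2)⁻¹) * (R ^ 2 * R ^ 2) * p := by group
        rw [e2, hn, hcomm _ (hcj _ hp) _ (pow_mem hg n), mul_assoc, hpg, ← pow_succ]
        obtain ⟨m, rfl⟩ := hodd
        rw [show 2 * m + 1 + 1 = 2 * (m + 1) by ring]; exact hgev _
      · have h1 := hact p hp g hg
        rw [((show Commute R g from hRg).pow_left 2).eq, mul_inv_cancel_right] at h1
        exact mul_inv_eq_iff_eq_mul.1 h1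
  choose R A g hR hA hg hgn hqg hgg hAA hAg hact using key
  have hAN : ∀ i, ∀ x ∈ N, A i * x = x * A i := by
    intro i x hx
    rw [← mul_inv_eq_iff_eq_mul, hact i x (Sq_le (zpowers_le.2 (sq_mem_Sq he) hx)), hNfix (R i) i (hR i) x hx,
      mul_inv_cancel_right]
  -- the commutator of two of the lifts
  have hck : ∀ i j, ⁅A i, A j⁆ ∈ π.ker := fun i j => by
    rw [MonoidHom.mem_ker, map_commutatorElement, commutatorElement_eq_one_iff_mul_comm, hA, hA, root_comm]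
  have hanti : ∀ i j, A i * ⁅A i, A j⁆ * (A i)⁻¹ * ⁅A i, A j⁆ = 1 := by
    intro i j
    calc A i * ⁅A i, A j⁆ * (A i)⁻¹ * ⁅A i, A j⁆ = ⁅A i * A i, A j⁆ := by
          simp only [commutatorElement_def]; group
      _ = 1 := by rw [commutatorElement_eq_one_iff_mul_comm, hAN j _ (hAA i)]
  have hgood : ∀ i j, i ≠ j → ⁅A i, A j⁆ ∈ Sq π → ⁅A i, A j⁆ ∈ N := by
    intro i j hij hcU
    have hfix' : ∀ i' j', ⁅A i', A j'⁆ ∈ Sq π → ⁅A i', A j'⁆ ∈ cfix (Sq π) (R i' ^ 2) := by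
      intro i' j' h
      refine mem_cfix.2 ⟨h, mul_inv_eq_iff_eq_mul.1 ?_⟩
      rw [← hact i' _ (hck i' j'), mul_eq_one_iff_eq_inv.1 (hanti i' j'), inv_eq_of_mul_eq_one_right (hbase.sq _ h)]
    have h1 := hfix' i j hcU
    have h2 : ⁅A i, A j⁆ ∈ cfix (Sq π) (R j ^ 2) := by
      have hswap : ⁅A j, A i⁆ = ⁅A i, A j⁆ := by
        rw [← commutatorElement_inv, inv_eq_of_mul_eq_one_right (hbase.sq _ hcU)]
      exact hswap ▸ hfix' j i (hswap.symm ▸ hcU)
    refine hcfN (hR i) _ ?_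
    rw [← hbase.inf_axes hkU (hR i) (hR j) hij]
    exact ⟨h1, h2⟩
  -- some pair commutes modulo the common centre
  obtain ⟨i, j, hij, hij'⟩ : ∃ i j, i ≠ j ∧ ⁅A i, A j⁆ ∈ N := by
    by_cases h01 : ⁅A 0, A 1⁆ ∈ Sq π
    · exact ⟨0, 1, by decide, hgood 0 1 (by decide) h01⟩
    set c := ⁅A 0, A 1⁆ with hcd
    set m := (A 0 * A 1)⁻¹ * A 2 with hm
    have hmk : m ∈ π.ker := by
      rw [MonoidHom.mem_ker, hm, map_mul, map_inv, map_mul, hA, hA, hA, root_mul, inv_mul_cancel]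
    have hA2 : A 2 = A 0 * A 1 * m := by rw [hm]; group
    -- classes in the layer
    have hqc : ∀ i j, ⁅A i, A j⁆ ∉ Sq π → q ⁅A i, A j⁆ ≠ 1 := fun i j h h' => h ((QuotientGroup.eq_one_iff _).1 h')
    have hqA : ∀ i, quot π (Sq π) Sq_le (q (A i)) = root k i ^ 2 := fun i => hA i
    have hbr : ∀ i, ∀ x ∈ π.ker, q ⁅A i, x⁆ ∈ cfix V (q (R 0)) := by
      intro i x hx
      have e2 : ⁅A i, x⁆ = ⁅R i ^ 2, x⁆ := by rw [commutatorElement_def, commutatorElement_def, hact i x hx]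
      rw [e2, map_commutatorElement, map_pow, hk (q (R 0)) (q (R i)) 0 i (hR 0) (hR i)]
      exact (hL.centre (R := q (R i)) (k := k) (i := i) (hR i)).2.2.2 _ ⟨x, hx, rfl⟩
    have hconjV : ∀ i, ∀ v ∈ cfix V (q (R 0)), q (A i) * v = v * q (A i) := by
      intro i v hv
      rw [hk (q (R 0)) (q (R i)) 0 i (hR 0) (hR i)] at hv
      have hs := (hL.centre (R := q (R i)) (k := k) (i := i) (hR i)).2.2.1 hv
      refine (hL.comm_congr (g := q (A i)) (g' := q (R i) ^ 2) ?_ (mem_cfix.1 hs).1).2 (mem_cfix.1 hs).2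
      rw [map_pow]; exact (hA i).trans (congrArg (· ^ 2) (hR i).symm)
    -- the class of the commutator is the centre
    have hcV : q c ∈ cfix V (q (R 0)) := by
      have hVc : ∀ i, ⁅A 0, A 1⁆ = c → A i * c * (A i)⁻¹ * c = 1 → q c ∈ cfix V (q (R i) ^ 2) := by
        intro i _ h
        refine mem_cfix.2 ⟨⟨c, hck 0 1, rfl⟩, ?_⟩
        rw [← mul_inv_eq_iff_eq_mul, ← map_pow, ← map_inv, ← map_mul, ← map_mul, ← hact i c (hck 0 1),
          mul_eq_one_iff_eq_inv.1 h, map_inv, inv_eq_of_mul_eq_one_right (layer_sq ⟨c, hck 0 1, rfl⟩)]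
      have h1 := hVc 0 rfl (hanti 0 1)
      have h2 := hVc 1 rfl (by
        have hh := hanti 1 0
        rw [← commutatorElement_inv] at hh
        rw [← hcd] at hh
        have e3 : A 1 * c⁻¹ * (A 1)⁻¹ * c⁻¹ = (c * (A 1 * c * (A 1)⁻¹))⁻¹ := by group
        rw [e3, inv_eq_one, hcomm c (hck 0 1) _ (hcj _ (hck 0 1))] at hh
        exact hh)
      rw [← hL.inf_axes hk (R := q (R 0)) (R' := q (R 1)) (i := 0) (j := 1) (hR 0) (hR 1) (by decide)]
      exact ⟨h1, h2⟩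
    have hodd : ⁅A 2, m⁆ ∉ Sq π := by
      intro hmU
      refine h01 ?_
      have e4 : A 2 * A 2 = c * (A 1 * (A 0 * A 0) * (A 1)⁻¹) * (A 1 * A 1) * ((A 0 * A 1)⁻¹ * m * (A 0 * A 1) * m) := by
        rw [hA2, hcd]; simp only [commutatorElement_def]; group
      have hN0 : ∀ x ∈ N, x ∈ Sq π := fun x hx => zpowers_le.2 (sq_mem_Sq he) hx
      have e5 : (A 0 * A 1)⁻¹ * m * (A 0 * A 1) * m ∈ Sq π := by
        have hkk : (A 0 * A 1) * m * (A 0 * A 1)⁻¹ = A 2 * m * (A 2)⁻¹ := by rw [hA2]; group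
        have hinv2 : (A 0 * A 1)⁻¹ * m * (A 0 * A 1) = A 2 * m * (A 2)⁻¹ := by
          rw [← hkk]
          have hsqk : (A 0 * A 1) * (A 0 * A 1) ∈ π.ker := by
            rw [MonoidHom.mem_ker, map_mul, map_mul, hA, hA, root_mul, ← pow_add, root_four]
          calc (A 0 * A 1)⁻¹ * m * (A 0 * A 1)
              = (A 0 * A 1)⁻¹ * ((A 0 * A 1 * (A 0 * A 1)) * m * (A 0 * A 1 * (A 0 * A 1))⁻¹) * (A 0 * A 1) := by
                rw [hcomm _ hsqk m hmk, mul_inv_cancel_right]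
            _ = _ := by group
        rw [hinv2, show A 2 * m * (A 2)⁻¹ * m = ⁅A 2, m⁆ * (m * m) by simp only [commutatorElement_def]; group]
        exact mul_mem hmU (sq_mem_Sq hmk)
      have hA0c : A 1 * (A 0 * A 0) * (A 1)⁻¹ = A 0 * A 0 := by rw [hAN 1 _ (hAA 0), mul_inv_cancel_right]
      rw [hA0c] at e4
      have h2 := hN0 _ (hAA 2)
      rw [e4, mul_mem_cancel_right e5, mul_mem_cancel_right (hN0 _ (hAA 1)), mul_mem_cancel_right (hN0 _ (hAA 0))] at h2
      exact h2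
    have hne : q ⁅A 2, m⁆ ≠ 1 := fun h => hodd ((QuotientGroup.eq_one_iff _).1 h)
    have hsplit : q ⁅A 2, m⁆ = q ⁅A 1, m⁆ * q ⁅A 0, m⁆ := by
      have h1 : ⁅A 2, m⁆ = (A 0 * ⁅A 1, m⁆ * (A 0)⁻¹) * ⁅A 0, m⁆ := by
        rw [hA2]; simp only [commutatorElement_def]; group
      rw [h1, map_mul, map_mul, map_mul, map_inv, hconjV 0 _ (hbr 1 m hmk), mul_inv_cancel_right]
    obtain ⟨cc, -, hcc1, hall⟩ := hL.exists_centre (R := q (R 0)) (k := k) (i := 0) (hR 0)
    have hqcc : q c = cc := (hall _ hcV).resolve_left (hqc 0 1 h01)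
    have hcc2 : cc * cc = 1 := hqcc ▸ layer_sq ⟨c, hck 0 1, rfl⟩
    rcases hall _ (hbr 1 m hmk) with h | h
    · -- the first involution moves the correction
      have h0 : q ⁅A 0, m⁆ = cc := by
        refine (hall _ (hbr 0 m hmk)).resolve_left fun h0 => hne ?_
        rw [hsplit, h, h0, one_mul]
      refine ⟨0, 2, by decide, hgood 0 2 (by decide) ((QuotientGroup.eq_one_iff _).1 ?_)⟩
      show q ⁅A 0, A 2⁆ = 1
      have e6 : ⁅A 0, A 2⁆ = A 0 * (c * (A 1 * ⁅A 0, m⁆ * (A 1)⁻¹)) * (A 0)⁻¹ := by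
        rw [hA2, hcd]; simp only [commutatorElement_def]; group
      rw [e6, map_mul, map_mul, map_mul, map_mul, map_mul, map_inv, map_inv, h0, hqcc,
        hconjV 1 cc (h0 ▸ hbr 0 m hmk), mul_inv_cancel_right, hcc2, mul_one, mul_inv_cancel]
    · -- the second does
      refine ⟨1, 2, by decide, hgood 1 2 (by decide) ((QuotientGroup.eq_one_iff _).1 ?_)⟩
      show q ⁅A 1, A 2⁆ = 1
      have e6 : ⁅A 1, A 2⁆ = c⁻¹ * (A 0 * (A 1 * ⁅A 1, m⁆ * (A 1)⁻¹) * (A 0)⁻¹) := by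
        rw [hA2, hcd]; simp only [commutatorElement_def]; group
      rw [e6, map_mul, map_mul, map_mul, map_mul, map_mul, map_inv, map_inv, map_inv, h, hqcc,
        hconjV 1 cc (h ▸ hbr 1 m hmk), mul_inv_cancel_right, hconjV 0 cc (h ▸ hbr 1 m hmk), mul_inv_cancel_right,
        inv_mul_cancel]
  -- the section of rank five
  let S : Set X := (Sq π : Set X) ∪ {g i, A i, A j}
  have hAmod : ∀ i', ∀ x ∈ Sq π, ⁅A i', x⁆ ∈ N := by
    intro i' x hx
    refine hcfN (hR i') _ ?_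
    rw [commutatorElement_def, hact i' x (Sq_le hx), ← commutatorElement_def]
    exact (hbase.centre (hR i')).2.2.2 x hx
  have hAgi : ⁅A j, g i⁆ ∈ N := by
    have hf' : (g j)⁻¹ * g i ∈ Sq π := QuotientGroup.eq.1 ((hqg j).trans (hqg i).symm)
    have e2 : ⁅A j, g i⁆ = ⁅A j, (g j)⁻¹ * g i⁆ := by
      have h1 : A j * g j * (A j)⁻¹ = g j := by rw [hAg j, mul_inv_cancel_right]
      calc ⁅A j, g i⁆ = (A j * g j * (A j)⁻¹) * ⁅A j, (g j)⁻¹ * g i⁆ * (g j)⁻¹ := by
            simp only [commutatorElement_def]; group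
        _ = _ := by
          have h2 : ⁅A j, (g j)⁻¹ * g i⁆ ∈ Sq π :=
            mul_mem (hbase.normal.conj_mem _ hf' (A j)) (inv_mem hf')
          rw [h1, hcen _ h2 (g j) (hg j), mul_inv_cancel_right]
    rw [e2]; exact hAmod j _ hf'
  have hNk : ∀ x ∈ N, x ∈ π.ker := fun x hx => Sq_le (zpowers_le.2 (sq_mem_Sq he) hx)
  have hb := section_bound hD.rank (N := N) (S := S)
    (fun s hs x hx => by
      rcases hs with hs | rfl | rfl | rfl
      · rw [hcomm s (Sq_le hs) x (hNk x hx), mul_inv_cancel_right]; exact hx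
      · rw [hcomm _ (hg i) x (hNk x hx), mul_inv_cancel_right]; exact hx
      · rw [hAN i x hx, mul_inv_cancel_right]; exact hx
      · rw [hAN j x hx, mul_inv_cancel_right]; exact hx)
    (by
      rintro s (hs | rfl | rfl | rfl)
      · rw [hbase.sq s hs]; exact one_mem _
      · rw [hgg]; exact mem_zpowers f
      · exact hAA i
      · exact hAA j)
    (by
      have hsw : ∀ a b : X, ⁅a, b⁆ ∈ N → ⁅b, a⁆ ∈ N := fun a b h => by
        rw [← commutatorElement_inv]; exact inv_mem h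
      have hone : ∀ a b : X, a * b = b * a → ⁅a, b⁆ ∈ N := fun a b h => by
        rw [commutatorElement_eq_one_iff_mul_comm.2 h]; exact one_mem _
      rintro s (hs | rfl | rfl | rfl) t (ht | rfl | rfl | rfl)
      exacts [hone _ _ (hcomm _ (Sq_le hs) _ (Sq_le ht)), hone _ _ (hcomm _ (Sq_le hs) _ (hg i)),
        hsw _ _ (hAmod i s hs), hsw _ _ (hAmod j s hs),
        hone _ _ (hcomm _ (hg i) _ (Sq_le ht)), hone _ _ rfl, hone _ _ (hAg i).symm, hsw _ _ hAgi,
        hAmod i t ht, hone _ _ (hAg i), hone _ _ rfl, hij',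
        hAmod j t ht, hAgi, hsw _ _ hij', hone _ _ rfl])
  have hP0 : Sq π ⊔ zpowers (g i) ≤ π.ker := sup_le Sq_le (zpowers_le.2 (hg i))
  have hge := card_ge_pair (π := π) (K := Subgroup.closure (S ∪ (N : Set X))) (P0 := Sq π ⊔ zpowers (g i))
    (sup_le (fun x hx => Subgroup.subset_closure (Or.inl (Or.inl hx)))
      (zpowers_le.2 (Subgroup.subset_closure (Or.inl (Or.inr (Or.inl rfl))))))
    hP0 hij (hA i) (hA j) (Subgroup.subset_closure (Or.inl (Or.inr (Or.inr (Or.inl rfl)))))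
    (Subgroup.subset_closure (Or.inl (Or.inr (Or.inr (Or.inr rfl)))))
  have h16 : 16 ≤ Nat.card ↥(Sq π ⊔ zpowers (g i)) := by
    obtain ⟨d, hd⟩ := card_dvd_of_le (le_sup_left : Sq π ≤ Sq π ⊔ zpowers (g i))
    rw [hbase.card] at hd
    rcases d with _ | _ | d
    · have := Nat.card_pos (α := ↥(Sq π ⊔ zpowers (g i))); omega
    · exfalso
      have e2 := eq_of_le_of_card_ge (le_sup_left : Sq π ≤ Sq π ⊔ zpowers (g i)) (by rw [hd, hbase.card])
      exact hgn i (e2.ge (mem_sup_right (mem_zpowers _)))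
    · omega
  rw [hN2] at hb
  omega

end Cfsg.Agent.GroupStructure3.RankFourL32
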