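import Cfsg.Agent.GroupStructure3.RankFourL32.Squares
import Cfsg.Agent.GroupStructure3.RankFourL32.Central

/-!
# The cyclic factor has order at most four
-/

set_option autoImplicit false
set_option linter.all false

namespace Cfsg.Agent.GroupStructure3.RankFourL32

open Subgroup
open scoped commutatorElement

universe u

variable {X : Type u} [Group X] [Finite X] {π : X →* Q}

/-- The elements of an abelian kernel killed by a fixed exponent. -/
def torsion (π : X →* Q) (hc : ∀ a ∈ π.ker, ∀ b ∈ π.ker, a * b = b * a) (d : ℕ) : Subgroup X where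
  carrier := {p | p ∈ π.ker ∧ p ^ d = 1}
  one_mem' := ⟨one_mem _, one_pow d⟩
  mul_mem' := fun {a b} ha hb => ⟨mul_mem ha.1 hb.1, by
    rw [(show Commute a b from hc a ha.1 b hb.1).mul_pow, ha.2, hb.2, one_mul]⟩
  inv_mem' := fun {a} ha => ⟨inv_mem ha.1, by rw [inv_pow, ha.2, inv_one]⟩

theorem mem_torsion {hc : ∀ a ∈ π.ker, ∀ b ∈ π.ker, a * b = b * a} {d : ℕ} {p : X} :
    p ∈ torsion π hc d ↔ p ∈ π.ker ∧ p ^ d = 1 := Iff.rfl

theorem torsion_normal (hc : ∀ a ∈ π.ker, ∀ b ∈ π.ker, a * b = b * a) (d : ℕ) :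
    (torsion π hc d).Normal :=
  ⟨fun n hn g => ⟨(MonoidHom.normal_ker π).conj_mem n hn.1 g, by rw [conj_pow, hn.2, mul_one, mul_inv_cancel]⟩⟩

theorem Split.torsion_spec {W : Subgroup X} {t : X} (h : Split π W t 3) {d m : ℕ} (hd : 2 ∣ d)
    (hdm : d * m = 8) :
    Nat.card (torsion π h.comm d) = 8 * d ∧
      ∀ p ∈ torsion π h.comm d, ∃ w ∈ W, ∃ j : ℕ, p = w * (t ^ m) ^ j := by
  have hord := h.order
  norm_num at hord
  have hwd : ∀ w ∈ W, w ^ d = 1 := fun w hw => by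
    obtain ⟨a, rfl⟩ := hd
    rw [pow_mul, pow_two, h.sqW w hw, one_pow]
  have htd : (t ^ m) ^ d = 1 := by
    rw [← pow_mul, mul_comm, hdm, ← hord, pow_orderOf_eq_one]
  have hd0 : 0 < d := Nat.pos_of_ne_zero (by rintro rfl; simp at hdm)
  have hm0 : 0 < m := Nat.pos_of_ne_zero (by rintro rfl; simp at hdm)
  have htmd : orderOf (t ^ m) = d := by
    rw [orderOf_pow, hord, Nat.gcd_eq_right ⟨d, by rw [mul_comm, hdm]⟩]
    exact Nat.div_eq_of_eq_mul_left hm0 hdm.symm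
  have hmem : ∀ w ∈ W, ∀ j : ℕ, w * (t ^ m) ^ j ∈ torsion π h.comm d := fun w hw j =>
    ⟨mul_mem (h.leW hw) (pow_mem (pow_mem h.mem m) j), by
      rw [(show Commute w ((t ^ m) ^ j) from h.comm w (h.leW hw) _ (pow_mem (pow_mem h.mem m) j)).mul_pow,
        hwd w hw, ← pow_mul, mul_comm, pow_mul, htd, one_pow, one_mul]⟩
  have hgen : ∀ p ∈ torsion π h.comm d, ∃ w ∈ W, ∃ j : ℕ, p = w * (t ^ m) ^ j := by
    intro p hp
    obtain ⟨w, hw, n, rfl⟩ := h.gen p hp.1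
    have h1 := hp.2
    rw [(show Commute w (t ^ n) from h.comm w (h.leW hw) _ (pow_mem h.mem n)).mul_pow, hwd w hw, one_mul,
      ← pow_mul, ← orderOf_dvd_iff_pow_eq_one, hord, ← hdm, mul_comm n] at h1
    obtain ⟨j, rfl⟩ := Nat.dvd_of_mul_dvd_mul_left hd0 h1
    exact ⟨w, hw, j, by rw [pow_mul]⟩
  refine ⟨?_, hgen⟩
  conv_rhs => rw [← h.cardW, ← htmd, ← Nat.card_zpowers, ← Nat.card_prod]
  refine (Nat.card_congr (Equiv.ofBijective (fun p : W × zpowers (t ^ m) =>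
    (⟨(p.1 : X) * (p.2 : X), ?_⟩ : torsion π h.comm d)) ⟨?_, ?_⟩)).symm
  · obtain ⟨j, hj⟩ := Submonoid.mem_powers_iff _ _ |>.1 (mem_powers_iff_mem_zpowers.2 p.2.2)
    rw [← hj]; exact hmem _ p.1.2 j
  · rintro ⟨⟨a, ha⟩, ⟨b, hb⟩⟩ ⟨⟨c, hc⟩, ⟨e, he'⟩⟩ he
    have he1 : a * b = c * e := congrArg Subtype.val he
    have e2 : c⁻¹ * a = e * b⁻¹ := by
      rw [inv_mul_eq_iff_eq_mul, ← mul_assoc, ← he1, mul_inv_cancel_right]
    obtain ⟨j, hj⟩ := Submonoid.mem_powers_iff _ _ |>.1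
      (mem_powers_iff_mem_zpowers.2 (mul_mem he' (inv_mem hb) : e * b⁻¹ ∈ zpowers (t ^ m)))
    have h1 : e * b⁻¹ = 1 := by
      rw [← hj, ← pow_mul]
      refine h.disj _ ?_
      rw [pow_mul, hj, ← e2]
      exact mul_mem (inv_mem hc) ha
    rw [h1, inv_mul_eq_one] at e2
    rw [mul_inv_eq_one] at h1
    subst e2; subst h1; rfl
  · rintro ⟨p, hp⟩
    obtain ⟨w, hw, j, rfl⟩ := hgen p hp
    exact ⟨⟨⟨w, hw⟩, ⟨(t ^ m) ^ j, pow_mem (mem_zpowers _) j⟩⟩, rfl⟩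

theorem no_eight (hD : Data π) {W : Subgroup X} {t : X} (h : Split π W t 3) : False := by
  classical
  haveI : Fact (Nat.Prime 7) := ⟨by norm_num⟩
  have hord : orderOf t = 8 := by rw [h.order]; norm_num
  obtain ⟨hΩc, hΩg⟩ := h.torsion_spec (d := 2) (m := 4) dvd_rfl rfl
  obtain ⟨hPc, hPg⟩ := h.torsion_spec (d := 4) (m := 2) (by norm_num) rfl
  set Ω := torsion π h.comm 2 with hΩ
  set P1 := torsion π h.comm 4 with hP1
  haveI : Ω.Normal := torsion_normal h.comm 2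
  haveI : P1.Normal := torsion_normal h.comm 4
  norm_num at hΩc hPc
  have hΩsq : ∀ o ∈ Ω, o * o = 1 := fun o ho => by rw [← pow_two]; exact ho.2
  have h64 : Nat.card π.ker = 64 := h.card
  have h2 : Nat.card π.ker = 2 * Nat.card P1 := by rw [h64, hPc]
  have hle : P1 ≤ π.ker := fun p hp => hp.1
  set u := t * t with hu
  have huk : u ∈ π.ker := mul_mem h.mem h.mem
  have hu2 : u = t ^ 2 := (pow_two t).symm
  have huo : orderOf u = 4 := by rw [hu2, orderOf_pow, hord]; norm_num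
  have hucen : ∀ g, g * u = u * g := central_of_zpowers hD.surj (fun k hk => h.comm k hk u huk) fun g => by
    rw [← h.Sq_eq]; exact (inferInstance : (Sq π).Normal).conj_mem _ (sq_mem_Sq h.mem) g
  have huP : u ∈ P1 := ⟨huk, by rw [← huo, pow_orderOf_eq_one]⟩
  have hu2Ω : u ^ 2 ∈ Ω := ⟨pow_mem huk 2, by rw [← pow_mul, show 2 * 2 = 4 from rfl, ← huo, pow_orderOf_eq_one]⟩
  rcases split_or hD P1 hle h2 with ⟨X1, hinf, hsup⟩ | hout
  · obtain ⟨hD1, hc1⟩ := hD.sub hinf hsup h2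
    have hPX : P1 ≤ X1 := hinf ▸ inf_le_left
    have hΩP : Ω ≤ P1 := fun o ho => ⟨ho.1, by rw [show 4 = 2 * 2 from rfl, pow_mul, ho.2, one_pow]⟩
    have hΩX : Ω ≤ X1 := hΩP.trans hPX
    haveI : (Ω.subgroupOf X1).Normal := Subgroup.normal_subgroupOf
    refine no_central_cyclic 0 hD1 (Ω.subgroupOf X1) ⟨u, hPX huP⟩ (fun o ho => ho.1) ?_ ?_ ?_ huk ?_ ?_ ?_ ?_
    · rw [Nat.card_congr (subgroupOfEquivOfLe hΩX).toEquiv, hΩc]
    · exact fun o ho => Subtype.ext (hΩsq _ ho)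
    · exact fun a ha b hb => Subtype.ext (h.comm _ ha _ hb)
    · rw [← Subgroup.orderOf_coe]; exact huo
    · exact hu2Ω
    · exact fun g => Subtype.ext (hucen g)
    · intro p hp
      have hpP : (p : X) ∈ P1 := hinf ▸ mem_inf.2 ⟨p.2, hp⟩
      obtain ⟨w, hw, j, hj⟩ := hPg _ hpP
      have hwΩ : w ∈ Ω := ⟨h.leW hw, by rw [pow_two]; exact h.sqW w hw⟩
      refine ⟨⟨w, hΩX hwΩ⟩, hwΩ, j, Subtype.ext ?_⟩
      rw [hj, ← hu2]; simp
  obtain ⟨y, hy, hy7⟩ := exists_seven hD.surj hD.pgroup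
  let q := QuotientGroup.mk' (Sq π)
  set V := π.ker.map q with hV
  set W1 := P1.map q with hW1
  haveI : V.Normal := (MonoidHom.normal_ker π).map q (QuotientGroup.mk'_surjective _)
  haveI : W1.Normal := ‹P1.Normal›.map q (QuotientGroup.mk'_surjective _)
  have hU : Sq π ≤ P1 := by rw [h.Sq_eq]; exact zpowers_le.2 huP
  have hU4 : Nat.card (Sq π) = 4 := by rw [h.Sq_eq, Nat.card_zpowers]; exact huo
  have hV16 : Nat.card V = 16 :=
    Nat.eq_of_mul_eq_mul_right (show 0 < 4 by norm_num)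
      (by rw [← hU4, ← card_map_quot (Sq π) Sq_le, h64, hU4])
  have hW8 : Nat.card W1 = 8 :=
    Nat.eq_of_mul_eq_mul_right (show 0 < 4 by norm_num)
      (by rw [← hU4, ← card_map_quot (Sq π) hU, hPc, hU4])
  have hW1V : W1 ≤ V := map_mono hle
  have hinv : ∀ w ∈ W1, q y * w * (q y)⁻¹ ∈ W1 := fun w hw => ‹W1.Normal›.conj_mem w hw _
  have hqy7 : q y ^ 7 = 1 := by rw [← map_pow, hy7, map_one]
  obtain ⟨W0, -, -, -, -, hcardV, -⟩ := layer_split hD hy hy7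
  have hC2 : Nat.card ↥(V ⊓ centralizer {q y}) = 2 :=
    Nat.eq_of_mul_eq_mul_left (show 0 < 8 by norm_num) (hcardV.symm.trans hV16)
  have hF : Fpf (q y) W1 := by
    refine ⟨hqy7, hinv, fun a ha b hb => layer_comm (hW1V ha) (hW1V hb), fun a ha => layer_sq (hW1V ha), hW8, ?_⟩
    have hmod := RankFourA5.card_modEq (q := 7) hqy7 W1 hinv
    have hle2 := card_le_of_le (inf_le_inf_right (centralizer {q y}) hW1V)
    rw [hC2] at hle2
    have hpos := Nat.card_pos (α := ↥(W1 ⊓ centralizer {q y}))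
    rw [hW8] at hmod
    unfold Nat.ModEq at hmod
    have h1 : Nat.card ↥(W1 ⊓ centralizer {q y}) = 1 := by omega
    intro w hw hwy
    rw [card_eq_one] at h1
    exact mem_bot.1 (h1 ▸ mem_inf.2 ⟨hw, mem_centralizer_singleton_iff.2 hwy.symm⟩)
  obtain ⟨R, hR⟩ := hD.surj (root true 0)
  have hxk : R ^ 4 ∈ π.ker := by rw [MonoidHom.mem_ker, map_pow, hR, root_four]
  have hxP : R ^ 4 ∉ P1 := hout R true 0 hR
  set πq := quot π (Sq π) Sq_le with hπq
  have hkV : ∀ k ∈ πq.ker, ∀ v ∈ V, k * v = v * k := fun k hk v hv => by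
    rw [hπq, ker_quot] at hk; exact layer_comm hk hv
  have hxW : q (R ^ 4) ∉ W1 := by
    rintro ⟨p, hp, e⟩
    exact hxP (by simpa using mul_mem hp (hU (QuotientGroup.eq.1 e)))
  obtain ⟨tb, htbV, htbW, htbc⟩ := coset_central (π := πq)
    (fun g => by obtain ⟨x, hx⟩ := hD.surj g; exact ⟨q x, hx⟩) (V := V) (W := W1)
    (fun a ha b hb => layer_comm ha hb) (fun a ha => layer_sq ha) hV16 hkV (show πq (q y) = qy from hy) hF
    hW1V (R := q R) (x := q (R ^ 4)) (show π R ^ 4 = 1 by rw [hR, root_four])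
    (show π R ≠ 1 by rw [hR]; exact fun e => root_sq_ne true 0 (by rw [e, one_pow])) ⟨_, hxk, rfl⟩ hxW
    (by rw [← map_mul, ← map_mul, (Commute.self_pow R 4).eq])
  obtain ⟨t1, ht1, rfl⟩ := htbV
  have ht1P : t1 ∉ P1 := fun e => htbW ⟨t1, e, rfl⟩
  have ht1c : ∀ g, g * t1 = t1 * g := central_of_twist hD.surj (Z := Sq π)
    (fun g z hz => by
      rw [h.Sq_eq] at hz
      obtain ⟨j, rfl⟩ := mem_zpowers_iff.1 hz
      exact ((show Commute g u from hucen g).zpow_right j).eq)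
    (fun k hk => h.comm k hk t1 ht1)
    (fun g => (QuotientGroup.eq_one_iff _).1 (by
      show q ⁅g, t1⁆ = 1
      rw [map_commutatorElement, commutatorElement_eq_one_iff_mul_comm]; exact htbc _))
  obtain ⟨w, hw, n, hn⟩ := h.gen t1 ht1
  have hwk := h.leW hw
  have hw2 : w ^ 2 = 1 := by rw [pow_two]; exact h.sqW w hw
  have hcwt : Commute w (t ^ n) := h.comm w hwk _ (pow_mem h.mem n)
  have hpow : ∀ i : ℕ, 2 ∣ i → t1 ^ i = t ^ (n * i) := by
    rintro i ⟨a, rfl⟩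
    rw [hn, hcwt.mul_pow, pow_mul w, hw2, one_pow, one_mul, ← pow_mul]
  have hodd : ¬ 2 ∣ n := by
    rintro ⟨a, rfl⟩
    refine ht1P ⟨ht1, ?_⟩
    rw [hpow 4 (by norm_num), ← orderOf_dvd_iff_pow_eq_one, hord]
    exact ⟨a, by ring⟩
  have ht8 : t1 ^ 2 ^ 3 = 1 := by
    rw [hpow _ (by norm_num), ← orderOf_dvd_iff_pow_eq_one, hord]
    exact ⟨n, by ring⟩
  have ht4 : t1 ^ 2 ^ 2 ≠ 1 := fun e => ht1P ⟨ht1, e⟩
  have ho1 : orderOf t1 = 2 ^ 3 := orderOf_eq_prime_pow ht4 ht8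
  obtain ⟨m, hm⟩ : ∃ m : ℕ, (t ^ n) ^ m = t := exists_pow_eq_self_of_coprime (by
    rw [hord, show (8 : ℕ) = 2 ^ 3 from rfl]
    exact (Nat.Coprime.pow_right 3 ((Nat.Prime.coprime_iff_not_dvd Nat.prime_two).2 hodd).symm))
  refine no_central_cyclic 1 hD Ω t1 (fun o ho => ho.1) hΩc hΩsq h.comm ht1 ho1
    ⟨pow_mem ht1 _, by rw [← pow_mul]; exact ht8⟩ ht1c ?_
  intro p hp
  obtain ⟨w', hw', n', rfl⟩ := h.gen p hp
  refine ⟨w' * w ^ (m * n'), ⟨mul_mem (h.leW hw') (pow_mem hwk _), ?_⟩, m * n', ?_⟩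
  · rw [(show Commute w' (w ^ (m * n')) from h.comm _ (h.leW hw') _ (pow_mem hwk _)).mul_pow,
      pow_two w', h.sqW w' hw', ← pow_mul, mul_comm, pow_mul, hw2, one_pow, one_mul]
  · rw [hn, hcwt.mul_pow, mul_assoc, ← mul_assoc (w ^ (m * n')), ← pow_add, pow_mul (t ^ n), hm]
    congr 1
    rw [← two_mul, pow_mul w, hw2, one_pow, one_mul]

end Cfsg.Agent.GroupStructure3.RankFourL32
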