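import Mathlib
import Cfsg.Agent.Lib.Classical.Linear

/-!
# The linear group of degree three over the field with two elements
-/

set_option autoImplicit false
set_option linter.all false

namespace Cfsg.Agent.GroupStructure3.RankFourL32

open Matrix

/-- The group of degree three over two elements. -/
abbrev Q : Type := SpecialLinearGroup (Fin 3) (ZMod 2)

def qr : Q := ⟨!![1, 1, 0; 0, 1, 1; 0, 0, 1], by decide⟩

/-- An involution inverting `qr`. -/
def qs : Q := ⟨!![1, 1, 0; 0, 1, 0; 0, 0, 1], by decide⟩

def qy : Q := ⟨!![1, 1, 0; 1, 0, 1; 0, 1, 0], by decide⟩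

/-- Elements conjugating `qr` to roots of the involutions in the two four groups. -/
def conjElt : Bool → Fin 3 → Q
  | _, ⟨0, _⟩ => 1
  | true, ⟨1, _⟩ => ⟨!![1, 0, 1; 0, 0, 1; 0, 1, 1], by decide⟩
  | true, ⟨2, _⟩ => ⟨!![1, 0, 0; 0, 1, 0; 0, 1, 1], by decide⟩
  | false, ⟨1, _⟩ => ⟨!![1, 0, 0; 1, 1, 0; 0, 0, 1], by decide⟩
  | false, ⟨2, _⟩ => ⟨!![0, 1, 0; 1, 1, 1; 0, 0, 1], by decide⟩

/-- Roots of the involutions in the two four groups. -/
def root (k : Bool) (i : Fin 3) : Q := conjElt k i * qr * (conjElt k i)⁻¹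

theorem qr_four : qr ^ 4 = 1 := by decide +kernel
theorem qr_sq_ne : qr ^ 2 ≠ 1 := by decide +kernel
theorem qy_seven : qy ^ 7 = 1 := by decide +kernel
theorem qy_ne : qy ≠ 1 := by decide +kernel
theorem qs_sq : qs * qs = 1 := by decide +kernel
theorem qs_inv : qs * qr * qs⁻¹ = qr⁻¹ := by decide +kernel
theorem qs_comm : qs * qr ≠ qr * qs := by decide +kernel

theorem root_four (k : Bool) (i : Fin 3) : root k i ^ 4 = 1 := by
  rw [root, conj_pow, qr_four, mul_one, mul_inv_cancel]

theorem root_sq_ne (k : Bool) (i : Fin 3) : root k i ^ 2 ≠ 1 := by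
  rw [root, conj_pow]
  intro h
  exact qr_sq_ne (conj_eq_one_iff.1 h)

theorem root_mul (k : Bool) : root k 0 ^ 2 * root k 1 ^ 2 = root k 2 ^ 2 := by
  revert k; decide +kernel

theorem root_zero (k : Bool) : root k 0 = qr := by revert k; decide +kernel

theorem root_comm (k : Bool) (i j : Fin 3) : root k i ^ 2 * root k j ^ 2 = root k j ^ 2 * root k i ^ 2 := by
  revert k i j; decide +kernel

theorem root_sq_injective (k : Bool) : Function.Injective fun i => root k i ^ 2 := by
  revert k; unfold Function.Injective; decide +kernel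

theorem four_gen : root true 1 ^ 2 = qs ∧ root false 1 ^ 2 = qs * qr := by decide +kernel

theorem card_Q : Nat.card Q = 168 := by
  have h := Classical.Linear.mul_natCard_SL_fin (F := ZMod 2) (show 1 ≤ 3 by omega)
  rw [Fin.prod_univ_three, ZMod.card] at h
  norm_num at h
  rw [← Nat.card_eq_fintype_card] at h
  exact h

theorem center_Q : Subgroup.center Q = ⊥ := by
  refine Subgroup.card_eq_one.1 ?_
  rw [Classical.Linear.natCard_center_SL, ZMod.card]
  rfl

theorem simple_Q : IsSimpleGroup Q := by
  haveI := Classical.Linear.isSimpleGroup_PSL_fin (n := 3) (F := ZMod 2) (by omega) (fun e => absurd e (by omega))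
  let e : ProjectiveSpecialLinearGroup (Fin 3) (ZMod 2) ≃* Q :=
    (QuotientGroup.quotientMulEquivOfEq center_Q).trans QuotientGroup.quotientBot
  exact e.symm.isSimpleGroup

theorem commutator_Q : commutator Q = ⊤ := by
  haveI := simple_Q
  refine ((commutator Q).normal_of_characteristic.eq_bot_or_eq_top).resolve_left fun h => ?_
  have hm := Subgroup.commutator_mem_commutator (Subgroup.mem_top qs) (Subgroup.mem_top qr)
  rw [← commutator_def, h, Subgroup.mem_bot, commutatorElement_eq_one_iff_mul_comm] at hm
  exact qs_comm hm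

/-- The projective group over any field with two elements is this group. -/
theorem nonempty_iso {F : Type*} [Field F] [Fintype F] (hF : Fintype.card F = 2) :
    Nonempty (ProjectiveSpecialLinearGroup (Fin 3) F ≃* Q) := by
  have h1 : Subgroup.center (SpecialLinearGroup (Fin 3) F) = ⊥ := by
    refine Subgroup.card_eq_one.1 ?_
    rw [Classical.Linear.natCard_center_SL, hF]
    rfl
  let f : ZMod 2 →+* F := ZMod.castHom (show ringChar F ∣ 2 by
    rw [← hF]; exact CharP.cast_eq_zero_iff F (ringChar F) _ |>.1 (FiniteField.cast_card_eq_zero F)) F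
  have hf : Function.Bijective f :=
    (Fintype.bijective_iff_injective_and_card f).2 ⟨f.injective, by rw [ZMod.card, hF]⟩
  let e := (RingEquiv.ofBijective f hf).symm
  let g : SpecialLinearGroup (Fin 3) F →* Q := SpecialLinearGroup.map e.toRingHom
  have hg : Function.Bijective g := by
    refine Function.bijective_iff_has_inverse.2 ⟨SpecialLinearGroup.map e.symm.toRingHom, ?_, ?_⟩
    · intro x; ext i j; simp [g]
    · intro x; ext i j; simp [g]
  exact ⟨((QuotientGroup.quotientMulEquivOfEq h1).trans QuotientGroup.quotientBot).trans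
    (MulEquiv.ofBijective g hg)⟩

end Cfsg.Agent.GroupStructure3.RankFourL32
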