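import Cfsg.Agent.GroupStructure3.RankFourL32.Sixteen
import Cfsg.Agent.GroupStructure3.RankFourL32.Eight

/-!
# The shape of the radical
-/

set_option autoImplicit false
set_option linter.all false

namespace Cfsg.Agent.GroupStructure3.RankFourL32

open Subgroup
open scoped commutatorElement

universe u

theorem shape_aux : ∀ (n : ℕ) {X : Type u} [Group X] [Finite X] {π : X →* Q},
    Nat.card π.ker = n → Data π → Shape π := by
  intro n
  induction n using Nat.strong_induction_on with
  | _ n ih =>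
  intro X _ _ π hn hD
  classical
  haveI : Fact (Nat.Prime 2) := ⟨Nat.prime_two⟩
  have IH : ∀ {Y : Type u} [Group Y] [Finite Y] (π' : Y →* Q), Nat.card π'.ker < Nat.card π.ker →
      Data π' → Shape π' := fun {Y} _ _ π' hlt hd => ih _ (hn ▸ hlt) rfl hd
  obtain ⟨y, hy, hy7⟩ := exists_seven hD.surj hD.pgroup
  have of_structure : (Elem π ∨ ∃ W t k, 2 ≤ k ∧ Split π W t k) → Nat.card (Sq π) ≤ 4 → Shape π := by
    intro h h4
    rcases h with h | ⟨W, t, k, hk, h⟩
    · exact Or.inl h
    have hc : Nat.card (Sq π) = 2 ^ (k - 1) := by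
      rw [h.Sq_eq, Nat.card_zpowers, ← pow_two, orderOf_pow, h.order,
        Nat.gcd_eq_right (dvd_pow_self 2 (by omega))]
      exact Nat.div_eq_of_eq_mul_left two_pos (by rw [← pow_succ]; congr 1; omega)
    have hk' : k - 1 ≤ 2 := (Nat.pow_le_pow_iff_right (by norm_num : 1 < 2)).1 (hc ▸ h4)
    rcases (show k = 2 ∨ k = 3 by omega) with rfl | rfl
    · exact Or.inr ⟨W, t, h⟩
    · exact (no_eight hD h).elim
  by_cases hSq : Sq π = ⊥
  · refine of_structure (fixed_structure hD hy hy7 (fun f hf p hp => ?_) (fun f hf => ?_) (fun p hp r hr => ?_))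
      (by rw [hSq, card_bot]; norm_num)
    · rw [hSq, mem_bot] at hf; simp [hf]
    · rw [hSq, mem_bot] at hf; simp [hf]
    · have h := comm_mem_Sq hp hr
      rw [hSq, mem_bot] at h; simp [h]
  -- a minimal normal subgroup among the squares
  obtain ⟨Z, ⟨hZn, hZ1, hZS⟩, hmin⟩ := Set.Finite.exists_minimal
    (Set.toFinite {K : Subgroup X | K.Normal ∧ K ≠ ⊥ ∧ K ≤ Sq π}) ⟨Sq π, inferInstance, hSq, le_rfl⟩
  haveI := hZn
  have hZk : Z ≤ π.ker := hZS.trans Sq_le
  have heq : ∀ K : Subgroup X, K.Normal → K ≠ ⊥ → K ≤ Z → K = Z := fun K hK hK1 hKZ =>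
    le_antisymm hKZ (hmin ⟨hK, hK1, hKZ.trans hZS⟩ hKZ)
  have hZc : ∀ z ∈ Z, ∀ p ∈ π.ker, p * z = z * p := by
    haveI := hD.pgroup.isNilpotent
    have hne : Z.subgroupOf π.ker ≠ ⊥ := by
      rw [Ne, subgroupOf_eq_bot, disjoint_iff, inf_eq_left.2 hZk]; exact hZ1
    have hZ := Cores.inf_center_ne_bot hne
    have hcn : (centralizer (π.ker : Set X)).Normal := inferInstance
    have hK : Z ⊓ centralizer (π.ker : Set X) = Z := by
      refine heq _ inferInstance ?_ inf_le_left
      intro hbot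
      refine hZ (eq_bot_iff.2 ?_)
      rintro x ⟨hx, hxc⟩
      rw [mem_bot]
      refine Subtype.ext (mem_bot.1 (hbot ▸ mem_inf.2 ⟨hx, mem_centralizer_iff.2 fun p hp => ?_⟩))
      exact congrArg Subtype.val (mem_center_iff.1 hxc ⟨p, hp⟩)
    intro z hz p hp
    exact mem_centralizer_iff.1 (hK.ge hz).2 p hp
  have hZcomm : ∀ a ∈ Z, ∀ b ∈ Z, a * b = b * a := fun a ha b hb => hZc b hb a (hZk ha)
  have hZsq : ∀ z ∈ Z, z * z = 1 := by
    let K : Subgroup X :=
      { carrier := {z | z ∈ Z ∧ z * z = 1}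
        one_mem' := ⟨one_mem _, one_mul 1⟩
        mul_mem' := fun {a b} ha hb => ⟨mul_mem ha.1 hb.1, by
          calc a * b * (a * b) = a * (b * a) * b := by group
            _ = a * a * (b * b) := by rw [hZcomm b hb.1 a ha.1]; group
            _ = 1 := by rw [ha.2, hb.2, one_mul]⟩
        inv_mem' := fun {a} ha => ⟨inv_mem ha.1, by rw [← mul_inv_rev, ha.2, inv_one]⟩ }
    have hKn : K.Normal := ⟨fun z hz g => ⟨hZn.conj_mem z hz.1 g, by rw [conj_mul, hz.2, mul_one, mul_inv_cancel]⟩⟩
    obtain ⟨j, hj⟩ := (hD.pgroup.to_le hZk).exists_card_eq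
    have h2 : 2 ∣ Nat.card Z := by
      rcases j with _ | j
      · exact absurd (card_eq_one.1 hj) hZ1
      · exact hj ▸ dvd_pow_self 2 (by omega)
    obtain ⟨z, hz⟩ := exists_prime_orderOf_dvd_card' 2 h2
    have hK : K = Z := by
      refine heq K hKn (fun hbot => ?_) (fun x hx => hx.1)
      have h1 : (z : X) ∈ K := ⟨z.2, by
        have := pow_orderOf_eq_one z
        rw [hz, pow_two] at this
        exact congrArg Subtype.val this⟩
      rw [hbot, mem_bot] at h1
      rw [show z = 1 from Subtype.ext h1, orderOf_one] at hz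
      omega
    exact fun x hx => (hK.ge hx).2
  have hZ16 : Nat.card Z ≤ 16 := by
    have := GenA.SectionalRankFour.card_le_of_squares hD.rank ⊥ Z bot_le
      (by rw [normalizer_eq_top]; exact le_top) (fun d hd => by rw [mem_bot]; exact hZsq d hd)
    rwa [card_bot, mul_one] at this
  have hZ2 : 2 ≤ Nat.card Z := by
    by_contra hcon
    exact hZ1 (card_eq_one.1 (by have := Nat.card_pos (α := Z); omega))
  -- the quotient
  let q := QuotientGroup.mk' Z
  set π' := quot π Z hZk with hπ'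
  have hD' : Data π' := hD.quotient hZk fun z hz hz7 => by
    obtain ⟨p, hp, hn⟩ := hD.moved hz hz7
    exact ⟨p, hp, fun h => hn (hZS h)⟩
  have hS' : Shape π' := IH π' (by
    rw [card_ker_quot Z hZk]
    exact lt_mul_of_one_lt_right Nat.card_pos (by omega)) hD'
  have hcomm : ∀ a ∈ π.ker, ∀ b ∈ π.ker, ⁅a, b⁆ ∈ Z := fun a ha b hb => by
    refine (QuotientGroup.eq_one_iff _).1 ?_
    show q ⁅a, b⁆ = 1
    rw [map_commutatorElement, commutatorElement_eq_one_iff_mul_comm]
    refine hS'.comm _ ?_ _ ?_ <;> rw [hπ', ker_quot] <;> exact mem_map_of_mem q ‹_›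
  have hcen : ∀ f ∈ Sq π, ∀ p ∈ π.ker, p * f = f * p := by
    intro f hf p hp
    have hle : Sq π ≤ centralizer {p} := by
      refine (closure_le _).2 ?_
      rintro _ ⟨r, hr, rfl⟩
      refine mem_centralizer_singleton_iff.2 ?_
      rw [← commutatorElement_eq_one_iff_mul_comm]
      have h := hcomm r hr p hp
      calc ⁅r * r, p⁆ = r * ⁅r, p⁆ * r⁻¹ * ⁅r, p⁆ := by simp only [commutatorElement_def]; group
        _ = 1 := by rw [hZc _ h r hr, mul_inv_cancel_right, hZsq _ h]
    exact (mem_centralizer_singleton_iff.1 (hle hf)).symm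
  have hS'c : Nat.card ((Sq π).map q) = 1 ∨ Nat.card ((Sq π).map q) = 2 := by
    rw [← Sq_quot Z hZk]; exact hS'.Sq_card
  have hSqc : Nat.card (Sq π) = Nat.card ((Sq π).map q) * Nat.card Z := card_map_quot Z hZS
  by_cases hyZ : ∀ z ∈ Z, y * z = z * y
  · -- the squares are fixed
    have hfix : ∀ f ∈ Sq π, y * f = f * y := by
      intro f hf
      haveI : ((Sq π).map q).Normal := (inferInstance : (Sq π).Normal).map q (QuotientGroup.mk'_surjective _)
      have hfm : q f ∈ (Sq π).map q := mem_map_of_mem q hf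
      have hcq : q y * q f * (q y)⁻¹ = q f := by
        rcases hS'c with h | h
        · have h1 : q f = 1 := mem_bot.1 (card_eq_one.1 h ▸ hfm)
          simp [h1]
        · obtain ⟨c, -, -, hall⟩ := GenA.SectionalRankFour.exists_gen h
          rcases hall _ hfm with h1 | h1
          · simp [h1]
          · rcases hall _ ((inferInstance : ((Sq π).map q).Normal).conj_mem _ hfm (q y)) with h2 | h2
            · rw [conj_eq_one_iff.1 h2]; simp
            · rw [h2, h1]
      have hbr : ⁅y, f⁆ ∈ Z := (QuotientGroup.eq_one_iff _).1 (by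
        show q ⁅y, f⁆ = 1
        rw [map_commutatorElement, commutatorElement_def, hcq, mul_inv_cancel])
      exact commutatorElement_eq_one_iff_mul_comm.1 (br_fixed hy7 (hyZ _ hbr) (hZsq _ hbr))
    have hc2 : ∀ p ∈ π.ker, ∀ r ∈ π.ker, ⁅p, r⁆ * ⁅p, r⁆ = 1 := fun p hp r hr => hZsq _ (hcomm p hp r hr)
    have hst := fixed_structure hD hy hy7 hcen hfix hc2
    refine of_structure hst ?_
    rcases hst with h | ⟨W, t, k, -, h⟩
    · have hbot : Sq π = ⊥ := closure_eq_bot_iff.2 (by rintro _ ⟨p, hp, rfl⟩; exact h.2.1 p hp)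
      exact absurd hbot hSq
    have hcyc : IsCyclic Z := by
      have hle : Z ≤ zpowers (t * t) := h.Sq_eq ▸ hZS
      exact isCyclic_of_injective (inclusion hle) (inclusion_injective hle)
    obtain ⟨g, hg⟩ := hcyc.exists_generator
    have hZ2' : Nat.card Z ≤ 2 := by
      rw [← orderOf_eq_card_of_forall_mem_zpowers hg]
      exact Nat.le_of_dvd two_pos (orderOf_dvd_of_pow_eq_one (Subtype.ext (by simpa [pow_two] using hZsq g g.2)))
    rcases hS'c with e | e <;> rw [hSqc, e] <;> omega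
  -- the squares are moved
  exfalso
  push Not at hyZ
  have hZinv : ∀ v ∈ Z, y * v * y⁻¹ ∈ Z := fun v hv => hZn.conj_mem v hv y
  have hZd : Nat.card Z ∣ 16 := by
    obtain ⟨j, hj⟩ := (hD.pgroup.to_le hZk).exists_card_eq
    rw [hj] at hZ16 ⊢
    exact (show (2 : ℕ) ^ j ∣ 2 ^ 4 from pow_dvd_pow 2 ((Nat.pow_le_pow_iff_right (by norm_num)).1 hZ16))
  obtain ⟨W, hWZ, hF, -, -, hcard, hC⟩ := seven_split hy7 hZinv hZcomm hZsq hZd hyZ
  have h8 : Nat.card Z = 8 := by
    rcases (Nat.dvd_prime Nat.prime_two).1 hC with h | h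
    · rw [hcard, h]
    exfalso
    obtain ⟨τ, hτ, hτ1, -⟩ := GenA.SectionalRankFour.exists_gen h
    rcases four_split hD.surj hZcomm hZsq (by rw [hcard, h]) (fun k hk v hv => hZc v hv k hk) hF hWZ hτ.1
      (mem_centralizer_singleton_iff.1 hτ.2).symm hτ1 with hc | hn
    · haveI : (zpowers τ).Normal := ⟨fun n hn g => by
        obtain ⟨j, rfl⟩ := mem_zpowers_iff.1 hn
        rw [(show Commute g (τ ^ j) from (show Commute g τ from hc g).zpow_right j).eq, mul_inv_cancel_right]
        exact hn⟩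
      have e := heq (zpowers τ) inferInstance (by rw [Ne, zpowers_eq_bot]; exact hτ1) (zpowers_le.2 hτ.1)
      rw [← e, Nat.card_zpowers, orderOf_eq_prime (by rw [pow_two, hZsq τ hτ.1]) hτ1, e, h] at hcard
      omega
    · have e := heq W hn (fun hb => by
        have := hF.card
        rw [hb, card_bot] at this
        omega) hWZ
      have := hF.card
      rw [e, hcard, h] at this
      omega
  have hWeq : W = Z := eq_of_le_of_card_ge hWZ (by rw [hF.card, h8])
  have hA : Act π Z := by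
    refine ⟨hD.surj, hD.pgroup, hZn, hZcomm, hZsq, h8, fun k hk v hv => hZc v hv k hk, ?_⟩
    obtain ⟨z, hz, hz1⟩ := hyZ
    exact ⟨y, z, hz, hz1⟩
  rcases hS'c with e | e
  · have hSZ : Sq π = Z := (eq_of_le_of_card_ge hZS (by rw [hSqc, e, one_mul])).symm
    have hbase : Act π (Sq π) := hSZ.symm ▸ hA
    obtain ⟨W0, -, -, -, -, hV, hV2⟩ := layer_split hD hy hy7
    rcases (Nat.dvd_prime Nat.prime_two).1 hV2 with h | h
    · exact no_core hD hbase (by rw [hV, h])
    · exact no_sixteen hD IH hbase (by rw [hV, h])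
  · rcases hS' with h | ⟨W', t', h⟩
    · have hbot : Sq π' = ⊥ := closure_eq_bot_iff.2 (by rintro _ ⟨p, hp, rfl⟩; exact h.2.1 p hp)
      rw [Sq_quot Z hZk] at hbot
      rw [hbot, card_bot] at e
      omega
    · exact no_twisted hD IH hA hZS h hcen

theorem shape {X : Type u} [Group X] [Finite X] {π : X →* Q} (hD : Data π) : Shape π :=
  shape_aux _ rfl hD

end Cfsg.Agent.GroupStructure3.RankFourL32
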