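import Cfsg.Agent.GroupStructure3.RankFourL32.Setting
import Cfsg.Agent.GroupStructure3.RankFourA5.Counting

/-!
# The action on an elementary subgroup of order eight
-/

set_option autoImplicit false
set_option linter.all false

namespace Cfsg.Agent.GroupStructure3.RankFourL32

open Subgroup
open scoped commutatorElement

variable {G : Type*} [Group G] [Finite G]

/-- A nontrivial action on an elementary normal subgroup of order 8. -/
structure Act (π : G →* Q) (W : Subgroup G) : Prop where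
  surj : Function.Surjective π
  pgroup : IsPGroup 2 π.ker
  normal : W.Normal
  comm : ∀ a ∈ W, ∀ b ∈ W, a * b = b * a
  sq : ∀ a ∈ W, a * a = 1
  card : Nat.card W = 8
  cent : ∀ k ∈ π.ker, ∀ w ∈ W, k * w = w * k
  moved : ∃ g, ∃ w ∈ W, g * w ≠ w * g

/-- The elements of `W` commuting with `g`. -/
def cfix (W : Subgroup G) (g : G) : Subgroup G := W ⊓ centralizer {g}

theorem mem_cfix {W : Subgroup G} {g w : G} : w ∈ cfix W g ↔ w ∈ W ∧ g * w = w * g := by
  rw [cfix, mem_inf, mem_centralizer_singleton_iff]; exact and_congr_right fun _ => ⟨Eq.symm, Eq.symm⟩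

/-- The centres of the transvections in the four group of kind `k` coincide. -/
def CentreType (π : G →* Q) (W : Subgroup G) (k : Bool) : Prop :=
  ∀ (R R' : G) (i j : Fin 3), π R = root k i → π R' = root k j → cfix W R = cfix W R'

/-- The centres of the transvections in the four group of kind `k` are distinct and their axes coincide. -/
def AxisType (π : G →* Q) (W : Subgroup G) (k : Bool) : Prop :=
  ∀ (R R' : G) (i j : Fin 3), π R = root k i → π R' = root k j → i ≠ j →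
    cfix W R ≠ cfix W R' ∧ cfix W (R ^ 2) = cfix W (R' ^ 2)

variable {π : G →* Q} {W : Subgroup G}

theorem Act.conj_mem (hA : Act π W) {w : G} (hw : w ∈ W) (g : G) : g * w * g⁻¹ ∈ W := hA.normal.conj_mem w hw g

theorem Act.congr (hA : Act π W) {g g' w : G} (h : π g = π g') (hw : w ∈ W) : g * w * g⁻¹ = g' * w * g'⁻¹ := by
  have hk : g'⁻¹ * g ∈ π.ker := by rw [MonoidHom.mem_ker, map_mul, map_inv, h, inv_mul_cancel]
  have h1 := hA.cent _ hk w hw
  calc g * w * g⁻¹ = g' * ((g'⁻¹ * g) * w * (g'⁻¹ * g)⁻¹) * g'⁻¹ := by group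
    _ = g' * w * g'⁻¹ := by rw [h1, mul_inv_cancel_right]

theorem Act.comm_congr (hA : Act π W) {g g' w : G} (h : π g = π g') (hw : w ∈ W) :
    g * w = w * g ↔ g' * w = w * g' := by
  rw [← mul_inv_eq_iff_eq_mul, ← mul_inv_eq_iff_eq_mul, hA.congr h hw]

theorem Act.cfix_congr (hA : Act π W) {g g' : G} (h : π g = π g') : cfix W g = cfix W g' := by
  ext w
  rw [mem_cfix, mem_cfix]
  exact and_congr_right fun hw => hA.comm_congr h hw

theorem Act.map_eq_one (hA : Act π W) {g : G} (h : ∀ w ∈ W, g * w = w * g) : π g = 1 := by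
  haveI := simple_Q
  haveI := hA.normal
  set K := centralizer (W : Set G) with hK
  have hKn : K.Normal := inferInstance
  haveI := hKn.map π hA.surj
  rcases (inferInstance : (K.map π).Normal).eq_bot_or_eq_top with e | e
  · exact mem_bot.1 (e ▸ mem_map_of_mem π (mem_centralizer_iff.2 fun w hw => (h w hw).symm))
  · exfalso
    obtain ⟨g', w, hw, hne⟩ := hA.moved
    obtain ⟨k, hk, hkg⟩ : π g' ∈ K.map π := e ▸ mem_top _
    exact hne ((hA.comm_congr hkg hw).1 (mem_centralizer_iff.1 hk w hw).symm)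

theorem Act.fpf (hA : Act π W) {g : G} (hg : π g = qy) {w : G} (hw : w ∈ W) (hf : g * w = w * g) :
    w = 1 := by
  obtain ⟨y, hy, hy7⟩ := exists_seven hA.surj hA.pgroup
  haveI : Fact (Nat.Prime 7) := ⟨by norm_num⟩
  have hmod := RankFourA5.card_modEq (q := 7) hy7 W fun x hx => hA.conj_mem hx y
  rw [hA.card] at hmod
  have hd : Nat.card ↥(W ⊓ centralizer {y}) ∈ Nat.divisors 8 :=
    Nat.mem_divisors.2 ⟨hA.card ▸ card_dvd_of_le inf_le_left, by norm_num⟩
  rw [show Nat.divisors 8 = {1, 2, 4, 8} by decide] at hd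
  simp only [Finset.mem_insert, Finset.mem_singleton] at hd
  unfold Nat.ModEq at hmod
  have hm : w ∈ W ⊓ centralizer {y} :=
    (mem_cfix.2 ⟨hw, (hA.comm_congr (hg.trans hy.symm) hw).1 hf⟩ : w ∈ cfix W y)
  rcases hd with h | h | h | h
  · rw [card_eq_one.1 h, mem_bot] at hm; exact hm
  · omega
  · omega
  · exfalso
    have he : W ⊓ centralizer {y} = W := eq_of_le_of_card_ge inf_le_left (by rw [h, hA.card])
    refine qy_ne (hy ▸ hA.map_eq_one fun x hx => ?_)
    exact (mem_centralizer_singleton_iff.1 (he.ge hx).2).symm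

theorem Act.orbit (hA : Act π W) {y : G} (hy : π y = qy) (hy7 : y ^ 7 = 1) {u v : G} (hu : u ∈ W) (hu1 : u ≠ 1)
    (hv : v ∈ W) (hv1 : v ≠ 1) : ∃ n : ℕ, y ^ n * u * (y ^ n)⁻¹ = v := by
  classical
  let f : Fin 7 → G := fun i => y ^ (i : ℕ) * u * (y ^ (i : ℕ))⁻¹
  have hinj : Function.Injective f := by
    intro i j hij
    by_contra hne
    have key : ∀ a b : ℕ, a < b → b < 7 → y ^ a * u * (y ^ a)⁻¹ = y ^ b * u * (y ^ b)⁻¹ → False := by
      intro a b hab hb he
      obtain ⟨d, rfl⟩ := Nat.exists_eq_add_of_le hab.le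
      have hc : Commute (y ^ d) u := by
        have : u = y ^ d * u * (y ^ d)⁻¹ := by
          have h' := congrArg (fun x => (y ^ a)⁻¹ * x * y ^ a) he
          simp only [pow_add] at h'
          calc u = (y ^ a)⁻¹ * (y ^ a * u * (y ^ a)⁻¹) * y ^ a := by group
            _ = (y ^ a)⁻¹ * (y ^ a * y ^ d * u * (y ^ a * y ^ d)⁻¹) * y ^ a := h'
            _ = _ := by group
        exact (mul_inv_eq_iff_eq_mul.1 this.symm)
      have hy0 : orderOf y = 7 := by
        haveI : Fact (Nat.Prime 7) := ⟨by norm_num⟩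
        exact orderOf_eq_prime hy7 fun h => qy_ne (by rw [← hy, h, map_one])
      obtain ⟨m, hm⟩ := exists_pow_eq_self_of_coprime (x := y) (n := d) (by
        rw [hy0]
        exact (Nat.Coprime.symm ((by norm_num : Nat.Prime 7).coprime_iff_not_dvd.2 fun h => by
          have := Nat.le_of_dvd (by omega) h; omega)))
      exact hu1 (hA.fpf hy hu (hm ▸ hc.pow_left m).eq)
    rcases Nat.lt_or_ge (i : ℕ) (j : ℕ) with h | h
    · exact key _ _ h j.2 hij
    · exact key _ _ (lt_of_le_of_ne h fun e => hne (Fin.ext e.symm)) i.2 hij.symm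
  have hsub : Set.range f ⊆ (W : Set G) \ {1} := by
    rintro _ ⟨i, rfl⟩
    exact ⟨hA.conj_mem hu _, fun h => hu1 (conj_eq_one_iff.1 h)⟩
  have heq : Set.range f = (W : Set G) \ {1} := by
    refine Set.eq_of_subset_of_ncard_le hsub ?_ (Set.toFinite _)
    rw [Set.ncard_range_of_injective hinj, Nat.card_fin, Set.ncard_diff_singleton_of_mem (one_mem W),
      ← Nat.card_coe_set_eq, SetLike.coe_sort_coe, hA.card]
  obtain ⟨i, hi⟩ : v ∈ Set.range f := heq ▸ ⟨hv, hv1⟩
  exact ⟨i, hi⟩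

theorem Act.centre (hA : Act π W) {R : G} {k : Bool} {i : Fin 3} (hR : π R = root k i) :
    Nat.card (cfix W R) = 2 ∧ Nat.card (cfix W (R ^ 2)) = 4 ∧ cfix W R ≤ cfix W (R ^ 2) ∧
      ∀ w ∈ W, ⁅R ^ 2, w⁆ ∈ cfix W R := by
  set a := R ^ 2 with ha
  have haa : π (a * a) = 1 := by rw [ha, ← pow_add, map_pow, hR, root_four]
  have hinv : ∀ w ∈ W, w⁻¹ = w := fun w hw => inv_eq_of_mul_eq_one_right (hA.sq w hw)
  have hbr : ∀ w ∈ W, ⁅a, w⁆ ∈ W := fun w hw => by
    rw [commutatorElement_def]; exact mul_mem (hA.conj_mem hw a) (inv_mem hw)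
  have hmul : ∀ v ∈ W, ∀ w ∈ W, ⁅a, v * w⁆ = ⁅a, v⁆ * ⁅a, w⁆ := by
    intro v hv w hw
    have h1 := hA.comm v hv _ (hbr w hw)
    calc ⁅a, v * w⁆ = ⁅a, v⁆ * (v * ⁅a, w⁆ * v⁻¹) := by simp only [commutatorElement_def]; group
      _ = _ := by rw [h1, mul_inv_cancel_right]
  let φ : W →* W :=
    { toFun := fun w => ⟨⁅a, (w : G)⁆, hbr w w.2⟩
      map_one' := Subtype.ext (by simp [commutatorElement_def])
      map_mul' := fun v w => Subtype.ext (hmul v v.2 w w.2) }
  have hker : φ.ker = (cfix W a).subgroupOf W := by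
    ext w
    rw [MonoidHom.mem_ker, mem_subgroupOf, mem_cfix, Subtype.ext_iff]
    show ⁅a, (w : G)⁆ = 1 ↔ _
    rw [commutatorElement_eq_one_iff_mul_comm]
    exact ⟨fun h => ⟨w.2, h⟩, fun h => h.2⟩
  have hfa : cfix W a ≤ W := inf_le_left
  have hprod : Nat.card (cfix W a) * Nat.card φ.range = 8 := by
    have h := φ.ker.card_mul_index
    rw [index_ker, hker, Nat.card_congr (subgroupOfEquivOfLe hfa).toEquiv, hA.card] at h
    exact h
  have hrf : ∀ w ∈ W, ⁅a, w⁆ ∈ cfix W a := fun w hw => mem_cfix.2 ⟨hbr w hw, by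
    rw [← mul_inv_eq_iff_eq_mul]
    have h2 : a * a * w * (a * a)⁻¹ = w := by
      rw [hA.congr (g' := 1) (haa.trans (map_one π).symm) hw]; group
    calc a * ⁅a, w⁆ * a⁻¹ = (a * a * w * (a * a)⁻¹) * (a * w * a⁻¹)⁻¹ := by
          rw [commutatorElement_def]; group
      _ = (⁅a, w⁆)⁻¹ := by rw [h2, commutatorElement_def]; group
      _ = ⁅a, w⁆ := hinv _ (hbr w hw)⟩
  have hle : Nat.card φ.range ≤ Nat.card (cfix W a) := by
    refine Nat.card_le_card_of_injective (fun v => ⟨((v : W) : G), ?_⟩) fun u v huv =>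
      Subtype.ext (Subtype.ext (congrArg Subtype.val huv :))
    obtain ⟨w, hw⟩ := v.2
    rw [← hw]; exact hrf w w.2
  have hne : Nat.card (cfix W a) ≠ 8 := by
    intro h
    have he : cfix W a = W := eq_of_le_of_card_ge hfa (by rw [h, hA.card])
    refine root_sq_ne k i ?_
    rw [← hR, ← map_pow]
    exact hA.map_eq_one fun w hw => (mem_cfix.1 (he.ge hw)).2
  have hd : Nat.card (cfix W a) ∈ Nat.divisors 8 :=
    Nat.mem_divisors.2 ⟨Dvd.intro _ hprod, by norm_num⟩
  rw [show Nat.divisors 8 = {1, 2, 4, 8} by decide] at hd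
  simp only [Finset.mem_insert, Finset.mem_singleton] at hd
  have h4 : Nat.card (cfix W a) = 4 ∧ Nat.card φ.range = 2 := by
    rcases hd with h | h | h | h <;> rw [h] at hprod hle hne ⊢ <;> omega
  obtain ⟨c0, hc0, hc1, hcall⟩ := GenA.SectionalRankFour.exists_gen h4.2
  have hin : ∀ w ∈ W, ⁅a, w⁆ = 1 ∨ ⁅a, w⁆ = c0 := fun w hw => by
    rcases hcall _ ⟨⟨w, hw⟩, rfl⟩ with h | h
    · exact Or.inl (congrArg Subtype.val h)
    · exact Or.inr (congrArg Subtype.val h)
  have hc0ne : (c0 : G) ≠ 1 := fun h => hc1 (Subtype.ext h)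
  have hRa : R * a * R⁻¹ = a := by rw [ha]; group
  have hRc : R * c0 = c0 * R := by
    obtain ⟨w, hw⟩ := hc0
    have hw' : ⁅a, (w : G)⁆ = c0 := congrArg Subtype.val hw
    rcases hin _ (hA.conj_mem w.2 R) with h | h
    · exfalso; apply hc0ne
      have e : R * ⁅a, (w : G)⁆ * R⁻¹ = 1 := by
        rw [conjugate_commutatorElement, hRa]; exact h
      rw [hw'] at e
      exact conj_eq_one_iff.1 e
    · rw [← mul_inv_eq_iff_eq_mul, ← hw', conjugate_commutatorElement, hRa]; exact h.trans hw'.symm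
  have hsub : cfix W R ≤ cfix W a := fun w hw => by
    obtain ⟨h1, h2⟩ := mem_cfix.1 hw
    exact mem_cfix.2 ⟨h1, ((show Commute R w from h2).pow_left 2).eq⟩
  have hc0R : (c0 : G) ∈ cfix W R := mem_cfix.2 ⟨(c0 : W).2, hRc⟩
  have h2R : Nat.card (cfix W R) = 2 := by
    have hdv : Nat.card (cfix W R) ∣ 4 := h4.1 ▸ card_dvd_of_le hsub
    have hne1 : Nat.card (cfix W R) ≠ 1 := fun h => by
      rw [card_eq_one.1 h, mem_bot] at hc0R; exact hc0ne hc0R
    have hmem : Nat.card (cfix W R) ∈ Nat.divisors 4 := Nat.mem_divisors.2 ⟨hdv, by norm_num⟩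
    rw [show Nat.divisors 4 = {1, 2, 4} by decide] at hmem
    simp only [Finset.mem_insert, Finset.mem_singleton] at hmem
    rcases hmem with h | h | h
    · exact absurd h hne1
    · exact h
    · exfalso
      have he : cfix W R = cfix W a := eq_of_le_of_card_ge hsub (by rw [h, h4.1])
      obtain ⟨w, hw⟩ := hc0
      have hw' : ⁅a, (w : G)⁆ = c0 := congrArg Subtype.val hw
      have hidx : ((cfix W a).subgroupOf W).index = 2 := by
        have h' := ((cfix W a).subgroupOf W).card_mul_index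
        rw [Nat.card_congr (subgroupOfEquivOfLe hfa).toEquiv, h4.1, hA.card] at h'
        omega
      have hwn : (w : G) ∉ cfix W a := fun hm => hc0ne (by
        rw [← hw', commutatorElement_eq_one_iff_mul_comm]; exact (mem_cfix.1 hm).2)
      have hRn : R * w * R⁻¹ ∉ cfix W a := by
        rw [← he]
        intro hm
        refine hwn (he ▸ mem_cfix.2 ⟨w.2, ?_⟩)
        have := (mem_cfix.1 hm).2
        calc R * (w : G) = R⁻¹ * (R * (R * w * R⁻¹)) * R := by group
          _ = R⁻¹ * ((R * w * R⁻¹) * R) * R := by rw [this]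
          _ = _ := by group
      have hh := (Subgroup.mul_mem_iff_of_index_two hidx (a := w) (b := ⟨_, hA.conj_mem w.2 R⟩)).2
        (iff_of_false (mem_subgroupOf.not.2 hwn) (mem_subgroupOf.not.2 hRn))
      rw [mem_subgroupOf, coe_mul] at hh
      set u := (w : G) * (R * w * R⁻¹) with hu
      rw [← he] at hh
      have hRu := (mem_cfix.1 hh).2
      have e1 : R * w * R⁻¹ = (w : G) * u := by rw [hu, ← mul_assoc, hA.sq w w.2, one_mul]
      have e2 : a * (w : G) * a⁻¹ = w := by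
        calc a * (w : G) * a⁻¹ = R * (R * w * R⁻¹) * R⁻¹ := by rw [ha, pow_two]; group
          _ = (R * w * R⁻¹) * (R * u * R⁻¹) := by conv_lhs => rw [e1]
                                                  group
          _ = w := by
            rw [hRu, mul_inv_cancel_right, e1, mul_assoc, hA.sq u (mem_cfix.1 hh).1, mul_one]
      exact hc0ne (by rw [← hw', commutatorElement_def, e2, mul_inv_cancel])
  refine ⟨h2R, h4.1, hsub, fun w hw => ?_⟩
  rcases hin w hw with h | h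
  · rw [h]; exact one_mem _
  · rw [h]; exact hc0R

theorem Act.exists_centre (hA : Act π W) {R : G} {k : Bool} {i : Fin 3} (hR : π R = root k i) :
    ∃ c ∈ cfix W R, c ≠ 1 ∧ ∀ x ∈ cfix W R, x = 1 ∨ x = c :=
  GenA.SectionalRankFour.exists_gen (hA.centre hR).1

theorem Act.eq_centre (hA : Act π W) {R : G} {k : Bool} {i : Fin 3} (hR : π R = root k i) {u v : G}
    (hu : u ∈ cfix W R) (hu1 : u ≠ 1) (hv : v ∈ cfix W R) (hv1 : v ≠ 1) : u = v := by
  obtain ⟨c, -, -, hall⟩ := hA.exists_centre hR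
  rw [(hall u hu).resolve_left hu1, (hall v hv).resolve_left hv1]

theorem Act.commutator_mul (hA : Act π W) {a b w : G} {k : Bool} {i : Fin 3} {R' : G}
    (hb : b = R' ^ 2) (hR' : π R' = root k i) (hw : w ∈ W) :
    ⁅a * b, w⁆ = (a * ⁅b, w⁆ * a⁻¹) * ⁅a, w⁆ := by
  simp only [commutatorElement_def]; group

theorem root_third : ∀ (k : Bool) (i j : Fin 3), i ≠ j →
    ∃ l : Fin 3, l ≠ i ∧ l ≠ j ∧ root k i ^ 2 * root k j ^ 2 = root k l ^ 2 := by
  decide +kernel

theorem Act.pair (hA : Act π W) {k : Bool} {i j : Fin 3} (hij : i ≠ j) {R R' : G} (hR : π R = root k i)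
    (hR' : π R' = root k j) : (cfix W R = cfix W R') ≠ (cfix W (R ^ 2) = cfix W (R' ^ 2)) := by
  obtain ⟨l, -, -, hl⟩ := root_third k i j hij
  obtain ⟨R'', hR''⟩ := hA.surj (root k l)
  have hab : π (R ^ 2 * R' ^ 2) = π (R'' ^ 2) := by rw [map_mul, map_pow, map_pow, map_pow, hR, hR', hR'', hl]
  have hC := hA.centre hR''
  have hin : ∀ w ∈ W, ⁅R ^ 2 * R' ^ 2, w⁆ ∈ cfix W R'' := fun w hw => by
    have : ⁅R ^ 2 * R' ^ 2, w⁆ = ⁅R'' ^ 2, w⁆ := by
      rw [commutatorElement_def, commutatorElement_def, hA.congr hab hw]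
    rw [this]; exact hC.2.2.2 w hw
  obtain ⟨-, h4, hsub, hbr⟩ := hA.centre hR
  obtain ⟨-, h4', hsub', hbr'⟩ := hA.centre hR'
  intro hiff
  by_cases hH : cfix W (R ^ 2) = cfix W (R' ^ 2)
  · -- the same transvection
    have hc : cfix W R = cfix W R' := hiff.mpr hH
    refine root_sq_ne k l ?_
    rw [← hR'', ← map_pow, ← hab]
    refine hA.map_eq_one fun w hw => ?_
    rw [← commutatorElement_eq_one_iff_mul_comm, hA.commutator_mul rfl hR' hw]
    by_cases hwH : w ∈ cfix W (R ^ 2)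
    · rw [commutatorElement_eq_one_iff_mul_comm.2 (mem_cfix.1 hwH).2,
        commutatorElement_eq_one_iff_mul_comm.2 (mem_cfix.1 (hH ▸ hwH)).2]
      group
    · have n1 : ⁅R ^ 2, w⁆ ≠ 1 := fun h => hwH (mem_cfix.2 ⟨hw, commutatorElement_eq_one_iff_mul_comm.1 h⟩)
      have n2 : ⁅R' ^ 2, w⁆ ≠ 1 := fun h => hwH (hH.symm ▸ mem_cfix.2 ⟨hw, commutatorElement_eq_one_iff_mul_comm.1 h⟩)
      have e : ⁅R' ^ 2, w⁆ = ⁅R ^ 2, w⁆ := hA.eq_centre hR' (hbr' w hw) n2 (hc ▸ hbr w hw) n1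
      have hm := hsub (hbr w hw)
      rw [e, (mem_cfix.1 hm).2, mul_inv_cancel_right, hA.sq _ (mem_cfix.1 hm).1]
  · -- elements fixed by exactly one
    refine hH (hiff.mp ?_)
    have hex : ∀ (A B : Subgroup G), Nat.card A = Nat.card B → A ≠ B → ∃ w ∈ A, w ∉ B := by
      intro A B hc hne
      by_contra hcon
      push Not at hcon
      exact hne (eq_of_le_of_card_ge hcon hc.ge)
    obtain ⟨w, hw, hwn⟩ := hex _ _ (h4.trans h4'.symm) hH
    obtain ⟨w', hw', hwn'⟩ := hex _ _ (h4'.trans h4.symm) (Ne.symm hH)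
    have hwW := (mem_cfix.1 hw).1
    have hwW' := (mem_cfix.1 hw').1
    -- `w` gives the centre of the second
    have n2 : ⁅R' ^ 2, w⁆ ≠ 1 := fun h => hwn (mem_cfix.2 ⟨hwW, commutatorElement_eq_one_iff_mul_comm.1 h⟩)
    have n1 : ⁅R ^ 2, w'⁆ ≠ 1 := fun h => hwn' (mem_cfix.2 ⟨hwW', commutatorElement_eq_one_iff_mul_comm.1 h⟩)
    have e2 := hin w hwW
    rw [hA.commutator_mul rfl hR' hwW, commutatorElement_eq_one_iff_mul_comm.2 (mem_cfix.1 hw).2, mul_one] at e2
    have e1 := hin w' hwW'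
    rw [hA.commutator_mul rfl hR' hwW', commutatorElement_eq_one_iff_mul_comm.2 (mem_cfix.1 hw').2,
      mul_one, mul_inv_cancel, one_mul] at e1
    have hfix : R ^ 2 * ⁅R' ^ 2, w⁆ * (R ^ 2)⁻¹ ≠ 1 := fun h => n2 (conj_eq_one_iff.1 h)
    have e3 : R ^ 2 * ⁅R' ^ 2, w⁆ * (R ^ 2)⁻¹ = ⁅R ^ 2, w'⁆ := hA.eq_centre hR'' e2 hfix e1 n1
    have e4 : ⁅R' ^ 2, w⁆ = ⁅R ^ 2, w'⁆ := by
      have hm := hsub (hbr w' hwW')
      have h5 := (mem_cfix.1 hm).2
      calc ⁅R' ^ 2, w⁆ = (R ^ 2)⁻¹ * (R ^ 2 * ⁅R' ^ 2, w⁆ * (R ^ 2)⁻¹) * R ^ 2 := by group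
        _ = (R ^ 2)⁻¹ * ⁅R ^ 2, w'⁆ * R ^ 2 := by rw [e3]
        _ = _ := by rw [mul_assoc, ← h5, inv_mul_cancel_left]
    obtain ⟨c, hc, -, hall⟩ := hA.exists_centre hR
    obtain ⟨c', hc', -, hall'⟩ := hA.exists_centre hR'
    have ec : c = c' := by
      rw [← (hall _ (hbr w' hwW')).resolve_left n1, ← e4, (hall' _ (hbr' w hwW)).resolve_left n2]
    ext x
    constructor
    · intro hx; rcases hall x hx with rfl | rfl
      · exact one_mem _
      · exact ec ▸ hc'
    · intro hx; rcases hall' x hx with rfl | rfl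
      · exact one_mem _
      · exact ec ▸ hc

theorem fin_other : ∀ (i j l : Fin 3), i ≠ j → l ≠ i → l ≠ j → ∀ m : Fin 3, m = i ∨ m = j ∨ m = l := by decide

theorem Act.type (hA : Act π W) (k : Bool) : CentreType π W k ∨ AxisType π W k := by
  by_cases h : ∃ (R R' : G) (i j : Fin 3), π R = root k i ∧ π R' = root k j ∧ i ≠ j ∧ cfix W R = cfix W R'
  · obtain ⟨R, R', i, j, hR, hR', hij, hc⟩ := h
    left
    obtain ⟨l, hli, hlj, hl⟩ := root_third k i j hij
    obtain ⟨R'', hR''⟩ := hA.surj (root k l)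
    have hab : π (R'' ^ 2) = π (R ^ 2 * R' ^ 2) := by rw [map_mul, map_pow, map_pow, map_pow, hR, hR', hR'', hl]
    obtain ⟨-, -, hsub, hbr⟩ := hA.centre hR
    obtain ⟨-, -, -, hbr'⟩ := hA.centre hR'
    have hall : cfix W R'' = cfix W R := by
      have hC := hA.centre hR''
      obtain ⟨w, hw, hwne⟩ : ∃ w ∈ W, ⁅R'' ^ 2, w⁆ ≠ 1 := by
        by_contra hcon
        push Not at hcon
        refine root_sq_ne k l ?_
        rw [← hR'', ← map_pow]
        exact hA.map_eq_one fun w hw => commutatorElement_eq_one_iff_mul_comm.1 (hcon w hw)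
      have hm : ⁅R'' ^ 2, w⁆ ∈ cfix W R := by
        rw [commutatorElement_def, hA.congr hab hw, ← commutatorElement_def, hA.commutator_mul rfl hR' hw]
        refine mul_mem ?_ (hbr w hw)
        have h1 : ⁅R' ^ 2, w⁆ ∈ cfix W R := hc ▸ hbr' w hw
        rw [(mem_cfix.1 (hsub h1)).2, mul_inv_cancel_right]
        exact h1
      have e := hC.2.2.2 w hw
      obtain ⟨c1, -, -, h1⟩ := hA.exists_centre hR''
      obtain ⟨c2, -, -, h2⟩ := hA.exists_centre hR
      ext x
      constructor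
      · intro hx; rcases h1 x hx with rfl | rfl
        · exact one_mem _
        · exact (h1 _ e).resolve_left hwne ▸ hm
      · intro hx; rcases h2 x hx with rfl | rfl
        · exact one_mem _
        · exact (h2 _ hm).resolve_left hwne ▸ e
    have key : ∀ (S : G) (m : Fin 3), π S = root k m → cfix W S = cfix W R := by
      intro S m hS
      rcases fin_other i j l hij hli hlj m with rfl | rfl | rfl
      · exact hA.cfix_congr (hS.trans hR.symm)
      · exact (hA.cfix_congr (hS.trans hR'.symm)).trans hc.symm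
      · exact (hA.cfix_congr (hS.trans hR''.symm)).trans hall
    intro S S' m m' hS hS'
    rw [key S m hS, key S' m' hS']
  · right
    push Not at h
    intro R R' i j hR hR' hij
    have hne := h R R' i j hR hR' hij
    refine ⟨hne, ?_⟩
    by_contra hH
    exact hA.pair hij hR hR' (propext (iff_of_false hne hH))

/-- One of the two four groups has coinciding centres and the other coinciding axes. -/
theorem Act.types (hA : Act π W) : ∃ k, CentreType π W k ∧ AxisType π W (!k) := by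
  suffices key : ¬ (CentreType π W true ∧ CentreType π W false) ∧ ¬ (AxisType π W true ∧ AxisType π W false) by
    rcases hA.type true with h | h
    · exact ⟨true, h, (hA.type false).resolve_left fun h' => key.1 ⟨h, h'⟩⟩
    · exact ⟨false, (hA.type false).resolve_right fun h' => key.2 ⟨h, h'⟩, h⟩
  obtain ⟨R, hR⟩ := hA.surj qr
  obtain ⟨A, hA'⟩ := hA.surj (root true 1)
  obtain ⟨B, hB⟩ := hA.surj (root false 1)
  have hRt : π R = root true 0 := by rw [hR, root_zero]
  have hRf : π R = root false 0 := by rw [hR, root_zero]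
  have hRAB : π R = π ((A ^ 2)⁻¹ * B ^ 2) := by
    rw [map_mul, map_inv, map_pow, map_pow, hA', hB, four_gen.1, four_gen.2, hR, inv_mul_cancel_left]
  obtain ⟨hc2, h4, -, hbr⟩ := hA.centre hRt
  obtain ⟨-, -, hsubA, hbrA⟩ := hA.centre hA'
  obtain ⟨-, -, -, hbrB⟩ := hA.centre hB
  constructor
  · rintro ⟨ht, hf⟩
    have eA : cfix W A = cfix W R := ht A R 1 0 hA' hRt
    have eB : cfix W B = cfix W R := hf B R 1 0 hB hRf
    refine qr_sq_ne ?_
    rw [← hR, ← map_pow]
    refine hA.map_eq_one fun w hw => ?_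
    set u := ⁅R, w⁆ with hu
    have huc : u ∈ cfix W R := by
      have : u = ⁅(A ^ 2)⁻¹ * B ^ 2, w⁆ := by
        rw [hu, commutatorElement_def, commutatorElement_def, hA.congr hRAB hw]
      rw [this]
      have e : ⁅(A ^ 2)⁻¹ * B ^ 2, w⁆ = ((A ^ 2)⁻¹ * ⁅B ^ 2, w⁆ * A ^ 2) * ((A ^ 2)⁻¹ * (⁅A ^ 2, w⁆)⁻¹ * A ^ 2) := by
        simp only [commutatorElement_def]; group
      rw [e]
      have hfix : ∀ x ∈ cfix W R, (A ^ 2)⁻¹ * x * A ^ 2 = x := fun x hx => by
        have h5 := (mem_cfix.1 (hsubA (eA.symm ▸ hx : x ∈ cfix W A))).2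
        rw [mul_assoc, ← h5, inv_mul_cancel_left]
      have m1 : ⁅B ^ 2, w⁆ ∈ cfix W R := eB ▸ hbrB w hw
      have m2 : (⁅A ^ 2, w⁆)⁻¹ ∈ cfix W R := inv_mem (eA ▸ hbrA w hw)
      rw [hfix _ m1, hfix _ m2]
      exact mul_mem m1 m2
    obtain ⟨huW, hRu⟩ := mem_cfix.1 huc
    rw [← mul_inv_eq_iff_eq_mul]
    calc R ^ 2 * w * (R ^ 2)⁻¹ = R * (R * w * R⁻¹) * R⁻¹ := by rw [pow_two]; group
      _ = R * (u * w) * R⁻¹ := by rw [hu, commutatorElement_def, inv_mul_cancel_right]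
      _ = (R * u * R⁻¹) * (R * w * R⁻¹) := by group
      _ = u * (u * w) := by rw [hRu, mul_inv_cancel_right, hu, commutatorElement_def, inv_mul_cancel_right]
      _ = w := by rw [← mul_assoc, hA.sq u huW, one_mul]
  · rintro ⟨ht, hf⟩
    have eA : cfix W (A ^ 2) = cfix W (R ^ 2) := (ht A R 1 0 hA' hRt (by decide)).2
    have eB : cfix W (B ^ 2) = cfix W (R ^ 2) := (hf B R 1 0 hB hRf (by decide)).2
    have hle : cfix W (R ^ 2) ≤ cfix W R := by
      intro w hw
      have hwW := (mem_cfix.1 hw).1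
      refine mem_cfix.2 ⟨hwW, (hA.comm_congr hRAB hwW).2 ?_⟩
      have h1 : Commute (A ^ 2) w := (mem_cfix.1 (eA ▸ hw)).2
      have h2 : Commute (B ^ 2) w := (mem_cfix.1 (eB ▸ hw)).2
      exact (h1.inv_left.mul_left h2).eq
    have := card_le_of_le hle
    omega

/-- The sum of the centres of an axis-type four group. -/
theorem Act.axis_mul (hA : Act π W) {k : Bool} (hk : AxisType π W k) {R0 R1 R2 : G}
    (h0 : π R0 = root k 0) (h1 : π R1 = root k 1) (h2 : π R2 = root k 2) {c0 c1 c2 : G}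
    (m0 : c0 ∈ cfix W R0) (n0 : c0 ≠ 1) (m1 : c1 ∈ cfix W R1) (n1 : c1 ≠ 1) (m2 : c2 ∈ cfix W R2)
    (n2 : c2 ≠ 1) : c0 * c1 = c2 := by
  obtain ⟨a01, b01⟩ := hk R0 R1 0 1 h0 h1 (by decide)
  obtain ⟨a02, b02⟩ := hk R0 R2 0 2 h0 h2 (by decide)
  obtain ⟨a12, -⟩ := hk R1 R2 1 2 h1 h2 (by decide)
  have hne : ∀ {S S' : G} {i j : Fin 3}, π S = root k i → π S' = root k j → cfix W S ≠ cfix W S' →
      ∀ {u v : G}, u ∈ cfix W S → u ≠ 1 → v ∈ cfix W S' → v ≠ 1 → u ≠ v := by
    intro S S' i j hS hS' hne u v hu hu1 hv hv1 e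
    subst e
    obtain ⟨c, hc, -, hall⟩ := hA.exists_centre hS
    obtain ⟨c', hc', -, hall'⟩ := hA.exists_centre hS'
    have ec : c = c' := by rw [← (hall _ hu).resolve_left hu1, ← (hall' _ hv).resolve_left hv1]
    refine hne ?_
    ext x
    constructor
    · intro hx; rcases hall x hx with rfl | rfl
      · exact one_mem _
      · exact ec ▸ hc'
    · intro hx; rcases hall' x hx with rfl | rfl
      · exact one_mem _
      · exact ec ▸ hc
  have e01 := hne h0 h1 a01 m0 n0 m1 n1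
  have e02 := hne h0 h2 a02 m0 n0 m2 n2
  have e12 := hne h1 h2 a12 m1 n1 m2 n2
  obtain ⟨-, h4, hs0, -⟩ := hA.centre h0
  obtain ⟨-, -, hs1, -⟩ := hA.centre h1
  obtain ⟨-, -, hs2, -⟩ := hA.centre h2
  have i0 := hs0 m0
  have i1 : c1 ∈ cfix W (R0 ^ 2) := b01.symm ▸ hs1 m1
  have i2 : c2 ∈ cfix W (R0 ^ 2) := b02.symm ▸ hs2 m2
  by_contra hp
  have hw0 := (mem_cfix.1 i0).1
  have hsub : ({1, c0, c1, c2, c0 * c1} : Set G) ⊆ (cfix W (R0 ^ 2) : Set G) := by
    simp only [Set.insert_subset_iff, Set.singleton_subset_iff]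
    exact ⟨one_mem _, i0, i1, i2, mul_mem i0 i1⟩
  have hcard := Set.ncard_le_ncard hsub (Set.toFinite _)
  rw [← Nat.card_coe_set_eq (cfix W (R0 ^ 2) : Set G), SetLike.coe_sort_coe, h4] at hcard
  have hp1 : c0 * c1 ≠ 1 := fun e => e01 (by
    rw [mul_eq_one_iff_eq_inv.1 e, inv_eq_of_mul_eq_one_right (hA.sq _ (mem_cfix.1 i1).1)])
  have hp0 : c0 * c1 ≠ c0 := fun e => n1 (mul_eq_left.1 e)
  have hp1' : c0 * c1 ≠ c1 := fun e => n0 (mul_eq_right.1 e)
  rw [Set.ncard_insert_of_notMem (by simp [Ne.symm n0, Ne.symm n1, Ne.symm n2, Ne.symm hp1]),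
    Set.ncard_insert_of_notMem (by simp [e01, e02, Ne.symm hp0]),
    Set.ncard_insert_of_notMem (by simp [e12, Ne.symm hp1']),
    Set.ncard_pair (Ne.symm hp)] at hcard
  omega

/-- In centre type only the centre is fixed by two of the involutions. -/
theorem Act.inf_axes (hA : Act π W) {k : Bool} (hk : CentreType π W k) {R R' : G} {i j : Fin 3}
    (hR : π R = root k i) (hR' : π R' = root k j) (hij : i ≠ j) :
    cfix W (R ^ 2) ⊓ cfix W (R' ^ 2) = cfix W R := by
  obtain ⟨h2, h4, hs, -⟩ := hA.centre hR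
  obtain ⟨-, h4', hs', -⟩ := hA.centre hR'
  have hc := hk R R' i j hR hR'
  have hle : cfix W R ≤ cfix W (R ^ 2) ⊓ cfix W (R' ^ 2) := le_inf hs (hc ▸ hs')
  refine (eq_of_le_of_card_ge hle ?_).symm
  have hd := card_dvd_of_le (inf_le_left : cfix W (R ^ 2) ⊓ cfix W (R' ^ 2) ≤ cfix W (R ^ 2))
  rw [h4] at hd
  have hne : Nat.card ↥(cfix W (R ^ 2) ⊓ cfix W (R' ^ 2)) ≠ 4 := fun e => by
    have e1 := eq_of_le_of_card_ge (inf_le_left : cfix W (R ^ 2) ⊓ cfix W (R' ^ 2) ≤ _) (by rw [e, h4])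
    have e2 := eq_of_le_of_card_ge (inf_le_right : cfix W (R ^ 2) ⊓ cfix W (R' ^ 2) ≤ _) (by rw [e, h4'])
    exact hA.pair hij hR hR' (propext (iff_of_true hc (e1.symm.trans e2)))
  have hmem : Nat.card ↥(cfix W (R ^ 2) ⊓ cfix W (R' ^ 2)) ∈ Nat.divisors 4 :=
    Nat.mem_divisors.2 ⟨hd, by norm_num⟩
  rw [show Nat.divisors 4 = {1, 2, 4} by decide] at hmem
  simp only [Finset.mem_insert, Finset.mem_singleton] at hmem
  omega

theorem small_twelve : ∀ z : Q, z ^ 3 = 1 → z ≠ 1 → (∀ (i : Fin 4) (j : Fin 3),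
    z * qr ≠ qr ^ (i : ℕ) * z ^ (j : ℕ)) ∨ ∀ (i : Fin 4) (j : Fin 3),
    z * qr ^ 2 ≠ qr ^ (i : ℕ) * z ^ (j : ℕ) := by
  decide +kernel

/-- No subgroup of order 12 contains an element of order 4. -/
theorem no_twelve (M : Subgroup Q) (h12 : Nat.card M = 12) : qr ∉ M := by
  intro hr
  haveI : Fact (Nat.Prime 3) := ⟨Nat.prime_three⟩
  obtain ⟨z, hz⟩ := exists_prime_orderOf_dvd_card' (G := M) 3 (by rw [h12]; norm_num)
  have hz' : orderOf (z : Q) = 3 := by rw [Subgroup.orderOf_coe, hz]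
  have hz3 : (z : Q) ^ 3 = 1 := by
    have := pow_orderOf_eq_one (z : Q)
    rwa [hz'] at this
  have hz1 : (z : Q) ≠ 1 := fun h => by rw [h, orderOf_one] at hz'; omega
  have hr4 : orderOf qr = 4 := orderOf_eq_prime_pow (p := 2) (n := 1) qr_sq_ne qr_four
  let f : Fin 4 × Fin 3 → M := fun p => ⟨qr ^ (p.1 : ℕ) * (z : Q) ^ (p.2 : ℕ),
    mul_mem (pow_mem hr _) (pow_mem z.2 _)⟩
  have hf : Function.Injective f := by
    rintro ⟨i, j⟩ ⟨i', j'⟩ h
    have h' : qr ^ (i : ℕ) * (z : Q) ^ (j : ℕ) = qr ^ (i' : ℕ) * (z : Q) ^ (j' : ℕ) := congrArg Subtype.val h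
    have hd : (qr ^ (i' : ℕ))⁻¹ * qr ^ (i : ℕ) = (z : Q) ^ (j' : ℕ) * ((z : Q) ^ (j : ℕ))⁻¹ := by
      rw [eq_mul_inv_iff_mul_eq, mul_assoc, h', inv_mul_cancel_left]
    have h1 : (qr ^ (i' : ℕ))⁻¹ * qr ^ (i : ℕ) = 1 := by
      have m1 : (qr ^ (i' : ℕ))⁻¹ * qr ^ (i : ℕ) ∈ zpowers qr :=
        mul_mem (inv_mem (pow_mem (mem_zpowers qr) _)) (pow_mem (mem_zpowers qr) _)
      have m2 : (qr ^ (i' : ℕ))⁻¹ * qr ^ (i : ℕ) ∈ zpowers (z : Q) := by
        rw [hd]; exact mul_mem (pow_mem (mem_zpowers _) _) (inv_mem (pow_mem (mem_zpowers _) _))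
      have o1 := orderOf_dvd_of_mem_zpowers m1
      have o2 := orderOf_dvd_of_mem_zpowers m2
      rw [hr4] at o1
      rw [hz'] at o2
      exact orderOf_eq_one_iff.1 (Nat.eq_one_of_dvd_coprimes (by norm_num) o1 o2)
    rw [inv_mul_eq_one] at h1
    rw [h1] at h'
    have h2 := mul_left_cancel h'
    refine Prod.ext (Fin.ext ?_) (Fin.ext ?_)
    · exact (pow_injOn_Iio_orderOf (by simp [hr4, i'.2]) (by simp [hr4, i.2]) h1).symm
    · exact pow_injOn_Iio_orderOf (by simp [hz', j.2]) (by simp [hz', j'.2]) h2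
  have hb := hf.bijective_of_nat_card_le (by simp [h12])
  rcases small_twelve _ hz3 hz1 with h | h
  · obtain ⟨⟨i, j⟩, hij⟩ := hb.2 ⟨(z : Q) * qr, mul_mem z.2 hr⟩
    exact h i j (congrArg Subtype.val hij).symm
  · obtain ⟨⟨i, j⟩, hij⟩ := hb.2 ⟨(z : Q) * qr ^ 2, mul_mem z.2 (pow_mem hr 2)⟩
    exact h i j (congrArg Subtype.val hij).symm

/-- A conjugation-invariant set of 8 points with a point moved by all but the powers of an element of
order 7 has no point fixed by an element of order 4. -/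
theorem central_of_fixed (hs : Function.Surjective π) {S : Set G} (hS : S.ncard = 8)
    (hinv : ∀ g : G, ∀ x ∈ S, g * x * g⁻¹ ∈ S) (hk : ∀ k ∈ π.ker, ∀ x ∈ S, k * x = x * k)
    {y t0 : G} (hy : π y = qy) (hy7 : y ^ 7 = 1) (ht0 : t0 ∈ S) (hyt : y * t0 = t0 * y)
    (hmv : ∀ x ∈ S, y * x = x * y → x = t0)
    {R x : G} (hR4 : π R ^ 4 = 1) (hR1 : π R ≠ 1) (hx : x ∈ S) (hRx : R * x = x * R) :
    ∀ g, g * t0 = t0 * g := by
  classical
  intro g
  by_contra hg
  set x1 := g * t0 * g⁻¹ with hx1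
  have hx1S : x1 ∈ S := hinv g t0 ht0
  have hx1ne : x1 ≠ t0 := fun h => hg (mul_inv_eq_iff_eq_mul.1 h)
  -- the conjugates of `t0` fill the set
  let f : Fin 7 → G := fun n => y ^ (n : ℕ) * x1 * (y ^ (n : ℕ))⁻¹
  have hy0 : orderOf y = 7 := by
    haveI : Fact (Nat.Prime 7) := ⟨by norm_num⟩
    exact orderOf_eq_prime hy7 fun h => qy_ne (by rw [← hy, h, map_one])
  have hinj : Function.Injective f := by
    intro a b hab
    by_contra hne
    have key : ∀ a b : ℕ, a < b → b < 7 → y ^ a * x1 * (y ^ a)⁻¹ = y ^ b * x1 * (y ^ b)⁻¹ → False := by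
      intro a b hlt hb he
      obtain ⟨d, rfl⟩ := Nat.exists_eq_add_of_le hlt.le
      have hc : Commute (y ^ d) x1 := by
        refine mul_inv_eq_iff_eq_mul.1 ?_
        calc y ^ d * x1 * (y ^ d)⁻¹ = (y ^ a)⁻¹ * (y ^ (a + d) * x1 * (y ^ (a + d))⁻¹) * y ^ a := by
              rw [pow_add]; group
          _ = (y ^ a)⁻¹ * (y ^ a * x1 * (y ^ a)⁻¹) * y ^ a := by rw [he]
          _ = x1 := by group
      obtain ⟨m, hm⟩ := exists_pow_eq_self_of_coprime (x := y) (n := d) (by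
        rw [hy0]
        exact (Nat.Coprime.symm ((by norm_num : Nat.Prime 7).coprime_iff_not_dvd.2 fun h => by
          have := Nat.le_of_dvd (by omega) h; omega)))
      exact hx1ne (hmv x1 hx1S (hm ▸ hc.pow_left m).eq)
    rcases Nat.lt_or_ge (a : ℕ) (b : ℕ) with h | h
    · exact key _ _ h b.2 hab
    · exact key _ _ (lt_of_le_of_ne h fun e => hne (Fin.ext e.symm)) a.2 hab.symm
  have hconj : ∀ s ∈ S, ∃ h : G, h * t0 * h⁻¹ = s := by
    have hfill : insert t0 (Set.range f) = S := by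
      refine Set.eq_of_subset_of_ncard_le ?_ ?_ (Set.toFinite _)
      · exact Set.insert_subset ht0 (by rintro _ ⟨n, rfl⟩; exact hinv _ _ hx1S)
      · rw [hS, Set.ncard_insert_of_notMem, Set.ncard_range_of_injective hinj, Nat.card_fin]
        rintro ⟨n, hn⟩
        apply hx1ne
        have hc : y ^ (n : ℕ) * t0 = t0 * y ^ (n : ℕ) := ((show Commute y t0 from hyt).pow_left _).eq
        calc x1 = (y ^ (n : ℕ))⁻¹ * f n * y ^ (n : ℕ) := by simp only [f]; group
          _ = t0 := by rw [hn, mul_assoc, ← hc, inv_mul_cancel_left]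
    intro s hs
    rw [← hfill] at hs
    rcases hs with rfl | ⟨n, rfl⟩
    · exact ⟨1, by group⟩
    · exact ⟨y ^ (n : ℕ) * g, by simp only [f, hx1]; group⟩
  set M := centralizer ({t0} : Set G) with hM
  have hidx : M.index = 8 := by
    rw [Subgroup.index, ← hS, ← Nat.card_coe_set_eq]
    refine Nat.card_congr (Equiv.ofBijective
      (fun c => ⟨Quotient.liftOn' c (fun h => h * t0 * h⁻¹) ?_, ?_⟩) ⟨?_, ?_⟩)
    · intro a b hab
      rw [QuotientGroup.leftRel_apply, mem_centralizer_singleton_iff] at hab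
      show a * t0 * a⁻¹ = b * t0 * b⁻¹
      calc a * t0 * a⁻¹ = a * (t0 * (a⁻¹ * b)) * b⁻¹ := by group
        _ = b * t0 * b⁻¹ := by rw [← hab]; group
    · induction c using Quotient.inductionOn' with
      | h a => exact hinv a t0 ht0
    · intro c c'
      induction c using Quotient.inductionOn' with
      | h a =>
        induction c' using Quotient.inductionOn' with
        | h b =>
          intro hcc
          have hcc' : a * t0 * a⁻¹ = b * t0 * b⁻¹ := congrArg Subtype.val hcc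
          refine Quotient.sound' ?_
          rw [QuotientGroup.leftRel_apply, mem_centralizer_singleton_iff]
          calc a⁻¹ * b * t0 = a⁻¹ * (b * t0 * b⁻¹) * b := by group
            _ = t0 * (a⁻¹ * b) := by rw [← hcc']; group
    · rintro ⟨s, hs⟩
      obtain ⟨h, hh⟩ := hconj s hs
      exact ⟨Quotient.mk'' h, Subtype.ext hh⟩
  have hkM : π.ker ≤ M := fun k hk' => mem_centralizer_singleton_iff.2 (hk k hk' t0 ht0)
  have hMi : (M.map π).index = 8 := by
    rw [← hidx, index_map_eq]; exacts [hs, hkM]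
  have h21 : Nat.card (M.map π) = 21 := by
    have h := (M.map π).card_mul_index
    rw [hMi, card_Q] at h
    omega
  obtain ⟨h, hh⟩ := hconj x hx
  have hmem : h⁻¹ * R * h ∈ M := mem_centralizer_singleton_iff.2 (by
    rw [← hh] at hRx
    calc h⁻¹ * R * h * t0 = h⁻¹ * (R * (h * t0 * h⁻¹)) * h := by group
      _ = t0 * (h⁻¹ * R * h) := by rw [hRx]; group)
  have h4' : (π (h⁻¹ * R * h)) ^ 4 = 1 := by
    rw [map_mul, map_mul, map_inv]
    calc ((π h)⁻¹ * π R * π h) ^ 4 = (π h)⁻¹ * π R ^ 4 * ((π h)⁻¹)⁻¹ := by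
          rw [← conj_pow, inv_inv]
      _ = 1 := by rw [hR4, mul_one, mul_inv_cancel]
  have hord : orderOf (π (h⁻¹ * R * h)) ∣ 21 := by
    rw [← h21]
    have := orderOf_dvd_natCard (⟨_, mem_map_of_mem π hmem⟩ : M.map π)
    rwa [← Subgroup.orderOf_coe] at this
  have h1 := orderOf_eq_one_iff.1 (Nat.eq_one_of_dvd_coprimes (by norm_num) (orderOf_dvd_of_pow_eq_one h4') hord)
  refine hR1 ?_
  rw [map_mul, map_mul, map_inv] at h1
  have e : π R = π h * 1 * (π h)⁻¹ := by rw [← h1]; group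
  rw [e, mul_one, mul_inv_cancel]

end Cfsg.Agent.GroupStructure3.RankFourL32
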