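import Cfsg.Agent.GroupStructure3.RankFourL32.Induction
import Cfsg.Agent.GroupStructure3.RankFourA5.Lifts
import Cfsg.Prelude.Def_Transfer

/-!
# The radical under the linear group of order 168
-/

set_option autoImplicit false
set_option linter.all false

namespace Cfsg.Agent.GroupStructure3.RankFourL32

open Subgroup
open scoped commutatorElement

universe u

theorem nonempty_elementary_equiv {W : Type*} [Group W] [Finite W] (hsq : ∀ w : W, w * w = 1)
    (h8 : Nat.card W = 8) : Nonempty (W ≃* (Fin 3 → Multiplicative (ZMod 2))) := by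
  have hc : ∀ a b : W, a * b = b * a := fun a b => by
    calc a * b = a * b * ((b * a) * (b * a)) := by rw [hsq (b * a), mul_one]
      _ = a * (b * b) * a * (b * a) := by group
      _ = b * a := by rw [hsq b, mul_one, hsq a, one_mul]
  letI : CommGroup W := { ‹Group W› with mul_comm := hc }
  letI : Module (ZMod 2) (Additive W) := AddCommGroup.zmodModule fun w => by
    show Additive.toMul w ^ 2 = 1
    rw [pow_two]; exact hsq _
  haveI : Module.Finite (ZMod 2) (Additive W) := Module.Finite.of_finite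
  haveI : Fact (Nat.Prime 2) := ⟨Nat.prime_two⟩
  have hfr : Module.finrank (ZMod 2) (Additive W) = 3 := by
    have h := Module.natCard_eq_pow_finrank (K := ZMod 2) (V := Additive W)
    rw [Nat.card_zmod, show Nat.card (Additive W) = Nat.card W from rfl, h8] at h
    exact Nat.pow_right_injective (le_refl 2) (h.symm.trans (by norm_num))
  let e : Additive W ≃+ (Fin 3 → ZMod 2) := ((Module.finBasisOfFinrankEq (ZMod 2) (Additive W) hfr).equivFun).toAddEquiv
  exact ⟨{
    toFun := fun w i => Multiplicative.ofAdd (e (Additive.ofMul w) i)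
    invFun := fun f => Additive.toMul (e.symm fun i => Multiplicative.toAdd (f i))
    left_inv := fun w => by simp
    right_inv := fun f => by simp
    map_mul' := fun a b => by funext i; simp }⟩

theorem main {X : Type u} [Group X] [Finite X] (hc : Cfsg.IsPConstrained 2 X) (hO : Cfsg.pPrimeCore 2 X = ⊥)
    (h4 : Cfsg.SectionalPRankLE 2 4 X) {L : Type*} [Group L] (eL : L ≃* Q) (e : X ⧸ Cfsg.pCore 2 X ≃* L) :
    (Cfsg.IsElementaryAbelian 2 (Cfsg.pCore 2 X) ∧ (Nat.card ↥(Cfsg.pCore 2 X) = 8 ∨ Nat.card ↥(Cfsg.pCore 2 X) = 16)) ∨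
      Nonempty (↥(Cfsg.pCore 2 X) ≃* Multiplicative (ZMod 4) × (Fin 3 → Multiplicative (ZMod 2))) := by
  classical
  haveI : Fact (Nat.Prime 2) := ⟨Nat.prime_two⟩
  have hcent := RankFourA5.centralizer_le_pCore hc hO
  have hP : IsPGroup 2 (Cfsg.pCore 2 X) := Cores.pCore_isPGroup 2
  set P := Cfsg.pCore 2 X with hPd
  let π : X →* Q := ((e.trans eL).toMonoidHom).comp (QuotientGroup.mk' P)
  have hker : π.ker = P := by
    ext x
    simp [π, MonoidHom.mem_ker]
  have hD : Data π := by
    refine ⟨(e.trans eL).surjective.comp (QuotientGroup.mk'_surjective P), ?_, h4, ?_⟩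
    · rw [hker]; exact hP
    · rw [hker]; exact hcent
  rcases shape hD with h | ⟨W, t, h⟩
  · refine Or.inl ⟨⟨⟨⟨fun a b => Subtype.ext ?_⟩⟩, fun a ha => ?_⟩, hker ▸ h.2.2⟩
    · exact h.1 a (hker.ge a.2) b (hker.ge b.2)
    · rw [pow_two]; exact h.2.1 a (hker.ge ha)
  right
  obtain ⟨eW⟩ := nonempty_elementary_equiv (W := W) (fun w => Subtype.ext (h.sqW _ w.2))
    (by exact h.cardW)
  let eT : Multiplicative (ZMod 4) ≃* zpowers t := mulEquivOfCyclicCardEq (by
    rw [Nat.card_zpowers, h.order, Nat.card_congr Multiplicative.toAdd, Nat.card_zmod]; rfl)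
  have hmem : ∀ p : zpowers t × W, (p.1 : X) * (p.2 : X) ∈ P := fun p =>
    hker ▸ mul_mem (zpowers_le.2 h.mem p.1.2) (h.leW p.2.2)
  let f : zpowers t × W →* P := MonoidHom.mk' (fun p => ⟨(p.1 : X) * (p.2 : X), hmem p⟩) fun a b =>
    Subtype.ext (by
      show (a.1 : X) * b.1 * ((a.2 : X) * b.2) = a.1 * a.2 * (b.1 * b.2)
      calc (a.1 : X) * b.1 * ((a.2 : X) * b.2) = a.1 * ((b.1 : X) * a.2) * b.2 := by group
        _ = _ := by rw [h.comm _ (zpowers_le.2 h.mem b.1.2) _ (h.leW a.2.2)]; group)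
  have hf : Function.Bijective f := by
    refine (Nat.bijective_iff_surjective_and_card f).2 ⟨fun p => ?_, ?_⟩
    · obtain ⟨w, hw, n, hn⟩ := h.gen p (hker.ge p.2)
      refine ⟨(⟨t ^ n, pow_mem (mem_zpowers t) n⟩, ⟨w, hw⟩), Subtype.ext ?_⟩
      show t ^ n * w = p
      rw [hn, h.comm _ (pow_mem h.mem n) w (h.leW hw)]
    · rw [Nat.card_prod, Nat.card_zpowers, h.order, h.cardW, ← hker, h.card, mul_comm]
  exact ⟨((MulEquiv.prodCongr eT eW.symm).trans (MulEquiv.ofBijective f hf)).symm⟩

end Cfsg.Agent.GroupStructure3.RankFourL32
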