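import Cfsg.Agent.GroupStructure3.RankFourL32.Abelian

/-!
# Elementary sections from generators
-/

set_option autoImplicit false
set_option linter.all false

namespace Cfsg.Agent.GroupStructure3.RankFourL32

open Subgroup
open scoped commutatorElement

universe u

variable {X : Type u} [Group X] [Finite X]

/-- Generators commuting and involutory modulo a subgroup span a section of rank at most four. -/
theorem section_bound (h4 : Cfsg.SectionalPRankLE 2 4 X) {N : Subgroup X} {S : Set X}
    (hn : ∀ s ∈ S, ∀ n ∈ N, s * n * s⁻¹ ∈ N) (hsq : ∀ s ∈ S, s * s ∈ N)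
    (hcm : ∀ s ∈ S, ∀ t ∈ S, ⁅s, t⁆ ∈ N) :
    Nat.card ↥(closure (S ∪ (N : Set X))) ≤ 16 * Nat.card N := by
  set K := closure (S ∪ (N : Set X)) with hK
  have hnS : ∀ s ∈ S, s ∈ normalizer (N : Set X) := by
    intro s hs
    rw [mem_normalizer_iff]
    intro n
    refine ⟨fun h => hn s hs n h, fun h => ?_⟩
    have h2 : (s * s)⁻¹ * (s * (s * n * s⁻¹) * s⁻¹) * (s * s) = n := by group
    have := mul_mem (mul_mem (inv_mem (hsq s hs)) (hn s hs _ h)) (hsq s hs)
    rwa [h2] at this
  have hKn : K ≤ normalizer (N : Set X) := (closure_le _).2 (by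
    rintro s (hs | hs)
    · exact hnS s hs
    · exact le_normalizer hs)
  have hNK : N ≤ K := fun n hn => subset_closure (Or.inr hn)
  haveI : (N.subgroupOf K).Normal := normal_subgroupOf_of_le_normalizer hKn
  let φ := QuotientGroup.mk' (N.subgroupOf K)
  have h1 : ∀ x : K, (x : X) ∈ N → φ x = 1 := fun x hx => (QuotientGroup.eq_one_iff x).2 hx
  let gen : Set K := {x | (x : X) ∈ S ∪ (N : Set X)}
  have htop : closure gen = ⊤ := by
    rw [eq_top_iff]
    intro x _
    have hmap : (closure gen).map K.subtype = K := by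
      rw [MonoidHom.map_closure]
      conv_rhs => rw [hK]
      congr 1
      ext z
      constructor
      · rintro ⟨z, hz, rfl⟩; exact hz
      · intro hz; exact ⟨⟨z, subset_closure hz⟩, hz, rfl⟩
    obtain ⟨x', hx', e⟩ := hmap.ge x.2
    exact (Subtype.ext e : x' = x) ▸ hx'
  have hgg : ∀ a ∈ gen, ∀ b ∈ gen, φ a * φ b = φ b * φ a := by
    intro a ha b hb
    rcases ha with ha | ha
    · rcases hb with hb | hb
      · rw [← commutatorElement_eq_one_iff_mul_comm, ← map_commutatorElement]
        exact h1 _ (hcm _ ha _ hb)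
      · rw [h1 b hb, mul_one, one_mul]
    · rw [h1 a ha, one_mul, mul_one]
  have hcomm : ∀ a b : K, φ a * φ b = φ b * φ a := by
    have h2 : ∀ a ∈ gen, ∀ b : K, φ a * φ b = φ b * φ a := fun a ha b => by
      have : closure gen ≤ (centralizer {φ a}).comap φ :=
        (closure_le _).2 fun b hb => mem_centralizer_singleton_iff.2 (hgg b hb a ha)
      exact (mem_centralizer_singleton_iff.1 (this (htop ▸ mem_top b))).symm
    intro a b
    have : closure gen ≤ (centralizer {φ b}).comap φ :=
      (closure_le _).2 fun a ha => mem_centralizer_singleton_iff.2 (h2 a ha b)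
    exact mem_centralizer_singleton_iff.1 (this (htop ▸ mem_top a))
  let sqHom : K →* K ⧸ N.subgroupOf K :=
    { toFun := fun a => φ a * φ a
      map_one' := by simp
      map_mul' := fun a b => by
        simp only [map_mul]
        rw [mul_assoc, ← mul_assoc (φ b) (φ a), hcomm b a, mul_assoc (φ a) (φ b), ← mul_assoc] }
  have hle : closure gen ≤ sqHom.ker := (closure_le _).2 (by
    rintro a (ha | ha)
    · show φ a * φ a = 1
      rw [← map_mul]; exact h1 _ (hsq _ ha)
    · show φ a * φ a = 1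
      rw [h1 a ha, one_mul])
  refine GenA.SectionalRankFour.card_le_of_squares (k := 4) h4 N K hNK hKn fun d hd => ?_
  have h : sqHom ⟨d, hd⟩ = 1 := hle (htop ▸ mem_top _)
  change φ ⟨d, hd⟩ * φ ⟨d, hd⟩ = 1 at h
  rw [← map_mul] at h
  have h2 : (⟨d, hd⟩ * ⟨d, hd⟩ : K) ∈ N.subgroupOf K := (QuotientGroup.eq_one_iff _).1 h
  exact mem_subgroupOf.1 h2

/-- A subgroup with given elements has at least the product of the orders of its parts. -/
theorem card_ge {π : X →* Q} {K P0 : Subgroup X} (hP0 : P0 ≤ K) (hk : P0 ≤ π.ker) {R R' R'' : X}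
    {k : Bool} (h0 : π R = root k 0) (h1 : π R' = root k 1) (h2 : π R'' = root k 2) {A B : X}
    (hA : π A = π (R ^ 2)) (hB : π B = π (R' ^ 2)) (hAK : A ∈ K) (hBK : B ∈ K) :
    4 * Nat.card P0 ≤ Nat.card K := by
  classical
  have hsub : ({1, π A, π B, π (A * B)} : Set Q) ⊆ (K.map π : Set Q) := by
    simp only [Set.insert_subset_iff, Set.singleton_subset_iff]
    exact ⟨one_mem _, ⟨A, hAK, rfl⟩, ⟨B, hBK, rfl⟩, ⟨A * B, mul_mem hAK hBK, rfl⟩⟩
  have hcard := Set.ncard_le_ncard hsub (Set.toFinite _)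
  rw [← Nat.card_coe_set_eq (K.map π : Set Q), SetLike.coe_sort_coe] at hcard
  have e0 : π A = root k 0 ^ 2 := by rw [hA, map_pow, h0]
  have e1 : π B = root k 1 ^ 2 := by rw [hB, map_pow, h1]
  have e2 : π (A * B) = root k 2 ^ 2 := by rw [map_mul, e0, e1, root_mul]
  rw [e2, e0, e1] at hcard
  have inj := root_sq_injective k
  have n01 : root k 0 ^ 2 ≠ root k 1 ^ 2 := fun h => absurd (inj h) (by decide)
  have n02 : root k 0 ^ 2 ≠ root k 2 ^ 2 := fun h => absurd (inj h) (by decide)
  have n12 : root k 1 ^ 2 ≠ root k 2 ^ 2 := fun h => absurd (inj h) (by decide)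
  rw [Set.ncard_insert_of_notMem (by simp [Ne.symm (root_sq_ne k 0), Ne.symm (root_sq_ne k 1), Ne.symm (root_sq_ne k 2)]),
    Set.ncard_insert_of_notMem (by simp [n01, n02]), Set.ncard_pair n12] at hcard
  have h := Subgroup.relIndex_ker K π
  have h' := (π.ker.subgroupOf K).card_mul_index
  have hle : Nat.card P0 ≤ Nat.card (π.ker.subgroupOf K) := by
    refine Nat.card_le_card_of_injective (fun p => ⟨⟨p, hP0 p.2⟩, hk p.2⟩) fun a b hab => ?_
    exact Subtype.ext (congrArg (fun z : π.ker.subgroupOf K => ((z : K) : X)) hab)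
  rw [← h, Subgroup.relIndex] at hcard
  calc 4 * Nat.card P0 ≤ (π.ker.subgroupOf K).index * Nat.card (π.ker.subgroupOf K) :=
        Nat.mul_le_mul (by omega) hle
    _ = Nat.card K := by rw [mul_comm, h']

/-- A subgroup with given elements has at least the product of the orders of its parts. -/
theorem card_ge_pair {π : X →* Q} {K P0 : Subgroup X} (hP0 : P0 ≤ K) (hk : P0 ≤ π.ker) {k : Bool} {i j : Fin 3} (hij : i ≠ j) {A B : X}
    (e0 : π A = root k i ^ 2) (e1 : π B = root k j ^ 2) (hAK : A ∈ K) (hBK : B ∈ K) :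
    4 * Nat.card P0 ≤ Nat.card K := by
  classical
  have hsub : ({1, π A, π B, π (A * B)} : Set Q) ⊆ (K.map π : Set Q) := by
    simp only [Set.insert_subset_iff, Set.singleton_subset_iff]
    exact ⟨one_mem _, ⟨A, hAK, rfl⟩, ⟨B, hBK, rfl⟩, ⟨A * B, mul_mem hAK hBK, rfl⟩⟩
  have hcard := Set.ncard_le_ncard hsub (Set.toFinite _)
  rw [← Nat.card_coe_set_eq (K.map π : Set Q), SetLike.coe_sort_coe] at hcard
  obtain ⟨l, hli, hlj, hl⟩ : ∃ l : Fin 3, l ≠ i ∧ l ≠ j ∧ root k i ^ 2 * root k j ^ 2 = root k l ^ 2 := by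
    revert hij; clear e0 e1 hcard hsub; revert i j k; decide +kernel
  have e2 : π (A * B) = root k l ^ 2 := by rw [map_mul, e0, e1, hl]
  rw [e2, e0, e1] at hcard
  have inj := root_sq_injective k
  have n01 : root k i ^ 2 ≠ root k j ^ 2 := fun h => hij (inj h)
  have n02 : root k i ^ 2 ≠ root k l ^ 2 := fun h => hli (inj h).symm
  have n12 : root k j ^ 2 ≠ root k l ^ 2 := fun h => hlj (inj h).symm
  rw [Set.ncard_insert_of_notMem (by simp [Ne.symm (root_sq_ne k i), Ne.symm (root_sq_ne k j), Ne.symm (root_sq_ne k l)]),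
    Set.ncard_insert_of_notMem (by simp [n01, n02]), Set.ncard_pair n12] at hcard
  have h := Subgroup.relIndex_ker K π
  have h' := (π.ker.subgroupOf K).card_mul_index
  have hle : Nat.card P0 ≤ Nat.card (π.ker.subgroupOf K) := by
    refine Nat.card_le_card_of_injective (fun p => ⟨⟨p, hP0 p.2⟩, hk p.2⟩) fun a b hab => ?_
    exact Subtype.ext (congrArg (fun z : π.ker.subgroupOf K => ((z : K) : X)) hab)
  rw [← h, Subgroup.relIndex] at hcard
  calc 4 * Nat.card P0 ≤ (π.ker.subgroupOf K).index * Nat.card (π.ker.subgroupOf K) :=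
        Nat.mul_le_mul (by omega) hle
    _ = Nat.card K := by rw [mul_comm, h']

end Cfsg.Agent.GroupStructure3.RankFourL32
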