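import Cfsg.Agent.GroupStructure3.RankFourL32.Group
import Cfsg.Agent.GroupStructure3.RankFourA5.Lifts
import Cfsg.Agent.GroupStructure3.RankFourTop.Glue
import Cfsg.Agent.GenA.SectionalRankFour

/-!
# Extensions of 2-groups by the linear group of order 168
-/

set_option autoImplicit false
set_option linter.all false

namespace Cfsg.Agent.GroupStructure3.RankFourL32

open Subgroup
open scoped commutatorElement Pointwise

universe u

variable {X : Type u} [Group X] [Finite X]

/-- A faithful extension of a 2-group of small rank by the linear group of order 168. -/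
structure Data (π : X →* Q) : Prop where
  surj : Function.Surjective π
  pgroup : IsPGroup 2 π.ker
  rank : Cfsg.SectionalPRankLE 2 4 X
  faith : centralizer (π.ker : Set X) ≤ π.ker

/-- The subgroup generated by the squares of the kernel. -/
def Sq (π : X →* Q) : Subgroup X := closure {x | ∃ p ∈ π.ker, x = p * p}

variable {π : X →* Q}

theorem sq_mem_Sq {p : X} (hp : p ∈ π.ker) : p * p ∈ Sq π := subset_closure ⟨p, hp, rfl⟩

theorem Sq_le : Sq π ≤ π.ker := (closure_le _).2 (by
  rintro _ ⟨p, hp, rfl⟩; exact mul_mem hp hp)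

instance Sq_normal : (Sq π).Normal := ⟨fun n hn g => by
  have hle : Sq π ≤ (Sq π).comap (MulAut.conj g).toMonoidHom := (closure_le _).2 (by
    rintro _ ⟨r, hr, rfl⟩
    refine subset_closure ⟨g * r * g⁻¹, (MonoidHom.normal_ker π).conj_mem r hr g, ?_⟩
    show g * (r * r) * g⁻¹ = _
    group)
  exact hle hn⟩

theorem comm_mem_Sq {p q : X} (hp : p ∈ π.ker) (hq : q ∈ π.ker) : ⁅p, q⁆ ∈ Sq π := by
  have h : ⁅p, q⁆ = (p * q) * (p * q) * (q⁻¹ * (p⁻¹ * p⁻¹) * q) * (q⁻¹ * q⁻¹) := by
    simp only [commutatorElement_def]; group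
  rw [h]
  refine mul_mem (mul_mem (sq_mem_Sq (mul_mem hp hq)) ?_) (sq_mem_Sq (inv_mem hq))
  have := (Sq_normal (π := π)).conj_mem _ (sq_mem_Sq (inv_mem hp)) q⁻¹
  rwa [inv_inv] at this

theorem Sq_le_frattini (hP : IsPGroup 2 π.ker) : Sq π ≤ (frattini π.ker).map π.ker.subtype := by
  haveI : Fact (Nat.Prime 2) := ⟨Nat.prime_two⟩
  refine (closure_le _).2 ?_
  rintro _ ⟨p, hp, rfl⟩
  exact ⟨⟨p, hp⟩ * ⟨p, hp⟩, by rw [← pow_two]; exact Solvable.Basics.pow_mem_frattini hP _, rfl⟩

/-- An element of order 7 over `qy`. -/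
theorem exists_seven (hs : Function.Surjective π) (hP : IsPGroup 2 π.ker) :
    ∃ y, π y = qy ∧ y ^ 7 = 1 := by
  obtain ⟨x, hx⟩ := hs qy
  obtain ⟨a, ha⟩ := hP ⟨x ^ 7, by rw [MonoidHom.mem_ker, map_pow, hx, qy_seven]⟩
  have ha' : (x ^ 7) ^ 2 ^ a = 1 := congrArg Subtype.val ha
  refine ⟨x ^ 2 ^ (6 * a), ?_, ?_⟩
  · rw [map_pow, hx, pow_eq_pow_mod _ qy_seven, pow_mul, Nat.pow_mod]
    norm_num
  · rw [← pow_mul, mul_comm, pow_mul, show 6 * a = a + 5 * a by ring, pow_add, pow_mul (x ^ 7) (2 ^ a),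
      ha', one_pow]

theorem not_mem_ker {y : X} (hy : π y = qy) : y ∉ π.ker := by
  rw [MonoidHom.mem_ker, hy]; exact qy_ne

/-- An element of order 7 moves the quotient of the kernel by the squares. -/
theorem Data.moved (hD : Data π) {y : X} (hy : π y = qy) (hy7 : y ^ 7 = 1) :
    ∃ p ∈ π.ker, ⁅y, p⁆ ∉ Sq π := by
  obtain ⟨p, hp, hn⟩ := RankFourA5.exists_moved (P := π.ker) hD.pgroup hD.faith
    (by norm_num : Nat.Prime 7) (by norm_num) hy7 (not_mem_ker hy)
  exact ⟨p, hp, fun h => hn (Sq_le_frattini hD.pgroup h)⟩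

/-- If an element of order 7 moves the kernel, the extension is faithful. -/
theorem faith_of_moved (hs : Function.Surjective π) (hP : IsPGroup 2 π.ker) {y : X} (hy : π y = qy)
    (hy7 : y ^ 7 = 1) (hm : ∃ p ∈ π.ker, ⁅y, p⁆ ≠ 1) : centralizer (π.ker : Set X) ≤ π.ker := by
  haveI := simple_Q
  set C := centralizer (π.ker : Set X) with hC
  haveI : C.Normal := inferInstance
  haveI : (C.map π).Normal := ‹C.Normal›.map π hs
  rcases (inferInstance : (C.map π).Normal).eq_bot_or_eq_top with h | h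
  · exact (Subgroup.map_eq_bot_iff C).1 h
  exfalso
  obtain ⟨c, hc, hcy⟩ : π y ∈ C.map π := h ▸ mem_top _
  set p0 := c⁻¹ * y with hp0
  have hp0k : p0 ∈ π.ker := by rw [hp0, MonoidHom.mem_ker, map_mul, map_inv, hcy, inv_mul_cancel]
  have hstep : ∀ p ∈ π.ker, y * p * y⁻¹ = p0 * p * p0⁻¹ := by
    intro p hp
    have h1 := mem_centralizer_iff.1 hc _
      (show p0 * p * p0⁻¹ ∈ (π.ker : Set X) from mul_mem (mul_mem hp0k hp) (inv_mem hp0k))
    calc y * p * y⁻¹ = c * (p0 * p * p0⁻¹) * c⁻¹ := by rw [hp0]; group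
      _ = p0 * p * p0⁻¹ := by rw [← h1]; group
  have hpow : ∀ n : ℕ, ∀ p ∈ π.ker, y ^ n * p * (y ^ n)⁻¹ = p0 ^ n * p * (p0 ^ n)⁻¹ := by
    intro n
    induction n with
    | zero => intro p _; simp
    | succ n ih =>
      intro p hp
      have hp' : p0 ^ n * p * (p0 ^ n)⁻¹ ∈ π.ker :=
        mul_mem (mul_mem (pow_mem hp0k n) hp) (inv_mem (pow_mem hp0k n))
      calc y ^ (n + 1) * p * (y ^ (n + 1))⁻¹ = y * (y ^ n * p * (y ^ n)⁻¹) * y⁻¹ := by
            rw [pow_succ']; group
        _ = p0 * (p0 ^ n * p * (p0 ^ n)⁻¹) * p0⁻¹ := by rw [ih p hp, hstep _ hp']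
        _ = _ := by rw [pow_succ']; group
  obtain ⟨a, ha⟩ := hP ⟨p0, hp0k⟩
  have ha' : p0 ^ 2 ^ a = 1 := congrArg Subtype.val ha
  have hp7 : p0 ^ 7 ∈ C := mem_centralizer_iff.2 fun p hp => by
    have h1 := hpow 7 p hp
    rw [hy7, one_mul, inv_one, mul_one] at h1
    exact (mul_inv_eq_iff_eq_mul.1 h1.symm).symm
  have hp0C : p0 ∈ C := by
    have hco : Nat.Coprime 7 (orderOf p0) :=
      Nat.Coprime.coprime_dvd_right (orderOf_dvd_of_pow_eq_one ha') (Nat.Coprime.pow_right a (by norm_num))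
    obtain ⟨m, hm⟩ := exists_pow_eq_self_of_coprime hco
    rw [← hm]; exact pow_mem hp7 m
  obtain ⟨p, hp, hpy⟩ := hm
  refine hpy ?_
  rw [commutatorElement_eq_one_iff_mul_comm]
  have h2 := mem_centralizer_iff.1 hp0C p hp
  calc y * p = (y * p * y⁻¹) * y := by group
    _ = (p0 * p * p0⁻¹) * y := by rw [hstep p hp]
    _ = p * y := by rw [← h2]; group

/-- The projection of a quotient by a subgroup of the kernel. -/
def quot (π : X →* Q) (N : Subgroup X) [N.Normal] (hN : N ≤ π.ker) : X ⧸ N →* Q :=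
  QuotientGroup.lift N π hN

theorem quot_mk (N : Subgroup X) [N.Normal] (hN : N ≤ π.ker) (x : X) :
    quot π N hN (QuotientGroup.mk' N x) = π x := rfl

theorem ker_quot (N : Subgroup X) [N.Normal] (hN : N ≤ π.ker) :
    (quot π N hN).ker = π.ker.map (QuotientGroup.mk' N) := QuotientGroup.ker_lift _ _ _

theorem card_ker_quot (N : Subgroup X) [N.Normal] (hN : N ≤ π.ker) :
    Nat.card π.ker = Nat.card (quot π N hN).ker * Nat.card N := by
  have h := Subgroup.relIndex_ker π.ker (QuotientGroup.mk' N)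
  rw [QuotientGroup.ker_mk'] at h
  rw [ker_quot, ← h, Subgroup.relIndex, ← Nat.card_congr (subgroupOfEquivOfLe hN).toEquiv, mul_comm,
    card_mul_index]

theorem Data.quotient (hD : Data π) {N : Subgroup X} [N.Normal] (hN : N ≤ π.ker)
    (hmv : ∀ y : X, π y = qy → y ^ 7 = 1 → ∃ p ∈ π.ker, ⁅y, p⁆ ∉ N) : Data (quot π N hN) := by
  have hs : Function.Surjective (quot π N hN) := fun q => by
    obtain ⟨x, hx⟩ := hD.surj q; exact ⟨x, hx⟩
  have hP : IsPGroup 2 (quot π N hN).ker := by rw [ker_quot]; exact hD.pgroup.map _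
  refine ⟨hs, hP, RankFourTop.sectional_surjective hD.rank (QuotientGroup.mk'_surjective N), ?_⟩
  obtain ⟨y, hy, hy7⟩ := exists_seven hD.surj hD.pgroup
  obtain ⟨p, hp, hpN⟩ := hmv y hy hy7
  refine faith_of_moved hs hP (y := QuotientGroup.mk' N y) hy (by rw [← map_pow, hy7, map_one])
    ⟨QuotientGroup.mk' N p, by rw [ker_quot]; exact ⟨p, hp, rfl⟩, fun h => hpN ?_⟩
  rw [← map_commutatorElement] at h
  exact (QuotientGroup.eq_one_iff _).1 h

/-- A subgroup covering the quotient and meeting the kernel with index two. -/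
theorem Data.sub (hD : Data π) {X1 P1 : Subgroup X} [P1.Normal] (hinf : X1 ⊓ π.ker = P1)
    (hsup : X1 ⊔ π.ker = ⊤) (h2 : Nat.card π.ker = 2 * Nat.card P1) :
    Data (π.comp X1.subtype) ∧ Nat.card (π.comp X1.subtype).ker = Nat.card P1 := by
  have hcard : Nat.card (π.comp X1.subtype).ker = Nat.card P1 := by
    rw [← hinf]
    refine Nat.card_congr ⟨fun x => ⟨x.1.1, x.1.2, x.2⟩, fun x => ⟨⟨x.1, x.2.1⟩, x.2.2⟩,
      fun x => rfl, fun x => rfl⟩
  have hs : Function.Surjective (π.comp X1.subtype) := by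
    intro q
    obtain ⟨x, rfl⟩ := hD.surj q
    have hx : x ∈ (X1 : Set X) * (π.ker : Set X) := by
      rw [← Subgroup.mul_normal, hsup]; trivial
    obtain ⟨a, ha, k, hk, rfl⟩ := Set.mem_mul.1 hx
    exact ⟨⟨a, ha⟩, by show π a = _; rw [map_mul, MonoidHom.mem_ker.1 hk, mul_one]⟩
  have hP : IsPGroup 2 (π.comp X1.subtype).ker := fun x => by
    obtain ⟨a, ha⟩ := hD.pgroup ⟨(x.1 : X), x.2⟩
    refine ⟨a, Subtype.ext (Subtype.ext ?_)⟩
    have := congrArg Subtype.val ha
    simpa using this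
  refine ⟨⟨hs, hP, RankFourTop.sectional_subgroup hD.rank X1, ?_⟩, hcard⟩
  obtain ⟨⟨y, hyX⟩, hy, hy7⟩ := exists_seven hs hP
  have hy7' : y ^ 7 = 1 := congrArg Subtype.val hy7
  refine faith_of_moved hs hP (y := ⟨y, hyX⟩) hy hy7 ?_
  by_contra hcon
  push Not at hcon
  obtain ⟨p, hp, hpy⟩ := hD.moved hy hy7'
  have hfix : ∀ m ∈ P1, y * m = m * y := fun m hm => by
    rw [← hinf] at hm
    have := congrArg Subtype.val (hcon ⟨m, hm.1⟩ hm.2)
    exact commutatorElement_eq_one_iff_mul_comm.1 this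
  -- `y` centralises the subgroup of index two and the quotient by it
  have hm : p⁻¹ * (y * p * y⁻¹) ∈ P1 := by
    by_cases hpP : p ∈ P1
    · exact mul_mem (inv_mem hpP) ((inferInstance : P1.Normal).conj_mem p hpP y)
    · have hidx : (P1.subgroupOf π.ker).index = 2 := by
        have h := (P1.subgroupOf π.ker).card_mul_index
        rw [Nat.card_congr (subgroupOfEquivOfLe (hinf ▸ inf_le_right)).toEquiv, h2] at h
        have := Nat.card_pos (α := P1)
        nlinarith
      have hq : y * p * y⁻¹ ∈ π.ker := (MonoidHom.normal_ker π).conj_mem p hp y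
      have h' := (Subgroup.mul_mem_iff_of_index_two hidx (a := ⟨p⁻¹, inv_mem hp⟩) (b := ⟨_, hq⟩)).2 (by
        simp only [mem_subgroupOf]
        refine iff_of_false (fun h => hpP (inv_mem_iff.1 h)) (fun h => hpP ?_)
        have := (inferInstance : P1.Normal).conj_mem _ h y⁻¹
        simpa [mul_assoc] using this)
      exact h'
  set m := p⁻¹ * (y * p * y⁻¹) with hmd
  have hpow : ∀ n : ℕ, y ^ n * p * (y ^ n)⁻¹ = p * m ^ n := by
    intro n
    induction n with
    | zero => simp
    | succ n ih =>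
      calc y ^ (n + 1) * p * (y ^ (n + 1))⁻¹ = y * (y ^ n * p * (y ^ n)⁻¹) * y⁻¹ := by
            rw [pow_succ']; group
        _ = (y * p * y⁻¹) * (y * m ^ n * y⁻¹) := by rw [ih]; group
        _ = (p * m) * m ^ n := by rw [hfix _ (pow_mem hm n), mul_inv_cancel_right, hmd]; group
        _ = _ := by rw [pow_succ', mul_assoc]
  have h7 := hpow 7
  rw [hy7', one_mul, inv_one, mul_one, left_eq_mul] at h7
  obtain ⟨a, ha⟩ := hD.pgroup ⟨m, (hinf.ge hm).2⟩
  have ha' : m ^ 2 ^ a = 1 := congrArg Subtype.val ha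
  have hm1 : m = 1 := orderOf_eq_one_iff.1 (Nat.eq_one_of_dvd_coprimes
    (Nat.Coprime.pow_left a (by norm_num : Nat.Coprime 2 7)) (orderOf_dvd_of_pow_eq_one ha')
    (orderOf_dvd_of_pow_eq_one h7))
  refine hpy ?_
  have e1 : y * p * y⁻¹ = p := by
    calc y * p * y⁻¹ = p * (p⁻¹ * (y * p * y⁻¹)) := by group
      _ = p := by rw [← hmd, hm1, mul_one]
  show ⁅y, p⁆ ∈ Sq π
  rw [commutatorElement_def, e1, mul_inv_cancel]
  exact one_mem _

theorem centralizer_qr : ∀ t : Q, t * qr = qr * t → t = 1 ∨ t = qr ∨ t = qr ^ 2 ∨ t = qr ^ 3 := by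
  decide +kernel

theorem normalizer_qr : ∀ t : Q, t * qr * t⁻¹ = qr → t = 1 ∨ t = qr ∨ t = qr ^ 2 ∨ t = qr ^ 3 :=
  fun t h => centralizer_qr t (mul_inv_eq_iff_eq_mul.1 h)

/-- Either the extension by a subgroup of index two of the kernel splits off, or roots of involutions have
fourth power outside that subgroup. -/
theorem split_or (hD : Data π) (P1 : Subgroup X) [P1.Normal] (hle : P1 ≤ π.ker)
    (h2 : Nat.card π.ker = 2 * Nat.card P1) :
    (∃ X1 : Subgroup X, X1 ⊓ π.ker = P1 ∧ X1 ⊔ π.ker = ⊤) ∨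
      ∀ (R : X) (k : Bool) (i : Fin 3), π R = root k i → R ^ 4 ∉ P1 := by
  classical
  set X1 := commutator X ⊔ P1 with hX1
  have hsup : X1 ⊔ π.ker = ⊤ := by
    have h1 : (X1 ⊔ π.ker).map π = ⊤ := by
      rw [eq_top_iff, ← commutator_Q]
      refine le_trans ?_ (map_mono (le_sup_left.trans le_sup_left : commutator X ≤ X1 ⊔ π.ker))
      rw [commutator_def, commutator_def, map_commutator, ← MonoidHom.range_eq_map,
        MonoidHom.range_eq_top.2 hD.surj]
    have h2' := congrArg (comap π) h1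
    rwa [comap_map_eq, comap_top, sup_eq_left.2 le_sup_right] at h2'
  by_cases hk : π.ker ≤ X1
  swap
  · refine Or.inl ⟨X1, ?_, hsup⟩
    have hle1 : P1 ≤ X1 ⊓ π.ker := le_inf le_sup_right hle
    refine (eq_of_le_of_card_ge hle1 ?_).symm
    have hd : Nat.card P1 ∣ Nat.card ↥(X1 ⊓ π.ker) := card_dvd_of_le hle1
    have hd2 : Nat.card ↥(X1 ⊓ π.ker) ∣ 2 * Nat.card P1 := h2 ▸ card_dvd_of_le inf_le_right
    obtain ⟨j, hj⟩ := hd
    rw [hj, mul_comm 2 (Nat.card P1)] at hd2
    have hj2 : j ∣ 2 := Nat.dvd_of_mul_dvd_mul_left Nat.card_pos hd2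
    rcases (Nat.dvd_prime Nat.prime_two).1 hj2 with rfl | rfl
    · rw [hj, mul_one]
    · exfalso
      have he := eq_of_le_of_card_ge (inf_le_right : X1 ⊓ π.ker ≤ π.ker) (by rw [hj, h2, mul_comm])
      exact hk (he ▸ inf_le_left)
  refine Or.inr fun R' k i hR' h4 => ?_
  obtain ⟨G0, hG0⟩ := hD.surj (conjElt k i)
  set R := G0⁻¹ * R' * G0 with hR
  have hRπ : π R = qr := by rw [hR, map_mul, map_mul, map_inv, hG0, hR', root]; group
  have hR4 : R ^ 4 ∈ P1 := by
    have : R ^ 4 = G0⁻¹ * R' ^ 4 * (G0⁻¹)⁻¹ := by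
      rw [hR, show G0⁻¹ * R' * G0 = G0⁻¹ * R' * (G0⁻¹)⁻¹ by group, conj_pow]
    rw [this]
    exact (inferInstance : P1.Normal).conj_mem _ h4 _
  let q := QuotientGroup.mk' P1
  set π' := quot π P1 hle with hπ'
  have hker2 : Nat.card π'.ker = 2 := by
    have h := card_ker_quot P1 hle
    rw [h2] at h
    exact (Nat.eq_of_mul_eq_mul_right Nat.card_pos h).symm
  haveI : Finite π'.ker := inferInstance
  obtain ⟨z, hz, hz1, hzall⟩ := GenA.SectionalRankFour.exists_gen hker2
  have hzc : ∀ g, g * z = z * g := by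
    intro g
    rcases hzall _ ((MonoidHom.normal_ker π').conj_mem z hz g) with h | h
    · exact absurd (conj_eq_one_iff.1 h) hz1
    · exact mul_inv_eq_iff_eq_mul.1 h
  have hzX : z ∈ commutator (X ⧸ P1) := by
    rw [ker_quot] at hz
    obtain ⟨p, hp, rfl⟩ := hz
    have hpX := mem_map_of_mem q (hk hp)
    rw [hX1, Subgroup.map_sup, (Subgroup.map_eq_bot_iff P1).2 (by rw [QuotientGroup.ker_mk']),
      sup_bot_eq, commutator_def, map_commutator, ← MonoidHom.range_eq_map,
      MonoidHom.range_eq_top.2 (QuotientGroup.mk'_surjective P1), ← commutator_def] at hpX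
    exact hpX
  have hr4 : q R ^ 4 = 1 := by rw [← map_pow]; exact (QuotientGroup.eq_one_iff _).2 hR4
  have hrπ : π' (q R) = qr := hRπ
  have hz2 : z * z = 1 := by
    rcases hzall _ (mul_mem hz hz) with h | h
    · exact h
    · exact absurd (mul_left_cancel (h.trans (mul_one z).symm)) hz1
  set r := q R with hrdef
  -- a Sylow subgroup containing the lift and the central involution
  set C := zpowers r ⊔ zpowers z with hC
  have hcardX : Nat.card (X ⧸ P1) = 336 := by
    have h := π'.ker.card_mul_index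
    rw [index_ker, MonoidHom.range_eq_top.2 (fun g => by
      obtain ⟨x, hx⟩ := hD.surj g; exact ⟨q x, hx⟩), card_top, card_Q, hker2] at h
    exact h.symm
  haveI : Fact (Nat.Prime 2) := ⟨Nat.prime_two⟩
  haveI : (zpowers z).Normal := ⟨fun n hn g => by
    obtain ⟨j, rfl⟩ := mem_zpowers_iff.1 hn
    rw [(show Commute g (z ^ j) from Commute.zpow_right (hzc g) j).eq, mul_inv_cancel_right]
    exact hn⟩
  have hC2 : IsPGroup 2 C := IsPGroup.to_sup_of_normal_right (IsPGroup.of_card (n := 2) (by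
      rw [Nat.card_zpowers, orderOf_eq_prime_pow (p := 2) (n := 1) (fun h => by
        have h' := congrArg π' h
        rw [map_pow, map_one, hrπ] at h'
        exact qr_sq_ne h') hr4])) (IsPGroup.of_card (n := 1) (by
      rw [Nat.card_zpowers, orderOf_eq_prime (p := 2) (by rw [pow_two, hz2]) hz1, pow_one]))
  obtain ⟨S, hS⟩ := hC2.exists_le_sylow
  set T : Subgroup (X ⧸ P1) := S.toSubgroup with hT
  have hcardT : Nat.card T = 16 := by
    rw [hT, S.card_eq_multiplicity, hcardX, show (336 : ℕ) = 2 ^ 4 * 21 from rfl,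
      Nat.factorization_mul (by norm_num) (by norm_num), Finsupp.add_apply, Nat.Prime.factorization_pow,
      Finsupp.single_eq_same, Nat.factorization_eq_zero_of_not_dvd (by norm_num : ¬ 2 ∣ 21)]
    · rfl
    · exact Nat.prime_two
  have hrT : r ∈ T := hS (mem_sup_left (mem_zpowers r))
  have hzT : z ∈ T := hS (mem_sup_right (mem_zpowers z))
  -- the derived group of the Sylow subgroup
  have hker : ∀ x, π' x = 1 → x = 1 ∨ x = z := fun x hx => hzall x hx
  have hπT : Nat.card (T.map π') = 8 := by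
    have h := Subgroup.relIndex_ker T π'
    have hkT : π'.ker ≤ T := fun x hx => by
      rcases hzall x hx with rfl | rfl
      · exact one_mem T
      · exact hzT
    rw [← h, Subgroup.relIndex]
    have h' := (π'.ker.subgroupOf T).card_mul_index
    rw [Nat.card_congr (subgroupOfEquivOfLe hkT).toEquiv, hker2, hcardT] at h'
    omega
  obtain ⟨t, htT, ht⟩ : ∃ t ∈ T, π' t ∉ zpowers qr := by
    by_contra hcon
    push Not at hcon
    have hle' : T.map π' ≤ zpowers qr := by
      rintro _ ⟨t, ht, rfl⟩; exact hcon t ht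
    have := card_le_of_le hle'
    rw [hπT, Nat.card_zpowers, orderOf_eq_prime_pow (p := 2) (n := 1) qr_sq_ne qr_four] at this
    omega
  have hnorm : π' t * qr * (π' t)⁻¹ = qr⁻¹ := by
    have hsub : zpowers qr ≤ T.map π' := zpowers_le.2 ⟨r, hrT, hrπ⟩
    have hidx : ((zpowers qr).subgroupOf (T.map π')).index = 2 := by
      have h' := ((zpowers qr).subgroupOf (T.map π')).card_mul_index
      rw [Nat.card_congr (subgroupOfEquivOfLe hsub).toEquiv, hπT, Nat.card_zpowers,
        orderOf_eq_prime_pow (p := 2) (n := 1) qr_sq_ne qr_four] at h'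
      omega
    haveI := Subgroup.normal_of_index_eq_two hidx
    have h := (inferInstance : ((zpowers qr).subgroupOf (T.map π')).Normal).conj_mem
      ⟨qr, hsub (mem_zpowers qr)⟩ (mem_zpowers qr) ⟨π' t, ⟨t, htT, rfl⟩⟩
    rw [mem_subgroupOf] at h
    change π' t * qr * (π' t)⁻¹ ∈ zpowers qr at h
    obtain ⟨j, hj, hj'⟩ : ∃ j : ℕ, j < 4 ∧ π' t * qr * (π' t)⁻¹ = qr ^ j := by
      obtain ⟨m, hm⟩ := Submonoid.mem_powers_iff _ _ |>.1 (mem_powers_iff_mem_zpowers.2 h)
      exact ⟨m % 4, Nat.mod_lt _ (by norm_num), by rw [← hm, pow_eq_pow_mod _ qr_four]⟩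
    have hne1 : π' t * qr * (π' t)⁻¹ ≠ qr := fun e => ht (by
      rcases normalizer_qr _ e with e | e | e | e <;> rw [e]
      · exact one_mem _
      · exact mem_zpowers _
      · exact pow_mem (mem_zpowers _) _
      · exact pow_mem (mem_zpowers _) _)
    rcases j with _ | _ | _ | _ | j
    · rw [pow_zero, conj_eq_one_iff] at hj'
      exact absurd hj' (fun e => qr_sq_ne (by rw [e, one_pow]))
    · exact absurd (by rw [hj', pow_one]) hne1
    · have : (π' t * qr * (π' t)⁻¹) ^ 2 = (qr ^ 2) ^ 2 := by rw [hj']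
      rw [conj_pow, ← pow_mul, qr_four, conj_eq_one_iff] at this
      exact absurd this qr_sq_ne
    · rw [hj', eq_inv_iff_mul_eq_one, ← pow_succ, qr_four]
    · omega
  set c := ⁅t, r⁆ with hc
  have hcz : c = (r ^ 2)⁻¹ ∨ c = (r ^ 2)⁻¹ * z := by
    have h1 : π' (r ^ 2 * c) = 1 := by
      rw [map_mul, map_pow, hc, map_commutatorElement, hrπ, commutatorElement_def, hnorm, pow_two]
      group
    rcases hker _ h1 with h | h
    · exact Or.inl (eq_inv_of_mul_eq_one_right h)
    · exact Or.inr (by rw [← h]; group)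
  have hr2 : (r ^ 2)⁻¹ = r ^ 2 := inv_eq_of_mul_eq_one_right (by rw [← pow_add]; exact hr4)
  rw [hr2] at hcz
  have hc2 : c * c = 1 := by
    rcases hcz with e | e <;> rw [e]
    · rw [← pow_add]; exact hr4
    · calc r ^ 2 * z * (r ^ 2 * z) = r ^ 2 * (z * r ^ 2) * z := by group
        _ = r ^ 2 * r ^ 2 * (z * z) := by rw [← hzc (r ^ 2)]; group
        _ = 1 := by rw [hz2, mul_one, ← pow_add]; exact hr4
  have hzc' : z ∉ zpowers c := by
    intro h
    obtain ⟨m, hm⟩ := Submonoid.mem_powers_iff _ _ |>.1 (mem_powers_iff_mem_zpowers.2 h)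
    have hπc : π' c ≠ 1 := by
      rcases hcz with e | e <;> rw [e]
      · rw [map_pow, hrπ]; exact qr_sq_ne
      · rw [map_mul, map_pow, hrπ, show π' z = 1 from hz, mul_one]; exact qr_sq_ne
    rw [pow_eq_pow_mod m (show c ^ 2 = 1 by rw [pow_two, hc2])] at hm
    have := Nat.mod_lt m (show 0 < 2 by norm_num)
    interval_cases h' : m % 2
    · rw [pow_zero] at hm; exact hz1 hm.symm
    · rw [pow_one] at hm; exact hπc (hm ▸ hz)
  have hcr : Commute c r := by
    rcases hcz with e | e <;> rw [e]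
    · exact Commute.pow_self r 2
    · exact (Commute.pow_self r 2).mul_left (hzc r).symm
  have hct : Commute c t := by
    have e2 : t * r * t⁻¹ = c * r := by rw [hc, commutatorElement_def]; group
    have e3 : t * r ^ 2 * t⁻¹ = r ^ 2 := by
      rw [← conj_pow, e2, hcr.mul_pow, pow_two c, hc2, one_mul]
    have e4 : Commute t (r ^ 2) := mul_inv_eq_iff_eq_mul.1 e3
    rcases hcz with e | e <;> rw [e]
    · exact e4.symm
    · exact e4.symm.mul_left (hzc t).symm
  -- the Sylow subgroup is generated by `t`, `r` and `z`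
  have hgen : T ≤ closure {t, r, z} := by
    have hT' : closure {t, r, z} ≤ T := (closure_le _).2 (by
      simp only [Set.insert_subset_iff, Set.singleton_subset_iff]; exact ⟨htT, hrT, hzT⟩)
    refine (eq_of_le_of_card_ge hT' ?_).ge
    set U := closure ({t, r, z} : Set (X ⧸ P1)) with hU
    have hUk : π'.ker ≤ U := fun x hx => by
      rcases hzall x hx with rfl | rfl
      · exact one_mem _
      · exact subset_closure (by simp)
    have hU8 : 8 ≤ Nat.card (U.map π') := by
      have hlt : zpowers qr < U.map π' := by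
        refine lt_of_le_of_ne (zpowers_le.2 ⟨r, subset_closure (by simp), hrπ⟩) fun e => ht ?_
        rw [e]; exact ⟨t, subset_closure (by simp), rfl⟩
      obtain ⟨j, hj⟩ := card_dvd_of_le hlt.le
      have hne : Nat.card (zpowers qr) ≠ Nat.card (U.map π') := fun e =>
        hlt.ne (eq_of_le_of_card_ge hlt.le e.ge)
      rw [Nat.card_zpowers, orderOf_eq_prime_pow (p := 2) (n := 1) qr_sq_ne qr_four] at hj hne
      rcases j with _ | _ | j
      · have := Nat.card_pos (α := U.map π'); omega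
      · omega
      · omega
    have h := Subgroup.relIndex_ker U π'
    have h' := (π'.ker.subgroupOf U).card_mul_index
    rw [Nat.card_congr (subgroupOfEquivOfLe hUk).toEquiv, hker2] at h'
    rw [← h, Subgroup.relIndex] at hU8
    omega
  have hder : commutator T ≤ (zpowers c).subgroupOf T := by
    have hcC : ∀ g ∈ T, g * c = c * g := fun g hg => by
      have : closure ({t, r, z} : Set (X ⧸ P1)) ≤ centralizer {c} := (closure_le _).2 (by
        simp only [Set.insert_subset_iff, Set.singleton_subset_iff, SetLike.mem_coe,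
          mem_centralizer_singleton_iff]
        exact ⟨hct.eq.symm, hcr.eq.symm, hzc c ▸ rfl⟩)
      exact mem_centralizer_singleton_iff.1 (this (hgen hg))
    -- the elements commuting with `T` modulo `c`
    haveI : ((zpowers c).subgroupOf T).Normal := ⟨fun n hn g => by
      rw [mem_subgroupOf] at hn ⊢
      obtain ⟨j, hj⟩ := mem_zpowers_iff.1 hn
      simp only [coe_mul, coe_inv]
      rw [← hj, (show Commute (g : X ⧸ P1) (c ^ j) from
        Commute.zpow_right (hcC g g.2) j).eq, mul_inv_cancel_right]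
      exact zpow_mem (mem_zpowers c) j⟩
    let φ := QuotientGroup.mk' ((zpowers c).subgroupOf T)
    have htr : φ ⟨t, htT⟩ * φ ⟨r, hrT⟩ = φ ⟨r, hrT⟩ * φ ⟨t, htT⟩ := by
      rw [← commutatorElement_eq_one_iff_mul_comm, ← map_commutatorElement]
      exact (QuotientGroup.eq_one_iff _).2 (mem_zpowers c)
    have hzz : ∀ g : T, φ g * φ ⟨z, hzT⟩ = φ ⟨z, hzT⟩ * φ g := fun g => by
      rw [← map_mul, ← map_mul]; congr 1; exact Subtype.ext (hzc g)
    have hcl : closure {(⟨t, htT⟩ : T), ⟨r, hrT⟩, ⟨z, hzT⟩} = ⊤ := by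
      rw [eq_top_iff]
      intro g _
      have hg := hgen g.2
      have hmap : (closure {(⟨t, htT⟩ : T), ⟨r, hrT⟩, ⟨z, hzT⟩}).map T.subtype = closure {t, r, z} := by
        rw [MonoidHom.map_closure]; simp [Set.image_insert_eq]
      rw [← hmap] at hg
      obtain ⟨g', hg', e⟩ := hg
      exact (Subtype.ext e : g' = g) ▸ hg'
    rw [_root_.commutator_def, commutator_le]
    intro a _ b _
    refine (QuotientGroup.eq_one_iff _).1 ?_
    show φ ⁅a, b⁆ = 1
    rw [map_commutatorElement, commutatorElement_eq_one_iff_mul_comm]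
    have hab : ∀ g ∈ ({(⟨t, htT⟩ : T), ⟨r, hrT⟩, ⟨z, hzT⟩} : Set T),
        ∀ g' ∈ ({(⟨t, htT⟩ : T), ⟨r, hrT⟩, ⟨z, hzT⟩} : Set T), φ g * φ g' = φ g' * φ g := by
      rintro g (rfl | rfl | rfl) g' (rfl | rfl | rfl)
      all_goals first
        | rfl
        | exact htr
        | exact htr.symm
        | exact hzz _
        | exact (hzz _).symm
    have h1 : ∀ g ∈ ({(⟨t, htT⟩ : T), ⟨r, hrT⟩, ⟨z, hzT⟩} : Set T), ∀ h : T, φ g * φ h = φ h * φ g := by
      intro g hg h
      have : closure {(⟨t, htT⟩ : T), ⟨r, hrT⟩, ⟨z, hzT⟩} ≤ (centralizer {φ g}).comap φ :=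
        (closure_le _).2 fun g' hg' => mem_centralizer_singleton_iff.2 (hab g' hg' g hg)
      exact (mem_centralizer_singleton_iff.1 (this (hcl ▸ mem_top h))).symm
    have h2' : closure {(⟨t, htT⟩ : T), ⟨r, hrT⟩, ⟨z, hzT⟩} ≤ (centralizer {φ b}).comap φ :=
      (closure_le _).2 fun g hg => mem_centralizer_singleton_iff.2 (h1 g hg b)
    exact mem_centralizer_singleton_iff.1 (h2' (hcl ▸ mem_top a))
  -- transfer
  have hidx : T.index = 21 := by
    have h := T.card_mul_index
    rw [hcardT, hcardX] at h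
    omega
  haveI : T.FiniteIndex := ⟨by rw [hidx]; norm_num⟩
  let τ : X ⧸ P1 →* Abelianization T := MonoidHom.transfer (Abelianization.of : T →* Abelianization T)
  have hτ : τ z = 1 := by
    have : commutator (X ⧸ P1) ≤ τ.ker := Abelianization.commutator_subset_ker τ
    exact this hzX
  have hz21 : z ^ 21 = z := by rw [pow_succ, pow_mul z 2 10, pow_two, hz2, one_pow, one_mul]
  rw [MonoidHom.transfer_eq_pow _ z fun m g₀ _ => by
    rw [(show Commute g₀⁻¹ (z ^ m) from Commute.pow_right (hzc g₀⁻¹) m).eq,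
      inv_mul_cancel_right]] at hτ
  have hmem := hder ((QuotientGroup.eq_one_iff _).1 hτ)
  rw [mem_subgroupOf] at hmem
  change z ^ T.index ∈ zpowers c at hmem
  rw [hidx, hz21] at hmem
  exact hzc' hmem

end Cfsg.Agent.GroupStructure3.RankFourL32
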