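import Cfsg.Agent.GroupStructure3.RankFourL32.Linear

/-!
# An element of order seven on small elementary groups
-/

set_option autoImplicit false
set_option linter.all false

namespace Cfsg.Agent.GroupStructure3.RankFourL32

open Subgroup
open scoped commutatorElement

variable {G : Type*} [Group G] [Finite G]

/-- An element of order 7 acting without fixed points on an elementary subgroup of order 8. -/
structure Fpf (y : G) (W : Subgroup G) : Prop where
  y7 : y ^ 7 = 1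
  inv : ∀ w ∈ W, y * w * y⁻¹ ∈ W
  comm : ∀ a ∈ W, ∀ b ∈ W, a * b = b * a
  sq : ∀ a ∈ W, a * a = 1
  card : Nat.card W = 8
  free : ∀ w ∈ W, y * w = w * y → w = 1

theorem Act.toFpf {π : G →* Q} {W : Subgroup G} (hA : Act π W) {y : G} (hy : π y = qy) (hy7 : y ^ 7 = 1) :
    Fpf y W :=
  ⟨hy7, fun _ hw => hA.conj_mem hw y, hA.comm, hA.sq, hA.card, fun _ hw h => hA.fpf hy hw h⟩

variable {y : G} {W : Subgroup G}

theorem Fpf.conj_pow_mem (hF : Fpf y W) (n : ℕ) {w : G} (hw : w ∈ W) : y ^ n * w * (y ^ n)⁻¹ ∈ W := by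
  induction n with
  | zero => simpa using hw
  | succ n ih =>
    have e : y ^ (n + 1) * w * (y ^ (n + 1))⁻¹ = y * (y ^ n * w * (y ^ n)⁻¹) * y⁻¹ := by rw [pow_succ']; group
    rw [e]; exact hF.inv _ ih

theorem Fpf.free_pow (hF : Fpf y W) {d : ℕ} (hd : ¬ 7 ∣ d) {w : G} (hw : w ∈ W)
    (h : Commute (y ^ d) w) : w = 1 := by
  by_cases hy1 : y = 1
  · exact hF.free w hw (by rw [hy1, one_mul, mul_one])
  have hy0 : orderOf y = 7 := by
    haveI : Fact (Nat.Prime 7) := ⟨by norm_num⟩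
    exact orderOf_eq_prime hF.y7 hy1
  obtain ⟨m, hm⟩ := exists_pow_eq_self_of_coprime (x := y) (n := d) (by
    rw [hy0]; exact Nat.Coprime.symm ((by norm_num : Nat.Prime 7).coprime_iff_not_dvd.2 hd))
  exact hF.free w hw (hm ▸ h.pow_left m).eq

theorem Fpf.pow_inj (hF : Fpf y W) {w : G} (hw : w ∈ W) (hw1 : w ≠ 1) {a b : ℕ} (ha : a < 7) (hb : b < 7)
    (h : y ^ a * w * (y ^ a)⁻¹ = y ^ b * w * (y ^ b)⁻¹) : a = b := by
  wlog hab : a ≤ b generalizing a b
  · exact (this hb ha h.symm (le_of_not_ge hab)).symm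
  obtain ⟨d, rfl⟩ := Nat.exists_eq_add_of_le hab
  rcases Nat.eq_zero_or_pos d with hd | hd
  · omega
  exfalso
  refine hw1 (hF.free_pow (d := d) (fun hd' => by have := Nat.le_of_dvd hd hd'; omega) hw ?_)
  refine mul_inv_eq_iff_eq_mul.1 ?_
  calc y ^ d * w * (y ^ d)⁻¹ = (y ^ a)⁻¹ * (y ^ (a + d) * w * (y ^ (a + d))⁻¹) * y ^ a := by
        rw [pow_add]; group
    _ = (y ^ a)⁻¹ * (y ^ a * w * (y ^ a)⁻¹) * y ^ a := by rw [h]
    _ = w := by group

theorem Fpf.orbit (hF : Fpf y W) {u v : G} (hu : u ∈ W) (hu1 : u ≠ 1) (hv : v ∈ W) (hv1 : v ≠ 1) :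
    ∃ n : ℕ, n < 7 ∧ y ^ n * u * (y ^ n)⁻¹ = v := by
  let f : Fin 7 → G := fun i => y ^ (i : ℕ) * u * (y ^ (i : ℕ))⁻¹
  have hinj : Function.Injective f := fun i j h => Fin.ext (hF.pow_inj hu hu1 i.2 j.2 h)
  have heq : Set.range f = (W : Set G) \ {1} := by
    refine Set.eq_of_subset_of_ncard_le ?_ ?_ (Set.toFinite _)
    · rintro _ ⟨i, rfl⟩
      exact ⟨hF.conj_pow_mem _ hu, fun h => hu1 (conj_eq_one_iff.1 h)⟩
    · rw [Set.ncard_range_of_injective hinj, Nat.card_fin, Set.ncard_diff_singleton_of_mem (one_mem W),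
        ← Nat.card_coe_set_eq, SetLike.coe_sort_coe, hF.card]
  obtain ⟨i, hi⟩ : v ∈ Set.range f := heq ▸ ⟨hv, hv1⟩
  exact ⟨i, i.2, hi⟩

/-- Every line through `a` is a translate of the line `{a, b, a * b}`. -/
theorem Fpf.lines (hF : Fpf y W) {a b x : G} (ha : a ∈ W) (ha1 : a ≠ 1) (hb : b ∈ W) (hb1 : b ≠ 1)
    (hab : a ≠ b) (hx : x ∈ W) (hx1 : x ≠ 1) (hxa : x ≠ a) :
    ∃ (n : ℕ) (u v : G), u ∈ ({a, b, a * b} : Set G) ∧ v ∈ ({a, b, a * b} : Set G) ∧
      y ^ n * u * (y ^ n)⁻¹ = a ∧ y ^ n * v * (y ^ n)⁻¹ = x := by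
  classical
  set L : Set G := {a, b, a * b} with hL
  have hab1 : a * b ≠ 1 := fun e => hab (by
    rw [mul_eq_one_iff_eq_inv.1 e, inv_eq_of_mul_eq_one_right (hF.sq b hb)])
  have haab : a ≠ a * b := fun e => hb1 (left_eq_mul.1 e)
  have hbab : b ≠ a * b := fun e => ha1 (right_eq_mul.1 e)
  have hLW : ∀ u ∈ L, u ∈ W ∧ u ≠ 1 := by
    rintro u (rfl | rfl | rfl)
    · exact ⟨ha, ha1⟩
    · exact ⟨hb, hb1⟩
    · exact ⟨mul_mem ha hb, hab1⟩
  have hL3 : L.ncard = 3 := Set.ncard_eq_three.2 ⟨a, b, a * b, hab, haab, hbab, rfl⟩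
  -- in a translate through `a` the two other points differ by `a`
  have hsum : ∀ (n : ℕ) (u v : G), u ∈ L → v ∈ L → v ≠ u → y ^ n * u * (y ^ n)⁻¹ = a →
      ∃ v' ∈ L, y ^ n * v' * (y ^ n)⁻¹ = a * (y ^ n * v * (y ^ n)⁻¹) := by
    intro n u v hu hv hne hua
    refine ⟨u * v, ?_, by rw [← conj_mul, hua]⟩
    have hcab := hF.comm a ha b hb
    have hbb := hF.sq b hb
    have haa := hF.sq a ha
    have m1 : a * b ∈ L := Or.inr (Or.inr rfl)
    have m2 : b * a ∈ L := hcab ▸ m1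
    have m3 : a * (a * b) ∈ L := by rw [← mul_assoc, haa, one_mul]; exact Or.inr (Or.inl rfl)
    have m4 : b * (a * b) ∈ L := by rw [hcab, ← mul_assoc, hbb, one_mul]; exact Or.inl rfl
    have m5 : a * b * a ∈ L := by rw [hcab, mul_assoc, haa, mul_one]; exact Or.inr (Or.inl rfl)
    have m6 : a * b * b ∈ L := by rw [mul_assoc, hbb, mul_one]; exact Or.inl rfl
    rcases hu with rfl | rfl | rfl <;> rcases hv with rfl | rfl | rfl <;>
      first | exact absurd rfl hne | assumption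
  -- the indices carrying a point of the line to `a`
  choose n hn7 hn using fun u : L => hF.orbit (hLW u u.2).1 (hLW u u.2).2 ha ha1
  have hinj : Function.Injective n := fun u v h => Subtype.ext (by
    have := (hn u).trans (hn v).symm
    rw [h] at this
    exact mul_left_cancel (mul_right_cancel this))
  -- distinct indices give lines meeting only in `a`
  have key : ∀ (u u' : L) (v v' : G), v ∈ L → v' ∈ L → v ≠ u → v' ≠ u' →
      y ^ n u * v * (y ^ n u)⁻¹ = y ^ n u' * v' * (y ^ n u')⁻¹ → u = u' := by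
    intro u u' v v' hv hv' hvu hvu' he
    by_contra hne
    obtain ⟨p, hp, hpe⟩ := hsum (n u) u v u.2 hv hvu (hn u)
    obtain ⟨p', hp', hpe'⟩ := hsum (n u') u' v' u'.2 hv' hvu' (hn u')
    -- the two translates are the same set
    set m := (y ^ n u')⁻¹ * y ^ n u with hm
    have hset : ∀ w ∈ L, m * w * m⁻¹ ∈ L := by
      intro w hw
      have h3 : w = (u : G) ∨ w = v ∨ w = p := by
        have hne1 : v ≠ (u : G) := hvu
        have hpne : p ≠ (u : G) ∧ p ≠ v := by
          constructor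
          · intro e
            rw [e, hn u] at hpe
            exact (hLW v hv).2 (conj_eq_one_iff.1 (left_eq_mul.1 hpe))
          · intro e
            rw [e] at hpe
            exact ha1 (right_eq_mul.1 hpe)
        have hsub : ({(u : G), v, p} : Set G) ⊆ L := by
          simp only [Set.insert_subset_iff, Set.singleton_subset_iff]
          exact ⟨u.2, hv, hp⟩
        have := Set.eq_of_subset_of_ncard_le hsub (by
          rw [hL3, Set.ncard_eq_three.2 ⟨(u : G), v, p, Ne.symm hne1, hpne.1.symm, hpne.2.symm, rfl⟩])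
          (Set.toFinite _)
        rw [← this] at hw
        simpa using hw
      have conv : ∀ w' z : G, y ^ n u * w * (y ^ n u)⁻¹ = z → y ^ n u' * w' * (y ^ n u')⁻¹ = z →
          m * w * m⁻¹ = w' := fun w' z h1 h2 => by
        calc m * w * m⁻¹ = (y ^ n u')⁻¹ * (y ^ n u * w * (y ^ n u)⁻¹) * y ^ n u' := by rw [hm]; group
          _ = (y ^ n u')⁻¹ * (y ^ n u' * w' * (y ^ n u')⁻¹) * y ^ n u' := by rw [h1, h2]
          _ = w' := by group
      rcases h3 with rfl | rfl | rfl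
      · rw [conv u' a (hn u) (hn u')]; exact u'.2
      · rw [conv v' _ he rfl]; exact hv'
      · rw [conv p' _ hpe (by rw [hpe', he])]; exact hp'
    -- a power of `y` stabilising three points fixes them
    obtain ⟨d, hd7, hd⟩ : ∃ d : ℕ, d < 7 ∧ y ^ d = m := by
      refine ⟨((7 - n u') + n u) % 7, Nat.mod_lt _ (by norm_num), ?_⟩
      rw [← pow_eq_pow_mod _ hF.y7, pow_add, hm, inv_eq_of_mul_eq_one_right (a := y ^ n u')]
      rw [← pow_add, show n u' + (7 - n u') = 7 by have := hn7 u'; omega, hF.y7]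
    have hd0 : d ≠ 0 := fun e => hne (hinj (by
      rw [e, pow_zero, hm, eq_comm, inv_mul_eq_one] at hd
      by_cases hy1 : y = 1
      · exact absurd (hF.free a ha (by rw [hy1, one_mul, mul_one])) ha1
      haveI : Fact (Nat.Prime 7) := ⟨by norm_num⟩
      have ho : orderOf y = 7 := orderOf_eq_prime hF.y7 hy1
      exact (pow_injOn_Iio_orderOf (by simp [ho, hn7 u']) (by simp [ho, hn7 u]) hd).symm))
    rw [← hd] at hset
    let σ : L → L := fun w => ⟨y ^ d * w * (y ^ d)⁻¹, hset w w.2⟩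
    have hσ : Function.Bijective σ := Finite.injective_iff_bijective.1 fun p q h => by
      have : y ^ d * (p : G) * (y ^ d)⁻¹ = y ^ d * q * (y ^ d)⁻¹ := congrArg Subtype.val h
      exact Subtype.ext (mul_left_cancel (mul_right_cancel this))
    let e := Equiv.ofBijective σ hσ
    have hpow : ∀ (k : ℕ) (w : L), ((e ^ k) w : G) = y ^ (d * k) * w * (y ^ (d * k))⁻¹ := by
      intro k
      induction k with
      | zero => intro w; simp
      | succ k ih =>
        intro w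
        rw [pow_succ', Equiv.Perm.mul_apply]
        show y ^ d * ((e ^ k) w : G) * (y ^ d)⁻¹ = _
        rw [ih, show d * (k + 1) = d + d * k by ring, pow_add]
        group
    have h6 : e ^ 6 = 1 := by
      haveI := Fintype.ofFinite L
      have : Fintype.card (Equiv.Perm L) = 6 := by
        rw [Fintype.card_perm, ← Nat.card_eq_fintype_card, Nat.card_coe_set_eq, hL3]; rfl
      rw [← this]; exact pow_card_eq_one
    have := hpow 6 u
    rw [h6] at this
    refine (hLW u u.2).2 (hF.free_pow (d := d * 6) (fun h => ?_) (hLW u u.2).1 ?_)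
    · rcases (by norm_num : Nat.Prime 7).dvd_mul.1 h with h' | h'
      · have := Nat.le_of_dvd (Nat.pos_of_ne_zero hd0) h'; omega
      · norm_num at h'
    · exact mul_inv_eq_iff_eq_mul.1 this.symm
  -- count the points
  let P : Set G := ⋃ u : L, (fun v => y ^ n u * v * (y ^ n u)⁻¹) '' (L \ {(u : G)})
  have hP : P = (W : Set G) \ {1, a} := by
    refine Set.eq_of_subset_of_ncard_le ?_ ?_ (Set.toFinite _)
    · intro z hz
      simp only [P, Set.mem_iUnion] at hz
      obtain ⟨u, v, ⟨hv, hvu⟩, rfl⟩ := hz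
      refine ⟨hF.conj_pow_mem _ (hLW v hv).1, ?_⟩
      rintro (h | h)
      · exact (hLW v hv).2 (conj_eq_one_iff.1 h)
      · exact hvu (mul_left_cancel (mul_right_cancel ((h : _ = a).trans (hn u).symm)))
    · have hW6 : ((W : Set G) \ {1, a}).ncard = 6 := by
        rw [Set.ncard_diff (by simp [Set.insert_subset_iff, one_mem, ha]) (Set.toFinite _),
          Set.ncard_pair (Ne.symm ha1), ← Nat.card_coe_set_eq, SetLike.coe_sort_coe, hF.card]
      rw [hW6, ← Nat.card_coe_set_eq]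
      let g : (Σ u : L, (L \ {(u : G)} : Set G)) → P := fun p =>
        ⟨y ^ n p.1 * p.2 * (y ^ n p.1)⁻¹, Set.mem_iUnion.2 ⟨p.1, p.2, p.2.2, rfl⟩⟩
      have hg : Function.Injective g := by
        rintro ⟨u, v⟩ ⟨u', v'⟩ h
        have h' : y ^ n u * (v : G) * (y ^ n u)⁻¹ = y ^ n u' * v' * (y ^ n u')⁻¹ := congrArg Subtype.val h
        obtain rfl := key u u' v v' v.2.1 v'.2.1 v.2.2 v'.2.2 h'
        rw [Subtype.ext (mul_left_cancel (mul_right_cancel h'))]
      refine le_trans ?_ (Nat.card_le_card_of_injective g hg)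
      haveI := Fintype.ofFinite L
      rw [Nat.card_sigma]
      have : ∀ u : L, Nat.card (L \ {(u : G)} : Set G) = 2 := fun u => by
        rw [Nat.card_coe_set_eq, Set.ncard_diff_singleton_of_mem u.2, hL3]
      simp only [this, Finset.sum_const, Finset.card_univ, smul_eq_mul]
      rw [← Nat.card_eq_fintype_card, Nat.card_coe_set_eq, hL3]
  have hxP : x ∈ P := hP ▸ ⟨hx, by simp [hx1, hxa]⟩
  simp only [P, Set.mem_iUnion] at hxP
  obtain ⟨u, v, ⟨hv, -⟩, hvx⟩ := hxP
  exact ⟨n u, u, v, u.2, hv, hn u, hvx⟩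

/-- An invariant alternating pairing vanishes. -/
theorem Fpf.pairing_trivial (hF : Fpf y W) {H : Type*} [Group H] (β : G → G → H)
    (h0 : ∀ a ∈ W, β a a = 1) (hr : ∀ a ∈ W, ∀ b ∈ W, ∀ c ∈ W, β a (b * c) = β a b * β a c)
    (hl : ∀ a ∈ W, ∀ b ∈ W, ∀ c ∈ W, β (a * b) c = β a c * β b c)
    (hy : ∀ a ∈ W, ∀ b ∈ W, β (y * a * y⁻¹) (y * b * y⁻¹) = β a b) :
    ∀ a ∈ W, ∀ b ∈ W, β a b = 1 := by
  have h1 : ∀ a ∈ W, β a 1 = 1 := fun a ha => by
    have := hr a ha 1 (one_mem W) 1 (one_mem W)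
    rw [one_mul] at this
    exact left_eq_mul.1 this
  have h1' : ∀ a ∈ W, β 1 a = 1 := fun a ha => by
    have := hl 1 (one_mem W) 1 (one_mem W) a ha
    rw [one_mul] at this
    exact left_eq_mul.1 this
  have hsq : ∀ a ∈ W, ∀ b ∈ W, β a b * β a b = 1 := fun a ha b hb => by
    rw [← hr a ha b hb b hb, hF.sq b hb, h1 a ha]
  have hpow : ∀ (n : ℕ), ∀ a ∈ W, ∀ b ∈ W,
      β (y ^ n * a * (y ^ n)⁻¹) (y ^ n * b * (y ^ n)⁻¹) = β a b := by
    intro n
    induction n with
    | zero => intro a _ b _; simp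
    | succ n ih =>
      intro a ha b hb
      have e : ∀ w, y ^ (n + 1) * w * (y ^ (n + 1))⁻¹ = y * (y ^ n * w * (y ^ n)⁻¹) * y⁻¹ := fun w => by
        rw [pow_succ']; group
      rw [e, e, hy _ (hF.conj_pow_mem n ha) _ (hF.conj_pow_mem n hb), ih a ha b hb]
  intro a ha b hb
  by_cases ha1 : a = 1
  · rw [ha1, h1' b hb]
  by_cases hb1 : b = 1
  · rw [hb1, h1 a ha]
  by_cases hab : a = b
  · rw [← hab, h0 a ha]
  have hsymm : ∀ u ∈ W, ∀ v ∈ W, β u v = β v u := fun u hu v hv => by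
    have h := h0 _ (mul_mem hu hv)
    rw [hl u hu v hv _ (mul_mem hu hv), hr u hu u hu v hv, hr v hv u hu v hv, h0 u hu, h0 v hv, one_mul,
      mul_one] at h
    calc β u v = β u v * (β v u * β v u) := by rw [hsq v hv u hu, mul_one]
      _ = β v u := by rw [← mul_assoc, h, one_mul]
  have hline : ∀ u ∈ ({a, b, a * b} : Set G), ∀ v ∈ ({a, b, a * b} : Set G), u ≠ v → β u v = β a b := by
    have e1 : β a (a * b) = β a b := by rw [hr a ha a ha b hb, h0 a ha, one_mul]
    have e2 : β b (a * b) = β a b := by rw [hr b hb a ha b hb, h0 b hb, mul_one, hsymm b hb a ha]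
    rintro u (rfl | rfl | rfl) v (rfl | rfl | rfl) hne
    all_goals first
      | exact absurd rfl hne
      | rfl
      | exact hsymm _ hb _ ha
      | exact e1
      | exact e2
      | exact (hsymm _ (mul_mem ha hb) _ ha).trans e1
      | exact (hsymm _ (mul_mem ha hb) _ hb).trans e2
  have hconst : ∀ x ∈ W, x ≠ 1 → x ≠ a → β a x = β a b := by
    intro x hx hx1 hxa
    obtain ⟨n, u, v, hu, hv, hua, hvx⟩ := hF.lines ha ha1 hb hb1 hab hx hx1 hxa
    have hLW : ∀ w ∈ ({a, b, a * b} : Set G), w ∈ W := by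
      rintro w (rfl | rfl | rfl)
      exacts [ha, hb, mul_mem ha hb]
    rw [← hua, ← hvx, hpow n u (hLW u hu) v (hLW v hv)]
    refine (hline u hu v hv ?_).trans (by rw [hua])
    rintro rfl
    exact hxa (hvx.symm.trans hua)
  obtain ⟨c, hc, hcn⟩ : ∃ c ∈ W, c ∉ ({1, a, b, a * b} : Set G) := by
    by_contra hcon
    push Not at hcon
    have := Set.ncard_le_ncard (show (W : Set G) ⊆ {1, a, b, a * b} from hcon) (Set.toFinite _)
    rw [← Nat.card_coe_set_eq, SetLike.coe_sort_coe, hF.card] at this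
    have h4 : ({1, a, b, a * b} : Set G).ncard ≤ 4 := by
      refine le_trans (Set.ncard_insert_le _ _) ?_
      have := Set.ncard_insert_le a ({b, a * b} : Set G)
      have := Set.ncard_insert_le b ({a * b} : Set G)
      rw [Set.ncard_singleton] at this
      omega
    omega
  simp only [Set.mem_insert_iff, Set.mem_singleton_iff, not_or] at hcn
  have hbc1 : b * c ≠ 1 := fun e => hcn.2.2.1 (by
    rw [← inv_eq_of_mul_eq_one_right e, inv_eq_of_mul_eq_one_right (hF.sq b hb)])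
  have hbca : b * c ≠ a := fun e => hcn.2.2.2 (by
    rw [hF.comm a ha b hb, ← e, ← mul_assoc, hF.sq b hb, one_mul])
  have h := hr a ha b hb c hc
  rw [hconst _ (mul_mem hb hc) hbc1 hbca, hconst c hc hcn.1 hcn.2.1] at h
  exact left_eq_mul.1 h

/-- The commutators with an element of order 7 split off the fixed points. -/
theorem seven_split {V : Subgroup G} (hy7 : y ^ 7 = 1) (hinv : ∀ v ∈ V, y * v * y⁻¹ ∈ V)
    (hc : ∀ a ∈ V, ∀ b ∈ V, a * b = b * a) (hsq : ∀ a ∈ V, a * a = 1) (h16 : Nat.card V ∣ 16)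
    (hmv : ∃ v ∈ V, y * v ≠ v * y) :
    ∃ W : Subgroup G, W ≤ V ∧ Fpf y W ∧ (∀ w ∈ W, ∃ v ∈ V, ⁅y, v⁆ = w) ∧ (∀ v ∈ V, ⁅y, v⁆ ∈ W) ∧
      Nat.card V = 8 * Nat.card ↥(V ⊓ centralizer {y}) ∧ Nat.card ↥(V ⊓ centralizer {y}) ∣ 2 := by
  haveI : Fact (Nat.Prime 7) := ⟨by norm_num⟩
  have hbr : ∀ v ∈ V, ⁅y, v⁆ ∈ V := fun v hv => mul_mem (hinv v hv) (inv_mem hv)
  let φ : V →* V :=
    { toFun := fun v => ⟨⁅y, (v : G)⁆, hbr v v.2⟩
      map_one' := Subtype.ext (by simp [commutatorElement_def])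
      map_mul' := fun a b => Subtype.ext (by
        show ⁅y, (a : G) * b⁆ = ⁅y, (a : G)⁆ * ⁅y, (b : G)⁆
        calc ⁅y, (a : G) * b⁆ = ⁅y, (a : G)⁆ * ((a : G) * ⁅y, (b : G)⁆ * (a : G)⁻¹) := by
              simp only [commutatorElement_def]; group
          _ = _ := by rw [hc a a.2 _ (hbr b b.2), mul_inv_cancel_right]) }
  set C := V ⊓ centralizer {y} with hC
  have hker : φ.ker = C.subgroupOf V := by
    ext v
    rw [MonoidHom.mem_ker, mem_subgroupOf, hC, mem_inf, mem_centralizer_singleton_iff, Subtype.ext_iff]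
    show ⁅y, (v : G)⁆ = 1 ↔ _
    rw [commutatorElement_eq_one_iff_mul_comm]
    exact ⟨fun h => ⟨v.2, h.symm⟩, fun h => h.2.symm⟩
  set W := φ.range.map V.subtype with hW
  have hmul : Nat.card C * Nat.card W = Nat.card V := by
    have h := φ.ker.card_mul_index
    rw [index_ker, hker, Nat.card_congr (subgroupOfEquivOfLe (inf_le_left : C ≤ V)).toEquiv] at h
    rwa [hW, card_map_of_injective V.subtype_injective]
  have hWV : W ≤ V := map_subtype_le _
  have hfree : ∀ w ∈ W, y * w = w * y → w = 1 := by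
    rintro _ ⟨_, ⟨v, rfl⟩, rfl⟩ hw
    change y * ⁅y, (v : G)⁆ = ⁅y, (v : G)⁆ * y at hw
    show ⁅y, (v : G)⁆ = 1
    set w := ⁅y, (v : G)⁆ with hwd
    have hn : ∀ n : ℕ, y ^ n * v * (y ^ n)⁻¹ = w ^ n * v := by
      intro n
      induction n with
      | zero => simp
      | succ n ih =>
        calc y ^ (n + 1) * (v : G) * (y ^ (n + 1))⁻¹ = y * (y ^ n * v * (y ^ n)⁻¹) * y⁻¹ := by
              rw [pow_succ']; group
          _ = (y * w ^ n * y⁻¹) * (y * v * y⁻¹) := by rw [ih]; group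
          _ = w ^ n * (w * v) := by
            rw [((show Commute y w from hw).pow_right n).eq, mul_inv_cancel_right, hwd,
              commutatorElement_def, inv_mul_cancel_right]
          _ = _ := by rw [pow_succ, mul_assoc]
    have h7 := hn 7
    rw [hy7, one_mul, inv_one, mul_one, right_eq_mul] at h7
    have h2 := hsq w (hbr v v.2)
    calc w = w * (w * w) * (w * w) * (w * w) := by rw [h2]; simp
      _ = w ^ 7 := by simp only [pow_succ, pow_zero, one_mul, mul_assoc]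
      _ = 1 := h7
  have hWinv : ∀ w ∈ W, y * w * y⁻¹ ∈ W := by
    rintro _ ⟨_, ⟨v, rfl⟩, rfl⟩
    refine ⟨_, ⟨⟨y * v * y⁻¹, hinv v v.2⟩, rfl⟩, ?_⟩
    show ⁅y, y * (v : G) * y⁻¹⁆ = y * ⁅y, (v : G)⁆ * y⁻¹
    simp only [commutatorElement_def]; group
  have hW8 : Nat.card W = 8 := by
    have hmod := RankFourA5.card_modEq (q := 7) hy7 W hWinv
    have hone : W ⊓ centralizer {y} = ⊥ := eq_bot_iff.2 fun w hw =>
      mem_bot.2 (hfree w hw.1 (mem_centralizer_singleton_iff.1 hw.2).symm)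
    rw [hone, card_bot] at hmod
    have hd : Nat.card W ∈ Nat.divisors 16 :=
      Nat.mem_divisors.2 ⟨(Dvd.intro_left _ hmul).trans h16, by norm_num⟩
    rw [show Nat.divisors 16 = {1, 2, 4, 8, 16} by decide] at hd
    simp only [Finset.mem_insert, Finset.mem_singleton] at hd
    unfold Nat.ModEq at hmod
    have hne : Nat.card W ≠ 1 := fun h => by
      obtain ⟨v, hv, hvy⟩ := hmv
      have hm : ⁅y, v⁆ ∈ W := ⟨_, ⟨⟨v, hv⟩, rfl⟩, rfl⟩
      rw [card_eq_one.1 h, mem_bot, commutatorElement_eq_one_iff_mul_comm] at hm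
      exact hvy hm
    omega
  refine ⟨W, hWV, ⟨hy7, hWinv, fun a ha b hb => hc a (hWV ha) b (hWV hb), fun a ha => hsq a (hWV ha), hW8,
    hfree⟩, ?_, fun v hv => ⟨_, ⟨⟨v, hv⟩, rfl⟩, rfl⟩, by rw [← hmul, hW8, mul_comm], ?_⟩
  · rintro _ ⟨_, ⟨v, rfl⟩, rfl⟩
    exact ⟨v, v.2, rfl⟩
  · rw [← hmul, hW8] at h16
    exact Nat.dvd_of_mul_dvd_mul_right (by norm_num : 0 < 8) h16

end Cfsg.Agent.GroupStructure3.RankFourL32
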