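import Cfsg.Agent.GroupStructure3.RankFourL32.Twisted

/-!
# No squares of order eight below a layer of order sixteen
-/

set_option autoImplicit false
set_option linter.all false

namespace Cfsg.Agent.GroupStructure3.RankFourL32

open Subgroup
open scoped commutatorElement

universe u

/-- An invariant set meeting one coset of the complement makes it normal. -/
theorem normal_of_invariant {G : Type*} [Group G] {W : Subgroup G} {τ : G} (hτ : ∀ g, g * τ = τ * g)
    {S : Set G} (hS : ∀ g v, v ∈ S → g * v * g⁻¹ ∈ S)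
    (h : (∀ v, v ∈ S ↔ v ∈ W ∧ v ≠ 1) ∨ ∀ v, v ∈ S ↔ ∃ w ∈ W, w ≠ 1 ∧ v = τ * w) : W.Normal := by
  refine ⟨fun w hw g => ?_⟩
  by_cases hw1 : w = 1
  · subst hw1; simp [one_mem]
  rcases h with h | h
  · exact ((h _).1 (hS g w ((h w).2 ⟨hw, hw1⟩))).1
  · obtain ⟨w', hw', -, e⟩ := (h _).1 (hS g (τ * w) ((h _).2 ⟨w, hw, hw1, rfl⟩))
    have e2 : τ * (g * w * g⁻¹) = τ * w' := by
      rw [← e, ← mul_assoc, ← mul_assoc, ← hτ g]; group
    rw [mul_left_cancel e2]; exact hw'

variable {X : Type u} [Group X] [Finite X] {π : X →* Q}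

/-- An element with a fixed point in its coset modulo the transvections. -/
theorem Act.exists_preimage {X' : Subgroup X} (hU : Act π X') {R : X} {k : Bool} {i : Fin 3} (hR : π R = root k i) {v : X}
    (hv : v ∈ cfix X' R) : ∃ u ∈ X', ⁅R ^ 2, u⁆ = v := by
  by_cases hv1 : v = 1
  · exact ⟨1, one_mem _, by rw [hv1]; simp [commutatorElement_def]⟩
  by_contra hcon
  push Not at hcon
  have hall : ∀ u ∈ X', R ^ 2 * u = u * R ^ 2 := by
    intro u hu
    rw [← commutatorElement_eq_one_iff_mul_comm]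
    by_contra hne
    exact hcon u hu (hU.eq_centre hR ((hU.centre hR).2.2.2 u hu) hne hv hv1)
  refine root_sq_ne k i ?_
  rw [← hR, ← map_pow]
  exact hU.map_eq_one hall

theorem no_sixteen (hD : Data π)
    (IH : ∀ {Y : Type u} [Group Y] [Finite Y] (π' : Y →* Q), Nat.card π'.ker < Nat.card π.ker →
      Data π' → Shape π')
    (hU : Act π (Sq π)) (h16 : Nat.card (π.ker.map (QuotientGroup.mk' (Sq π))) = 16) : False := by
  classical
  haveI : Fact (Nat.Prime 7) := ⟨by norm_num⟩
  set U := Sq π with hUd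
  let q := QuotientGroup.mk' U
  set πq := quot π U Sq_le with hπq
  set V := π.ker.map q with hV
  have hqs : Function.Surjective πq := fun g => by obtain ⟨x, hx⟩ := hD.surj g; exact ⟨q x, hx⟩
  haveI hVn : V.Normal := (MonoidHom.normal_ker π).map q (QuotientGroup.mk'_surjective _)
  have hcen : ∀ f ∈ U, ∀ p ∈ π.ker, p * f = f * p := fun f hf p hp => hU.cent p hp f hf
  have hcj : ∀ (x : X) {p : X}, p ∈ π.ker → x * p * x⁻¹ ∈ π.ker := fun x p hp =>
    (MonoidHom.normal_ker π).conj_mem p hp x
  have hkV : ∀ k ∈ πq.ker, ∀ v ∈ V, k * v = v * k := fun k hk v hv => by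
    rw [hπq, ker_quot] at hk; exact layer_comm hk hv
  have h128 : Nat.card π.ker = 128 := by
    rw [card_map_quot U (L := π.ker) Sq_le, h16, hU.card]
  obtain ⟨y, hy, hy7⟩ := exists_seven hD.surj hD.pgroup
  have hFU := hU.toFpf hy hy7
  obtain ⟨W0, hW0V, hFW, -, hW0br, hcardV, -⟩ := layer_split hD hy hy7
  set C0 := V ⊓ centralizer {q y} with hC0
  have hC2 : Nat.card C0 = 2 := Nat.eq_of_mul_eq_mul_left (show 0 < 8 by norm_num) (hcardV.symm.trans h16)
  obtain ⟨τ, hτ, hτ1, hτall⟩ := GenA.SectionalRankFour.exists_gen hC2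
  have hτV : τ ∈ V := hτ.1
  have hτy : q y * τ = τ * q y := (mem_centralizer_singleton_iff.1 hτ.2).symm
  have hτW : τ ∉ W0 := fun h => hτ1 (hFW.free τ h hτy)
  have hidxV : ∀ v ∈ V, v ∈ W0 ∨ τ * v ∈ W0 := by
    have hidx : (W0.subgroupOf V).index = 2 := by
      have h := (W0.subgroupOf V).card_mul_index
      rw [Nat.card_congr (subgroupOfEquivOfLe hW0V).toEquiv, hFW.card, h16] at h
      omega
    intro v hv
    by_cases hvW : v ∈ W0
    · exact Or.inl hvW
    · right
      have h := (Subgroup.mul_mem_iff_of_index_two hidx (a := ⟨τ, hτV⟩) (b := ⟨v, hv⟩)).2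
        (iff_of_false (mem_subgroupOf.not.2 hτW) (mem_subgroupOf.not.2 hvW))
      simpa [mem_subgroupOf] using h
  have hττ : τ * τ = 1 := layer_sq hτV
  -- a fixed lift of the fixed class
  let M : Subgroup X :=
    { carrier := {p | p ∈ π.ker ∧ (q p = 1 ∨ q p = τ)}
      one_mem' := ⟨one_mem _, Or.inl (map_one q)⟩
      mul_mem' := fun {a b} ha hb => ⟨mul_mem ha.1 hb.1, by
        rw [map_mul]
        rcases ha.2 with e | e <;> rcases hb.2 with e' | e' <;> rw [e, e'] <;> simp [hττ]⟩
      inv_mem' := fun {a} ha => ⟨inv_mem ha.1, by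
        rw [map_inv]
        rcases ha.2 with e | e <;> rw [e]
        · exact Or.inl inv_one
        · exact Or.inr (inv_eq_of_mul_eq_one_right hττ)⟩ }
  have hUM : U ≤ M := fun f hf => ⟨Sq_le hf, Or.inl ((QuotientGroup.eq_one_iff f).2 hf)⟩
  have hMk : M ≤ π.ker := fun p hp => hp.1
  have hMq : M.map q = zpowers τ := by
    refine le_antisymm ?_ (zpowers_le.2 ?_)
    · rintro _ ⟨p, hp, rfl⟩
      rcases hp.2 with e | e <;> rw [e]
      · exact one_mem _
      · exact mem_zpowers τ
    · obtain ⟨p, hp, hpτ⟩ := hτV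
      exact ⟨p, ⟨hp, Or.inr hpτ⟩, hpτ⟩
  have hM16 : Nat.card M = 16 := by
    rw [card_map_quot U hUM, hMq, Nat.card_zpowers, orderOf_eq_prime (by rw [pow_two, hττ]) hτ1, hU.card]
  have hMy : ∀ p ∈ M, y * p * y⁻¹ ∈ M := fun p hp => ⟨hcj y hp.1, by
    have e : q (y * p * y⁻¹) = q y * q p * (q y)⁻¹ := by simp
    rcases hp.2 with h | h <;> rw [e, h]
    · simp
    · right; rw [hτy, mul_inv_cancel_right]⟩
  obtain ⟨t, ht, ht1⟩ : ∃ t ∈ M ⊓ centralizer {y}, t ≠ 1 := by
    have hmod := RankFourA5.card_modEq (q := 7) hy7 M hMy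
    rw [hM16] at hmod
    by_contra hcon
    push Not at hcon
    rw [show M ⊓ centralizer {y} = ⊥ from eq_bot_iff.2 fun x hx => mem_bot.2 (hcon x hx), card_bot] at hmod
    unfold Nat.ModEq at hmod
    omega
  have hty : y * t = t * y := (mem_centralizer_singleton_iff.1 ht.2).symm
  have htk : t ∈ π.ker := ht.1.1
  have htU : t ∉ U := fun h => ht1 (hFU.free t h hty)
  have hqt : q t = τ := ht.1.2.resolve_left fun h => htU ((QuotientGroup.eq_one_iff t).1 h)
  have htt : t * t = 1 := hFU.free _ (sq_mem_Sq htk) ((show Commute y t from hty).mul_right hty).eq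
  have hMt : ∀ p ∈ M, p ∈ U ∨ t⁻¹ * p ∈ U := by
    intro p hp
    rcases hp.2 with h | h
    · exact Or.inl ((QuotientGroup.eq_one_iff p).1 h)
    · exact Or.inr (QuotientGroup.eq.1 (hqt.trans h.symm))
  have hMc : ∀ a ∈ M, ∀ b ∈ M, a * b = b * a := by
    have h1 : ∀ a ∈ M, Commute t a := by
      intro a ha
      rcases hMt a ha with h | h
      · exact hcen a h t htk
      · have := (Commute.refl t).mul_right (show Commute t (t⁻¹ * a) from hcen _ h t htk)
        rwa [mul_inv_cancel_left] at this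
    intro a ha b hb
    rcases hMt a ha with h | h
    · exact (hcen a h b hb.1).symm
    · have := (h1 b hb).mul_left (show Commute (t⁻¹ * a) b from (hcen _ h b hb.1).symm)
      rwa [mul_inv_cancel_left] at this
  have hMsq : ∀ a ∈ M, a * a = 1 := by
    intro a ha
    rcases hMt a ha with h | h
    · exact hU.sq a h
    · calc a * a = t * ((t⁻¹ * a) * t) * (t⁻¹ * a) := by group
        _ = (t * t) * ((t⁻¹ * a) * (t⁻¹ * a)) := by rw [← hcen _ h t htk]; group
        _ = 1 := by rw [htt, hU.sq _ h, mul_one]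
  have hvanish : ∀ (_ : ∀ g, g * τ = τ * g) {g x : X}, π g ^ 4 = 1 → π g ≠ 1 → x ∈ M → x ∉ U →
      g * x = x * g → (∀ v ∈ M, ∀ p ∈ π.ker, p * v = v * p) → False := by
    intro hτc g x hg4 hg1 hx hxU hgx hMcen
    haveI : M.Normal := ⟨fun p hp g => ⟨hcj g hp.1, by
      rw [map_mul, map_mul, map_inv]
      rcases hp.2 with h | h <;> rw [h]
      · simp
      · right; rw [hτc (q g), mul_inv_cancel_right]⟩⟩
    obtain ⟨t1, ht1', ht1U, ht1c⟩ := coset_central (π := π) hD.surj (V := M) (W := U) hMc hMsq hM16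
      (fun k hk v hv => hMcen v hv k hk) hy hFU hUM hg4 hg1 hx hxU hgx
    refine no_central_involution hD IH ht1'.1 (fun h => ht1U (h ▸ one_mem U)) (hMsq t1 ht1') ht1c
      (fun z hz hz7 => ?_) (by omega)
    obtain ⟨p, hp, hpn⟩ := hD.moved hz hz7
    refine ⟨p, hp, fun h => hpn ?_⟩
    rcases hMt _ (zpowers_le.2 ht1' h) with h' | h'
    · exact h'
    exfalso
    obtain ⟨W', -, hFW', -, hW'br, -, -⟩ := layer_split hD hz hz7
    have e1 : τ = ⁅q z, q p⁆ := by
      rw [← map_commutatorElement, ← hqt]; exact QuotientGroup.eq.2 h'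
    exact hτ1 (hFW'.free τ (e1 ▸ hW'br _ ⟨p, hp, rfl⟩) (hτc _))
  by_cases hWn : W0.Normal
  · -- the complement is normal
    haveI := hWn
    set P1 := π.ker ⊓ W0.comap q with hP1
    haveI : P1.Normal := by rw [hP1]; infer_instance
    have hle : P1 ≤ π.ker := inf_le_left
    have hUP : U ≤ P1 := fun f hf => mem_inf.2 ⟨Sq_le hf, by
      rw [mem_comap, show q f = 1 from (QuotientGroup.eq_one_iff f).2 hf]; exact one_mem _⟩
    have hP1q : P1.map q = W0 := by
      refine le_antisymm ?_ fun w hw => ?_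
      · rintro _ ⟨p, hp, rfl⟩; exact hp.2
      · obtain ⟨p, hp, rfl⟩ := hW0V hw
        exact ⟨p, ⟨hp, hw⟩, rfl⟩
    have hP64 : Nat.card P1 = 64 := by rw [card_map_quot U hUP, hP1q, hFW.card, hU.card]
    obtain ⟨k, hk, -⟩ : ∃ k, CentreType π U k ∧ AxisType π U (!k) := hU.types
    obtain ⟨R, hR⟩ := hD.surj (root k 0)
    have hout := index_two_cases hD P1 hle (by rw [h128, hP64]) IH (by omega) R k 0 hR
    set A := R ^ 2 with hA
    set x := R ^ 4 with hx
    have hxk : x ∈ π.ker := by rw [hx, MonoidHom.mem_ker, map_pow, hR, root_four]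
    have hR4 : π R ^ 4 = 1 := by rw [hR, root_four]
    have hR1 : π R ≠ 1 := by rw [hR]; exact fun h => root_sq_ne k 0 (by rw [h, one_pow])
    have hxW : q x ∉ W0 := fun h => hout ⟨hxk, h⟩
    obtain ⟨τ', hτ', hτ'W, hτ'c⟩ := coset_central (π := πq) hqs (V := V) (W := W0)
      (fun a ha b hb => layer_comm ha hb) (fun a ha => layer_sq ha) h16 hkV (show πq (q y) = qy from hy) hFW
      hW0V (R := q R) (x := q x) hR4 hR1 ⟨x, hxk, rfl⟩ hxW
      (by rw [← map_mul, ← map_mul, hx, (Commute.self_pow R 4).eq])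
    have hτeq : τ' = τ := (hτall _ ⟨hτ', mem_centralizer_singleton_iff.2 (hτ'c (q y)).symm⟩).resolve_left
      fun e => hτ'W (e ▸ one_mem W0)
    have hτc : ∀ g, g * τ = τ * g := hτeq ▸ hτ'c
    -- the complement
    set m := t⁻¹ * x with hm
    have hxm : x = t * m := (mul_inv_cancel_left _ _).symm
    have hmP : m ∈ P1 := mem_inf.2 ⟨mul_mem (inv_mem htk) hxk, by
      rw [mem_comap, hm, map_mul, map_inv, hqt, inv_eq_of_mul_eq_one_right hττ]
      exact (hidxV _ ⟨x, hxk, rfl⟩).resolve_left hxW⟩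
    have hW : Act πq (P1.map q) := by
      rw [hP1q]
      refine ⟨hqs, by rw [hπq, ker_quot]; exact hD.pgroup.map _, hWn, fun a ha b hb => layer_comm (hW0V ha) (hW0V hb),
        fun a ha => layer_sq (hW0V ha), hFW.card, fun k hk w hw => hkV k hk w (hW0V hw), ?_⟩
      obtain ⟨w, hw, hw1⟩ : ∃ w ∈ W0, w ≠ 1 := by
        by_contra hcon
        push Not at hcon
        have := hFW.card
        rw [show W0 = ⊥ from eq_bot_iff.2 fun z hz => mem_bot.2 (hcon z hz), card_bot] at this
        omega
      exact ⟨q y, w, hw, fun h => hw1 (hFW.free w hw h)⟩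
    have hne : ∃ p ∈ P1, p * p ≠ 1 := by
      by_contra hcon
      push Not at hcon
      have := GenA.SectionalRankFour.card_le_of_squares hD.rank ⊥ P1 bot_le
        (by rw [normalizer_eq_top]; exact le_top) (fun d hd => by rw [mem_bot]; exact hcon d hd)
      rw [card_bot, hP64] at this
      omega
    obtain ⟨hPc, -, hsqfix⟩ := squares_linear (N := U) (U := U) (P1 := P1) hU Sq_le hle hW
      (fun n hn p hp => hcen n hn p (hle hp)) hU.sq (fun p hp => sq_mem_Sq (hle hp)) hne
    rw [hP1q] at hW hsqfix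
    have hqR : πq (q R) = root k 0 := hR
    obtain ⟨-, -, hcle, hbrW⟩ := hW.centre (R := q R) hqR
    have hwfix : ∀ p ∈ P1, q ⁅A, p⁆ ∈ cfix W0 (q R) := by
      intro p hp
      rw [map_commutatorElement, hA, map_pow]; exact hbrW _ hp.2
    have hbrP : ∀ p ∈ P1, ⁅A, p⁆ ∈ P1 := fun p hp =>
      mul_mem ((inferInstance : P1.Normal).conj_mem p hp A) (inv_mem hp)
    have hxR : R * x = x * R := (Commute.self_pow R 4).eq
    have hxA : A * x = x * A := ((show Commute R x from hxR).pow_left 2).eq
    -- the fourth power moves the complement into an axis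
    have hbx : ∀ p ∈ P1, ⁅x, p⁆ ∈ cfix U A := by
      intro p hp
      set w := ⁅A, p⁆ with hw
      have hwP := hbrP p hp
      have e1 : ⁅x, p⁆ = ⁅A, w⁆ * (w * w) := by
        have e0 : ⁅x, p⁆ = (A * w * A⁻¹) * w := by
          rw [hx, hw, hA, show R ^ 4 = R ^ 2 * R ^ 2 by rw [← pow_add]]
          simp only [commutatorElement_def]; group
        rw [e0]; simp only [commutatorElement_def]; group
      have hww : w * w ∈ cfix U R := hsqfix R w hwP (hwfix p hp)
      rw [e1]
      refine mul_mem ?_ ((hU.centre hR).2.2.1 hww)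
      -- the commutator with the root
      have hu' : ⁅R, w⁆ ∈ U := by
        refine (QuotientGroup.eq_one_iff _).1 ?_
        show q ⁅R, w⁆ = 1
        rw [map_commutatorElement, commutatorElement_eq_one_iff_mul_comm]
        exact (mem_cfix.1 (hwfix p hp)).2
      set u := ⁅R, w⁆ with hu
      have hRu : R * u * R⁻¹ ∈ U := hU.conj_mem hu' R
      have e2 : ⁅A, w⁆ = (R * u * R⁻¹) * u := by
        rw [hA, hu, pow_two]; simp only [commutatorElement_def]; group
      rw [e2]
      refine mem_cfix.2 ⟨mul_mem hRu hu', ?_⟩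
      have hc := mem_cfix.1 ((hU.centre hR).2.2.2 u hu')
      rw [← mul_inv_eq_iff_eq_mul]
      have e3 : A * (R * u * R⁻¹) * A⁻¹ = R * (A * u * A⁻¹) * R⁻¹ := by rw [hA]; group
      have e4 : A * u * A⁻¹ = ⁅A, u⁆ * u := by simp only [commutatorElement_def]; group
      rw [conj_mul.symm, e3, e4]
      calc R * (⁅A, u⁆ * u) * R⁻¹ * (⁅A, u⁆ * u)
          = (R * ⁅A, u⁆ * R⁻¹) * ((R * u * R⁻¹) * ⁅A, u⁆) * u := by group
        _ = ⁅A, u⁆ * ⁅A, u⁆ * ((R * u * R⁻¹) * u) := by
          rw [hc.2, mul_inv_cancel_right, hU.comm _ hRu _ hc.1, hA]; group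
        _ = _ := by rw [hU.sq ⁅A, u⁆ hc.1, one_mul]
    have htcj : ∀ p ∈ P1, ⁅t, p⁆ ∈ U := fun p hp => comm_mem_Sq htk (hle hp)
    have hbt : ∀ p ∈ P1, ⁅t, p⁆ = ⁅x, p⁆ := by
      intro p hp
      rw [commutatorElement_def, commutatorElement_def, hxm]
      have h := hPc m hmP p hp
      calc t * p * t⁻¹ * p⁻¹ = t * (p * m) * m⁻¹ * t⁻¹ * p⁻¹ := by group
        _ = _ := by rw [← h]; group
    have htP : ∀ p ∈ P1, t * p = p * t := by
      intro p hp
      rw [← commutatorElement_eq_one_iff_mul_comm]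
      by_contra hne1
      have hin : ∀ n : ℕ, y ^ n * ⁅t, p⁆ * (y ^ n)⁻¹ ∈ cfix U A := by
        intro n
        have e : y ^ n * ⁅t, p⁆ * (y ^ n)⁻¹ = ⁅t, y ^ n * p * (y ^ n)⁻¹⁆ := by
          have hc : y ^ n * t * (y ^ n)⁻¹ = t := by
            rw [((show Commute y t from hty).pow_left n).eq, mul_inv_cancel_right]
          rw [conjugate_commutatorElement, hc]
        rw [e]
        have hp' := (inferInstance : P1.Normal).conj_mem p hp (y ^ n)
        rw [hbt _ hp']; exact hbx _ hp'
      have hall : U ≤ cfix U A := fun v hv => by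
        by_cases hv1 : v = 1
        · rw [hv1]; exact one_mem _
        · obtain ⟨n, -, hn⟩ := hFU.orbit (htcj p hp) hne1 hv hv1
          exact hn ▸ hin n
      have := card_le_of_le hall
      rw [hU.card, (hU.centre hR).2.1] at this
      omega
    have hkdec : ∀ p ∈ π.ker, p ∈ P1 ∨ t⁻¹ * p ∈ P1 := by
      intro p hp
      rcases hidxV (q p) ⟨p, hp, rfl⟩ with h | h
      · exact Or.inl ⟨hp, h⟩
      · refine Or.inr (mem_inf.2 ⟨mul_mem (inv_mem htk) hp, ?_⟩)
        show q (t⁻¹ * p) ∈ W0
        rwa [map_mul, map_inv, hqt, inv_eq_of_mul_eq_one_right hττ]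
    have hkc : ∀ a ∈ π.ker, ∀ b ∈ π.ker, a * b = b * a := by
      have h1 : ∀ a ∈ π.ker, Commute t a := by
        intro a ha
        rcases hkdec a ha with h | h
        · exact htP a h
        · have := (Commute.refl t).mul_right (show Commute t _ from htP _ h)
          rwa [mul_inv_cancel_left] at this
      intro a ha b hb
      rcases hkdec a ha with h | h <;> rcases hkdec b hb with h' | h'
      · exact hPc a h b h'
      · have := (h1 a ha).symm.mul_right (show Commute a _ from hPc a h _ h')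
        rwa [mul_inv_cancel_left] at this
      · have := (h1 b hb).mul_left (show Commute _ b from hPc _ h b h')
        rwa [mul_inv_cancel_left] at this
      · have c1 : Commute t (t⁻¹ * b) := htP _ h'
        have c2 : Commute (t⁻¹ * a) (t⁻¹ * b) := hPc _ h _ h'
        have := ((Commute.refl t).mul_right c1).mul_left ((show Commute (t⁻¹ * a) t from (htP _ h).symm).mul_right c2)
        rwa [mul_inv_cancel_left, mul_inv_cancel_left] at this
    -- an involution fixes a point of the coset
    have hAm : ⁅A, m⁆ ∈ cfix U R := by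
      obtain ⟨p, hp, hpne⟩ : ∃ p ∈ P1, q ⁅A, p⁆ ≠ 1 := by
        by_contra hcon
        push Not at hcon
        refine root_sq_ne k 0 ?_
        rw [← hqR, ← map_pow]
        refine hW.map_eq_one fun w hw => ?_
        obtain ⟨p, hp, rfl⟩ := hP1q.ge hw
        rw [← commutatorElement_eq_one_iff_mul_comm, ← map_pow, ← map_commutatorElement]
        exact hcon p hp
      set w := ⁅A, p⁆ with hw
      have hAw : ⁅A, w⁆ ∈ cfix U R := by
        have h0 : ⁅x, p⁆ = 1 := commutatorElement_eq_one_iff_mul_comm.2 (hkc x hxk p (hle hp))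
        have e1 : ⁅x, p⁆ = ⁅A, w⁆ * (w * w) := by
          have e0 : ⁅x, p⁆ = (A * w * A⁻¹) * w := by
            rw [hx, hw, hA, show R ^ 4 = R ^ 2 * R ^ 2 by rw [← pow_add]]
            simp only [commutatorElement_def]; group
          rw [e0]; simp only [commutatorElement_def]; group
        rw [e1] at h0
        rw [eq_inv_of_mul_eq_one_left h0]
        exact inv_mem (hsqfix R w (hbrP p hp) (hwfix p hp))
      have hmfix : q m ∈ cfix W0 (q R) := mem_cfix.2 ⟨hmP.2, by
        have e : q R * q x = q x * q R := by rw [← map_mul, ← map_mul, hxR]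
        rw [hm, map_mul, map_inv, hqt, ← mul_assoc, (Commute.inv_right (hτc (q R))).eq, mul_assoc, e, mul_assoc]⟩
      obtain ⟨c, -, -, hall⟩ := hW.exists_centre (R := q R) hqR
      have hcase : q m = 1 ∨ q m = q w := by
        rcases hall _ hmfix with h | h
        · exact Or.inl h
        · exact Or.inr (h.trans ((hall _ (hwfix p hp)).resolve_left hpne).symm)
      rcases hcase with h | h
      · exact (hU.centre hR).2.2.2 m ((QuotientGroup.eq_one_iff m).1 h)
      · have hu : w⁻¹ * m ∈ U := QuotientGroup.eq.1 h.symm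
        have e : ⁅A, m⁆ = ⁅A, w⁆ * (w * ⁅A, w⁻¹ * m⁆ * w⁻¹) := by
          simp only [commutatorElement_def]; group
        have hu2 : ⁅A, w⁻¹ * m⁆ ∈ cfix U R := (hU.centre hR).2.2.2 _ hu
        rw [e, hcen _ (mem_cfix.1 hu2).1 w (hle (hbrP p hp)), mul_inv_cancel_right]
        exact mul_mem hAw hu2
    obtain ⟨u, hu, hAu⟩ := hU.exists_preimage hR hAm
    have hfix : A * (m * u⁻¹) = (m * u⁻¹) * A := by
      rw [← commutatorElement_eq_one_iff_mul_comm]
      have e : ⁅A, m * u⁻¹⁆ = ⁅A, m⁆ * (m * (u⁻¹ * (⁅A, u⁆)⁻¹ * u) * m⁻¹) := by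
        simp only [commutatorElement_def]; group
      rw [e, hAu]
      have hin := inv_mem (mem_cfix.1 hAm).1
      rw [hcen _ hin u⁻¹ (Sq_le (inv_mem hu)), inv_mul_cancel_right, hcen _ hin m (hle hmP),
        mul_inv_cancel_right, mul_inv_cancel]
    have hsol : x * (m * u⁻¹)⁻¹ = t * (m * u * m⁻¹) := by rw [hxm]; group
    have hmu : m * u * m⁻¹ = u := by rw [hcen u hu m (hle hmP), mul_inv_cancel_right]
    rw [hmu] at hsol
    refine hvanish hτc (g := A) (x := t * u) (by rw [hA, map_pow, ← pow_mul, hR,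
      show 2 * 4 = 4 * 2 from rfl, pow_mul, root_four, one_pow])
      (by rw [hA, map_pow, hR]; exact root_sq_ne k 0) ⟨mul_mem htk (Sq_le hu), ?_⟩ ?_ ?_
      (fun v hv p hp => hkc p hp v hv.1)
    · right; rw [map_mul, hqt, show q u = 1 from (QuotientGroup.eq_one_iff u).2 hu, mul_one]
    · intro h; exact htU (by simpa using mul_mem h (inv_mem hu))
    · rw [← hsol]; exact ((show Commute A x from hxA).mul_right (show Commute A _ from hfix).inv_right).eq
  -- the fixed class is central
  have hτc := (four_split (π := πq) hqs (V := V) (W := W0) (y := q y) (t := τ) (fun a ha b hb => layer_comm ha hb)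
    (fun a ha => layer_sq ha) h16 hkV hFW hW0V hτV hτy hτ1).resolve_right hWn
  haveI : M.Normal := ⟨fun p hp g => ⟨hcj g hp.1, by
    rw [map_mul, map_mul, map_inv]
    rcases hp.2 with h | h <;> rw [h]
    · simp
    · right; rw [hτc (q g), mul_inv_cancel_right]⟩⟩
  let q' := QuotientGroup.mk' M
  set W1 := π.ker.map q' with hW1d
  have hW18 : Nat.card W1 = 8 := by
    have h := card_map_quot M hMk
    rw [h128, hM16] at h
    exact (Nat.eq_of_mul_eq_mul_right (show 0 < 16 by norm_num) ((show 8 * 16 = 128 from rfl).trans h)).symm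
  have hMmov : ∀ p ∈ π.ker, ⁅y, p⁆ ∈ M → ⁅y, p⁆ ∈ U := by
    intro p hp h
    rcases h.2 with h' | h'
    · exact (QuotientGroup.eq_one_iff _).1 h'
    · exfalso
      rw [map_commutatorElement] at h'
      exact hτW (h' ▸ hW0br _ ⟨p, hp, rfl⟩)
  have hW1 : Act (quot π M hMk) W1 := by
    refine ⟨fun g => by obtain ⟨x, hx⟩ := hD.surj g; exact ⟨q' x, hx⟩, by rw [ker_quot]; exact hD.pgroup.map _,
      (MonoidHom.normal_ker π).map q' (QuotientGroup.mk'_surjective _), ?_, ?_, hW18, ?_, ?_⟩
    · rintro _ ⟨a, ha, rfl⟩ _ ⟨b, hb, rfl⟩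
      rw [← commutatorElement_eq_one_iff_mul_comm, ← map_commutatorElement]
      exact (QuotientGroup.eq_one_iff _).2 (hUM (comm_mem_Sq ha hb))
    · rintro _ ⟨a, ha, rfl⟩
      rw [← map_mul]; exact (QuotientGroup.eq_one_iff _).2 (hUM (sq_mem_Sq ha))
    · intro a ha v hv
      rw [ker_quot] at ha
      obtain ⟨a, ha, rfl⟩ := ha
      obtain ⟨b, hb, rfl⟩ := hv
      rw [← commutatorElement_eq_one_iff_mul_comm, ← map_commutatorElement]
      exact (QuotientGroup.eq_one_iff _).2 (hUM (comm_mem_Sq ha hb))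
    · obtain ⟨p, hp, hpn⟩ := hD.moved hy hy7
      refine ⟨q' y, q' p, ⟨p, hp, rfl⟩, fun h => hpn (hMmov p hp ?_)⟩
      rw [← commutatorElement_eq_one_iff_mul_comm, ← map_commutatorElement] at h
      exact (QuotientGroup.eq_one_iff _).1 h
  have hFW1 := hW1.toFpf (y := q' y) hy (by rw [← map_pow, hy7, map_one])
  obtain ⟨k, hk, -⟩ := hW1.types
  obtain ⟨R, hR⟩ := hD.surj (root k 0)
  obtain ⟨c, hc, hc1, -⟩ := hW1.exists_centre (R := q' R) (k := k) (i := 0) hR
  obtain ⟨e, he, rfl⟩ := (mem_cfix.1 hc).1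
  have heM : e ∉ M := fun h => hc1 ((QuotientGroup.eq_one_iff e).2 h)
  have htg : ∀ g : X, ⁅g, t⁆ ∈ U := fun g => (QuotientGroup.eq_one_iff _).1 (by
    show q ⁅g, t⁆ = 1
    rw [map_commutatorElement, hqt, commutatorElement_eq_one_iff_mul_comm]; exact hτc _)
  have htconj : ∀ g : X, ∀ p ∈ π.ker, g * ⁅t, p⁆ * g⁻¹ = ⁅t, g * p * g⁻¹⁆ := by
    intro g p hp
    rw [conjugate_commutatorElement]
    have h1 : g * t * g⁻¹ = ⁅g, t⁆ * t := by rw [commutatorElement_def, inv_mul_cancel_right]
    rw [h1]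
    have hp' := hcj g hp
    set u := ⁅g, t⁆ with hu
    set r := g * p * g⁻¹ with hr
    calc ⁅u * t, r⁆ = u * (t * r * t⁻¹) * u⁻¹ * r⁻¹ := by simp only [commutatorElement_def]; group
      _ = ⁅t, r⁆ := by
        rw [← hcen u (htg g) (t * r * t⁻¹) (hcj t hp'), mul_inv_cancel_right, commutatorElement_def]
  have hmulp : ∀ a ∈ π.ker, ∀ b ∈ π.ker, ⁅t, a * b⁆ = ⁅t, a⁆ * ⁅t, b⁆ := by
    intro a ha b hb
    calc ⁅t, a * b⁆ = ⁅t, a⁆ * (a * ⁅t, b⁆ * a⁻¹) := by simp only [commutatorElement_def]; group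
      _ = _ := by rw [hcen _ (comm_mem_Sq htk hb) a ha, mul_inv_cancel_right]
  have htM : ∀ p ∈ M, ⁅t, p⁆ = 1 := fun p hp => commutatorElement_eq_one_iff_mul_comm.2 (hMc t ht.1 p hp)
  have hM_of : ∀ a b : X, q' a = q' b → a⁻¹ * b ∈ M := fun a b h => QuotientGroup.eq.1 h
  -- lifts with square one, one in each pair
  have hnormal_of : ∀ S : Set (X ⧸ U), (∀ g v, v ∈ S → g * v * g⁻¹ ∈ S) → S ⊆ V →
      (∀ v ∈ S, v ≠ 1 ∧ v ≠ τ) → (∀ v ∈ V, v ≠ 1 → v ≠ τ → (v ∈ S ↔ τ * v ∉ S)) → W0.Normal := by
    intro S hS hSV hS1 hone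
    obtain ⟨w, hw, hw1⟩ : ∃ w ∈ W0, w ≠ 1 := by
      by_contra hcon
      push Not at hcon
      have := hFW.card
      rw [show W0 = ⊥ from eq_bot_iff.2 fun z hz => mem_bot.2 (hcon z hz), card_bot] at this
      omega
    have horb : ∀ z ∈ W0, z ≠ 1 → (z ∈ S ↔ w ∈ S) := by
      intro z hz hz1
      obtain ⟨n, -, hn⟩ := hFW.orbit hw hw1 hz hz1
      refine ⟨fun h => ?_, fun h => hn ▸ hS _ _ h⟩
      obtain ⟨n', -, hn'⟩ := hFW.orbit hz hz1 hw hw1
      exact hn' ▸ hS _ _ h
    have hne : ∀ z ∈ W0, z ≠ τ := fun z hz e => hτW (e ▸ hz)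
    refine normal_of_invariant hτc hS ?_
    by_cases hwS : w ∈ S
    · refine Or.inl fun v => ⟨fun hv => ?_, fun hv => (horb v hv.1 hv.2).2 hwS⟩
      rcases hidxV v (hSV hv) with h | h
      · exact ⟨h, (hS1 v hv).1⟩
      · exfalso
        have hv' : τ * v ≠ 1 := fun e => (hS1 v hv).2 (by
          calc v = τ * τ * v := by rw [hττ, one_mul]
            _ = τ := by rw [mul_assoc, e, mul_one])
        exact ((hone v (hSV hv) (hS1 v hv).1 (hS1 v hv).2).1 hv) ((horb _ h hv').2 hwS)
    · refine Or.inr fun v => ⟨fun hv => ?_, ?_⟩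
      · rcases hidxV v (hSV hv) with h | h
        · exact absurd ((horb v h (hS1 v hv).1).1 hv) hwS
        · refine ⟨τ * v, h, fun e => (hS1 v hv).2 ?_, by rw [← mul_assoc, hττ, one_mul]⟩
          calc v = τ * τ * v := by rw [hττ, one_mul]
            _ = τ := by rw [mul_assoc, e, mul_one]
      · rintro ⟨z, hz, hz1, rfl⟩
        by_contra hnot
        exact hwS ((horb z hz hz1).1 ((hone z (hW0V hz) hz1 (hne z hz)).2 hnot))
  have hnotnormal : ¬ W0.Normal → False := by
    intro hWn
    by_cases hβ : ∀ p ∈ π.ker, t * p = p * t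
    · -- the lift is central in the kernel
      have hne : ∃ p ∈ π.ker, p * p ≠ 1 := by
        by_contra hcon
        push Not at hcon
        have hbot : U = ⊥ := closure_eq_bot_iff.2 (by rintro _ ⟨p, hp, rfl⟩; exact hcon p hp)
        have := hU.card
        rw [hbot, card_bot] at this
        omega
      obtain ⟨hkc, -, hsqfix⟩ := squares_linear (N := M) (U := U) (P1 := π.ker) hU hMk le_rfl hW1
        (fun n hn p hp => by
          rcases hMt n hn with h | h
          · exact hcen n h p hp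
          · have := (show Commute p t from (hβ p hp).symm).mul_right (show Commute p _ from hcen _ h p hp)
            rwa [mul_inv_cancel_left] at this) hMsq (fun p hp => sq_mem_Sq hp) hne
      obtain ⟨R0, hR0⟩ := hD.surj (root k 0)
      have hRπ : π R0 = qr := by rw [hR0, root_zero]
      by_cases hfix : q R0 * q e = q e * q R0
      · -- the orbit of the centre
        set O : Set (X ⧸ U) := {v | ∃ g, g * q e * g⁻¹ = v} with hO
        have hOinv : ∀ g v, v ∈ O → g * v * g⁻¹ ∈ O := by rintro g _ ⟨h, rfl⟩; exact ⟨g * h, by group⟩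
        have hqe : q e ∈ V := ⟨e, he, rfl⟩
        have hOV : O ⊆ V := by rintro _ ⟨g, rfl⟩; exact hVn.conj_mem _ hqe g
        have hqe1 : q e ≠ 1 ∧ q e ≠ τ := by
          constructor <;> intro h
          · exact heM ⟨he, Or.inl h⟩
          · exact heM ⟨he, Or.inr h⟩
        have hO1 : ∀ v ∈ O, v ≠ 1 ∧ v ≠ τ := by
          rintro _ ⟨g, rfl⟩
          constructor <;> intro h
          · exact hqe1.1 (conj_eq_one_iff.1 h)
          · refine hqe1.2 ?_
            calc q e = g⁻¹ * (g * q e * g⁻¹) * g := by group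
              _ = τ := by rw [h, mul_assoc, ← hτc g, inv_mul_cancel_left]
        have hqO : q e ∈ O := ⟨1, by group⟩
        have hcover : ∀ v ∈ V, v ≠ 1 → v ≠ τ → v ∈ O ∨ τ * v ∈ O := by
          intro v hv hv1 hvt
          obtain ⟨p, hp, rfl⟩ := hv
          have hp1 : q' p ≠ 1 := fun h => by
            rcases ((QuotientGroup.eq_one_iff p).1 h).2 with h' | h'
            · exact hv1 h'
            · exact hvt h'
          obtain ⟨n, -, hn⟩ := hFW1.orbit (v := q' p) ⟨e, he, rfl⟩ hc1 ⟨p, hp, rfl⟩ hp1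
          rw [← map_pow, ← map_inv, ← map_mul, ← map_mul] at hn
          have hm := (hM_of _ _ hn).2
          rw [map_mul, map_inv] at hm
          have hin : q (y ^ n * e * (y ^ n)⁻¹) ∈ O := by
            rw [map_mul, map_mul, map_inv]; exact hOinv _ _ hqO
          rcases hm with h | h
          · exact Or.inl (inv_mul_eq_one.1 h ▸ hin)
          · refine Or.inr ?_
            rw [inv_mul_eq_iff_eq_mul] at h
            rw [h, ← hτc, mul_assoc, hττ, mul_one]
            exact hin
        by_cases hboth : τ * q e ∈ O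
        · -- fourteen conjugates
          have hOall : O = (V : Set (X ⧸ U)) \ {1, τ} := by
            refine Set.Subset.antisymm (fun v hv => ⟨hOV hv, by simp [hO1 v hv]⟩) ?_
            rintro v ⟨hv, hv'⟩
            simp only [Set.mem_insert_iff, Set.mem_singleton_iff, not_or] at hv'
            rcases hcover v hv hv'.1 hv'.2 with h | h
            · exact h
            · obtain ⟨g, hg⟩ := h
              obtain ⟨g', hg'⟩ := hboth
              refine ⟨g * g', ?_⟩
              calc g * g' * q e * (g * g')⁻¹ = g * (g' * q e * g'⁻¹) * g⁻¹ := by group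
                _ = g * (τ * q e) * g⁻¹ := by rw [hg']
                _ = τ * (g * q e * g⁻¹) := by rw [← mul_assoc g τ, hτc g]; group
                _ = v := by rw [hg, ← mul_assoc, hττ, one_mul]
          have hO14 : O.ncard = 14 := by
            rw [hOall, Set.ncard_diff (by simp [Set.insert_subset_iff, one_mem, hτV]) (Set.toFinite _),
              Set.ncard_pair (Ne.symm hτ1), ← Nat.card_coe_set_eq, SetLike.coe_sort_coe, h16]
          set St := centralizer ({q e} : Set (X ⧸ U)) with hSt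
          have hidx : St.index = 14 := by
            rw [Subgroup.index, ← hO14, ← Nat.card_coe_set_eq]
            refine Nat.card_congr (Equiv.ofBijective
              (fun c => (⟨Quotient.liftOn' c (fun h => h * q e * h⁻¹) ?_, ?_⟩ : O)) ⟨?_, ?_⟩)
            · intro a b hab
              rw [QuotientGroup.leftRel_apply, mem_centralizer_singleton_iff] at hab
              show a * q e * a⁻¹ = b * q e * b⁻¹
              calc a * q e * a⁻¹ = a * (q e * (a⁻¹ * b)) * b⁻¹ := by group
                _ = b * q e * b⁻¹ := by rw [← hab]; group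
            · induction c using Quotient.inductionOn' with
              | h a => exact ⟨a, rfl⟩
            · intro c c'
              induction c using Quotient.inductionOn' with
              | h a =>
                induction c' using Quotient.inductionOn' with
                | h b =>
                  intro hcc
                  have hcc' : a * q e * a⁻¹ = b * q e * b⁻¹ := congrArg Subtype.val hcc
                  refine Quotient.sound' ?_
                  rw [QuotientGroup.leftRel_apply, mem_centralizer_singleton_iff]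
                  calc a⁻¹ * b * q e = a⁻¹ * (b * q e * b⁻¹) * b := by group
                    _ = q e * (a⁻¹ * b) := by rw [← hcc']; group
            · rintro ⟨s, h, hh⟩
              exact ⟨Quotient.mk'' h, Subtype.ext hh⟩
          have hkSt : πq.ker ≤ St := fun a ha => mem_centralizer_singleton_iff.2 (hkV a ha _ hqe)
          have h12 : Nat.card (St.map πq) = 12 := by
            have h := (St.map πq).card_mul_index
            rw [index_map_eq (f := πq) St hqs hkSt, hidx, card_Q] at h
            omega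
          exact no_twelve _ h12 ⟨q R0, mem_centralizer_singleton_iff.2 hfix, hRπ⟩
        · -- seven conjugates
          refine hWn (hnormal_of O hOinv hOV hO1 fun v hv hv1 hvt => ⟨fun h h' => hboth ?_, fun h => ?_⟩)
          · obtain ⟨g, hg⟩ := h
            obtain ⟨g', hg'⟩ := h'
            refine ⟨g⁻¹ * g', ?_⟩
            calc g⁻¹ * g' * q e * (g⁻¹ * g')⁻¹ = g⁻¹ * (g' * q e * g'⁻¹) * g := by group
              _ = g⁻¹ * (τ * (g * q e * g⁻¹)) * g := by rw [hg', hg]
              _ = _ := by rw [← mul_assoc g⁻¹ τ, hτc g⁻¹]; group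
          · rcases hcover v hv hv1 hvt with h' | h'
            · exact h'
            · exact absurd h' h
      · -- the root swaps the lifts of the centre
        obtain ⟨p, hp, hpne⟩ : ∃ p ∈ π.ker, ⁅q' R0 ^ 2, q' p⁆ ≠ 1 := by
          by_contra hcon
          push Not at hcon
          refine root_sq_ne k 0 ?_
          rw [← hR0, ← map_pow]
          have : quot π M hMk (q' R0 ^ 2) = 1 := hW1.map_eq_one (g := q' R0 ^ 2) fun w hw => by
            obtain ⟨p, hp, rfl⟩ := hw
            exact commutatorElement_eq_one_iff_mul_comm.1 (hcon p hp)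
          rwa [map_pow] at this ⊢
        have hqR0 : quot π M hMk (q' R0) = root k 0 := hR0
        set A := R0 ^ 2 with hA
        set w := ⁅A, p⁆ with hw
        have hwk : w ∈ π.ker := mul_mem (hcj A hp) (inv_mem hp)
        have hwc : q' w = q' e := by
          refine hW1.eq_centre (R := q' R0) hqR0 ?_ (by rw [hw, hA, map_commutatorElement, map_pow]; exact hpne)
            (hk (q' R) (q' R0) 0 0 hR hR0 ▸ hc) hc1
          rw [hw, hA, map_commutatorElement, map_pow]
          exact (hW1.centre (R := q' R0) hqR0).2.2.2 _ ⟨p, hp, rfl⟩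
        have hqw : q R0 * q w * (q R0)⁻¹ ≠ q w := by
          intro h
          rcases (hM_of _ _ hwc.symm).2 with h' | h'
          · rw [map_mul, map_inv, inv_mul_eq_one] at h'
            rw [← h'] at h
            exact hfix (mul_inv_eq_iff_eq_mul.1 h)
          · rw [map_mul, map_inv, inv_mul_eq_iff_eq_mul] at h'
            rw [h'] at h
            refine hfix (mul_inv_eq_iff_eq_mul.1 (mul_right_cancel (b := τ) ?_))
            calc q R0 * q e * (q R0)⁻¹ * τ = q R0 * q e * ((q R0)⁻¹ * τ) := by group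
              _ = q R0 * q e * (τ * (q R0)⁻¹) := by rw [hτc]
              _ = q R0 * (q e * τ) * (q R0)⁻¹ := by group
              _ = _ := h
        set z := ⁅R0, w⁆ with hz
        have hzM : z ∈ M ∧ q z = τ := by
          have h1 : q' z = 1 := by
            rw [hz, map_commutatorElement, hwc, commutatorElement_eq_one_iff_mul_comm]
            exact (mem_cfix.1 (hk (q' R) (q' R0) 0 0 hR hR0 ▸ hc)).2
          have hzM := (QuotientGroup.eq_one_iff z).1 h1
          refine ⟨hzM, hzM.2.resolve_left fun h => hqw ?_⟩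
          rw [hz, map_commutatorElement, commutatorElement_eq_one_iff_mul_comm] at h
          rw [h, mul_inv_cancel_right]
        set b := ⁅R0, p⁆ with hb
        have hbk : b ∈ π.ker := mul_mem (hcj R0 hp) (inv_mem hp)
        have ezb : z = ⁅A, b⁆ := by
          have hA' : ∀ v, R0 * (A * v * A⁻¹) * R0⁻¹ = A * (R0 * v * R0⁻¹) * A⁻¹ := fun v => by rw [hA]; group
          have hpi : p⁻¹ ∈ π.ker := inv_mem hp
          rw [hz, hw, hb]
          simp only [commutatorElement_def]
          calc R0 * (A * p * A⁻¹ * p⁻¹) * R0⁻¹ * (A * p * A⁻¹ * p⁻¹)⁻¹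
              = (R0 * (A * p * A⁻¹) * R0⁻¹) * (R0 * p⁻¹ * R0⁻¹) * (p * (A * p * A⁻¹)⁻¹) := by group
            _ = (A * (R0 * p * R0⁻¹) * A⁻¹) * ((R0 * p⁻¹ * R0⁻¹) * (p * (A * p * A⁻¹)⁻¹)) := by
              rw [hA']; group
            _ = (A * (R0 * p * R0⁻¹) * A⁻¹) * ((A * p * A⁻¹)⁻¹ * ((R0 * p⁻¹ * R0⁻¹) * p)) := by
              congr 1
              rw [← mul_assoc, hkc _ (mul_mem (hcj R0 hpi) hp) _ (inv_mem (hcj A hp))]
            _ = _ := by rw [hkc _ (hcj R0 hpi) p hp]; group
        have hA2 : A * A ∈ π.ker := by rw [hA, ← pow_add, MonoidHom.mem_ker, map_pow, hR0, root_four]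
        have hAz : A * z = z * A := by
          have h1 : ⁅A * A, b⁆ = 1 := commutatorElement_eq_one_iff_mul_comm.2 (hkc _ hA2 _ hbk)
          have h2 : ⁅A * A, b⁆ = (A * ⁅A, b⁆ * A⁻¹) * ⁅A, b⁆ := by simp only [commutatorElement_def]; group
          rw [h2, ← ezb, mul_eq_one_iff_eq_inv, inv_eq_of_mul_eq_one_right (hMsq z hzM.1)] at h1
          exact mul_inv_eq_iff_eq_mul.1 h1
        refine hvanish hτc (g := A) (x := z) ?_ ?_ hzM.1
          (fun h => hτ1 (hzM.2 ▸ (QuotientGroup.eq_one_iff z).2 h)) hAz (fun v hv p hp => hkc p hp v hv.1)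
        · rw [hA, map_pow, ← pow_mul, hR0, show 2 * 4 = 4 * 2 from rfl, pow_mul, root_four, one_pow]
        · rw [hA, map_pow, hR0]; exact root_sq_ne k 0
    · -- the lift twists the kernel
      push Not at hβ
      obtain ⟨p0, hp0, hp0t⟩ := hβ
      have hβinj : ∀ p ∈ π.ker, ⁅t, p⁆ = 1 → p ∈ M := by
        intro p hp h1
        by_contra hpM
        refine hp0t (commutatorElement_eq_one_iff_mul_comm.1 ?_)
        by_cases hp0M : p0 ∈ M
        · exact htM p0 hp0M
        obtain ⟨n, -, hn⟩ := hFW1.orbit (v := q' p0) ⟨p, hp, rfl⟩ (fun h => hpM ((QuotientGroup.eq_one_iff p).1 h))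
          ⟨p0, hp0, rfl⟩ (fun h => hp0M ((QuotientGroup.eq_one_iff p0).1 h))
        rw [← map_pow, ← map_inv, ← map_mul, ← map_mul] at hn
        have hm := hM_of _ _ hn
        have e : p0 = (y ^ n * p * (y ^ n)⁻¹) * ((y ^ n * p * (y ^ n)⁻¹)⁻¹ * p0) := (mul_inv_cancel_left _ _).symm
        rw [e, hmulp _ (hcj _ hp) _ (hMk hm), htM _ hm, mul_one, ← htconj _ p hp, h1]
        group
      set f' := ⁅t, e⁆ with hf'
      have hf'1 : f' ≠ 1 := fun h => heM (hβinj e he h)
      have hconje : ∀ (S : X) (i : Fin 3), π S = root k i → e⁻¹ * (S * e * S⁻¹) ∈ M := by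
        intro S i hS
        refine hM_of _ _ ?_
        rw [map_mul, map_mul, map_inv, (mem_cfix.1 ((hk (q' R) (q' S) 0 i hR hS ▸ hc) : q' e ∈ cfix W1 (q' S))).2, mul_inv_cancel_right]
      have hf'c : ∀ (S : X) (i : Fin 3), π S = root k i → f' ∈ cfix U S := by
        intro S i hS
        refine mem_cfix.2 ⟨comm_mem_Sq htk he, mul_inv_eq_iff_eq_mul.1 ?_⟩
        have hm := hconje S i hS
        rw [htconj S e he, show S * e * S⁻¹ = e * (e⁻¹ * (S * e * S⁻¹)) from (mul_inv_cancel_left _ _).symm,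
          hmulp e he _ (hMk hm), htM _ hm, mul_one]
      have hkU : CentreType π U k := hU.centreType_of_common hf'1 hf'c
      have hf'sq : f' * f' = 1 := hU.sq _ (comm_mem_Sq htk he)
      have hpt : ∀ p ∈ π.ker, p * t * (p * t) = p * p * ⁅t, p⁆ := by
        intro p hp
        have hu : ⁅t, p⁆ ∈ U := comm_mem_Sq htk hp
        calc p * t * (p * t) = p * (⁅t, p⁆ * p) * (t * t) := by simp only [commutatorElement_def]; group
          _ = _ := by rw [htt, mul_one, ← hcen _ hu p hp, mul_assoc]
      have hsqmod : ∀ a ∈ π.ker, ∀ m ∈ M, a * m * (a * m) = a * a ∨ a * m * (a * m) = a * a * ⁅t, a⁆ := by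
        intro a ha m hm
        rcases hMt m hm with h | h
        · left
          calc a * m * (a * m) = a * (m * a) * m := by group
            _ = a * a * (m * m) := by rw [← hcen m h a ha]; group
            _ = _ := by rw [hU.sq m h, mul_one]
        · right
          rw [← hpt a ha]
          obtain ⟨u, hu, rfl⟩ : ∃ u ∈ U, m = t * u := ⟨_, h, (mul_inv_cancel_left _ _).symm⟩
          have hat : a * t ∈ π.ker := mul_mem ha htk
          calc a * (t * u) * (a * (t * u)) = a * t * (u * (a * t)) * u := by group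
            _ = a * t * (a * t) * (u * u) := by rw [← hcen u hu _ hat]; group
            _ = _ := by rw [hU.sq u hu, mul_one]
      have hekey : ∀ (S : X) (i : Fin 3), π S = root k i → e * e ∈ cfix U (S ^ 2) := by
        intro S i hS
        refine mem_cfix.2 ⟨sq_mem_Sq he, mul_inv_eq_iff_eq_mul.1 ?_⟩
        obtain ⟨u, hu, hSe⟩ : ∃ u, (u = 1 ∨ u = f') ∧ S * (e * e) * S⁻¹ = e * e * u := by
          rw [← conj_mul, show S * e * S⁻¹ = e * (e⁻¹ * (S * e * S⁻¹)) from (mul_inv_cancel_left _ _).symm]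
          rcases hsqmod e he _ (hconje S i hS) with h | h
          · exact ⟨1, Or.inl rfl, by rw [h, mul_one]⟩
          · exact ⟨f', Or.inr rfl, h⟩
        have hSu : S * u = u * S := by
          rcases hu with rfl | rfl
          · simp
          · exact (mem_cfix.1 (hf'c S i hS)).2
        have huu : u * u = 1 := by rcases hu with rfl | rfl <;> simp [hf'sq]
        calc S ^ 2 * (e * e) * (S ^ 2)⁻¹ = S * (S * (e * e) * S⁻¹) * S⁻¹ := by rw [pow_two]; group
          _ = (S * (e * e) * S⁻¹) * (S * u * S⁻¹) := by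
            conv_lhs => rw [hSe]
            group
          _ = e * e := by rw [hSe, hSu, mul_inv_cancel_right, mul_assoc, huu, mul_one]
      obtain ⟨R1, hR1⟩ := hD.surj (root k 1)
      have he2 : e * e = 1 ∨ e * e = f' := by
        have hm : e * e ∈ cfix U R :=
          hU.inf_axes hkU hR hR1 (by decide) ▸ mem_inf.2 ⟨hekey R 0 hR, hekey R1 1 hR1⟩
        by_cases h : e * e = 1
        · exact Or.inl h
        · exact Or.inr (hU.eq_centre hR hm h (hf'c R 0 hR) hf'1)
      have hpair : ∀ p ∈ π.ker, p ∉ M → (p * p = 1 ↔ p * t * (p * t) ≠ 1) := by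
        intro p hp hpM
        have hne : ⁅t, p⁆ ≠ 1 := fun h => hpM (hβinj p hp h)
        have hu : ⁅t, p⁆ * ⁅t, p⁆ = 1 := hU.sq _ (comm_mem_Sq htk hp)
        have hor : p * p = 1 ∨ p * p = ⁅t, p⁆ := by
          obtain ⟨n, -, hn⟩ := hFW1.orbit (v := q' p) ⟨e, he, rfl⟩ hc1 ⟨p, hp, rfl⟩
            (fun h => hpM ((QuotientGroup.eq_one_iff p).1 h))
          rw [← map_pow, ← map_inv, ← map_mul, ← map_mul] at hn
          have hm := hM_of _ _ hn
          set a := y ^ n * e * (y ^ n)⁻¹ with ha
          have hak : a ∈ π.ker := hcj _ he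
          have e1 : p = a * (a⁻¹ * p) := (mul_inv_cancel_left _ _).symm
          have ht' : ⁅t, p⁆ = ⁅t, a⁆ := by
            conv_lhs => rw [e1]
            rw [hmulp a hak _ (hMk hm), htM _ hm, mul_one]
          have haa : a * a = 1 ∨ a * a = ⁅t, a⁆ := by
            rw [ha, conj_mul, ← htconj _ e he]
            rcases he2 with h | h
            · exact Or.inl (by rw [h, mul_one, mul_inv_cancel])
            · exact Or.inr (by rw [h])
          have hta : ⁅t, a⁆ * ⁅t, a⁆ = 1 := ht' ▸ hu
          rw [ht']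
          rw [e1]
          rcases hsqmod a hak _ hm with h | h <;> rw [h]
          · exact haa
          · rcases haa with h' | h' <;> rw [h']
            · exact Or.inr (one_mul _)
            · exact Or.inl hta
        rw [hpt p hp]
        rcases hor with h | h <;> rw [h]
        · simpa using hne
        · simp [hne, hu]
      let S : Set (X ⧸ U) := {v | v ≠ 1 ∧ v ≠ τ ∧ ∃ p ∈ π.ker, q p = v ∧ p * p = 1}
      have hwell : ∀ a ∈ π.ker, ∀ b ∈ π.ker, q a = q b → a * a = b * b := by
        intro a ha b hb hab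
        have hf : a⁻¹ * b ∈ U := QuotientGroup.eq.1 hab
        symm
        calc b * b = a * ((a⁻¹ * b) * a) * (a⁻¹ * b) := by group
          _ = a * a * ((a⁻¹ * b) * (a⁻¹ * b)) := by rw [← hcen _ hf a ha]; group
          _ = a * a := by rw [hU.sq _ hf, mul_one]
      refine hWn (hnormal_of S ?_ ?_ (fun v hv => ⟨hv.1, hv.2.1⟩) ?_)
      · rintro g v ⟨hv1, hvt, p, hp, rfl, hpp⟩
        obtain ⟨x, rfl⟩ := QuotientGroup.mk'_surjective U g
        refine ⟨fun h => hv1 (conj_eq_one_iff.1 h), fun h => hvt ?_, x * p * x⁻¹, hcj x hp, by simp [q],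
          by rw [conj_mul, hpp, mul_one, mul_inv_cancel]⟩
        calc q p = (q x)⁻¹ * (q x * q p * (q x)⁻¹) * q x := by group
          _ = τ := by rw [h, mul_assoc, ← hτc (q x), inv_mul_cancel_left]
      · rintro v ⟨-, -, p, hp, rfl, -⟩; exact ⟨p, hp, rfl⟩
      · intro v hv hv1 hvt
        obtain ⟨p, hp, rfl⟩ := hv
        have hpM : p ∉ M := fun h => h.2.elim hv1 hvt
        have hqpt : q (p * t) = τ * q p := by rw [map_mul, hqt, hτc (q p)]
        constructor
        · rintro ⟨-, -, p', hp', hp'q, hp'2⟩ ⟨-, -, r, hr, hrq, hr2⟩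
          refine (hpair p hp hpM).1 ((hwell p hp p' hp' hp'q.symm).trans hp'2) ?_
          exact (hwell _ (mul_mem hp htk) r hr (hqpt.trans hrq.symm)).trans hr2
        · intro h
          refine ⟨hv1, hvt, p, hp, rfl, by_contra fun hpp => h ⟨?_, ?_, p * t, mul_mem hp htk, hqpt, ?_⟩⟩
          · intro e'; exact hvt (by
              calc q p = τ * τ * q p := by rw [hττ, one_mul]
                _ = τ := by rw [mul_assoc, e', mul_one])
          · intro e'; exact hv1 (mul_eq_left.1 e')
          · by_contra hne'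
            exact hpp ((hpair p hp hpM).2 hne')
  exact hnotnormal hWn

end Cfsg.Agent.GroupStructure3.RankFourL32
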