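import Cfsg.Agent.GroupStructure3.RankFourL32.Core

/-!
# Squares on a layer of order eight
-/

set_option autoImplicit false
set_option linter.all false

namespace Cfsg.Agent.GroupStructure3.RankFourL32

open Subgroup
open scoped commutatorElement

universe u

variable {X : Type u} [Group X] [Finite X] {π : X →* Q}

/-- A nonzero squaring map between two natural layers is linear. -/
theorem squares_linear {N U P1 : Subgroup X} [N.Normal] [P1.Normal] (hU : Act π U) (hNk : N ≤ π.ker)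
    (hP1k : P1 ≤ π.ker) (hW : Act (quot π N hNk) (P1.map (QuotientGroup.mk' N)))
    (hcen : ∀ n ∈ N, ∀ p ∈ P1, p * n = n * p) (hNsq : ∀ n ∈ N, n * n = 1) (hsq : ∀ p ∈ P1, p * p ∈ U)
    (hne : ∃ p ∈ P1, p * p ≠ 1) :
    (∀ a ∈ P1, ∀ b ∈ P1, a * b = b * a) ∧ (∀ a ∈ P1, a * a = 1 → a ∈ N) ∧
      ∀ R : X, ∀ a ∈ P1, QuotientGroup.mk' N a ∈ cfix (P1.map (QuotientGroup.mk' N)) (QuotientGroup.mk' N R) →
        a * a ∈ cfix U R := by
  classical
  let q := QuotientGroup.mk' N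
  set V := P1.map q with hV
  obtain ⟨y, hy, hy7⟩ := exists_seven hU.surj hU.pgroup
  have hFV : Fpf (q y) V := hW.toFpf hy (by rw [← map_pow, hy7, map_one])
  have hcj : ∀ (x : X) {p : X}, p ∈ P1 → x * p * x⁻¹ ∈ P1 := fun x p hp => ‹P1.Normal›.conj_mem p hp x
  have hsqq : ∀ a ∈ P1, ∀ b ∈ P1, q a = q b → a * a = b * b := by
    intro a ha b hb hab
    have hf : a⁻¹ * b ∈ N := QuotientGroup.eq.1 hab
    symm
    calc b * b = a * ((a⁻¹ * b) * a) * (a⁻¹ * b) := by group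
      _ = a * a * ((a⁻¹ * b) * (a⁻¹ * b)) := by rw [← hcen _ hf a ha]; group
      _ = a * a := by rw [hNsq _ hf, mul_one]
  have hsqne : ∀ a ∈ P1, a ∉ N → a * a ≠ 1 := by
    intro a ha hna h1
    obtain ⟨b, hb, hb1⟩ := hne
    refine hb1 ?_
    by_cases hbS : b ∈ N
    · exact hNsq b hbS
    obtain ⟨n, -, hn⟩ := hFV.orbit (v := q b) ⟨a, ha, rfl⟩ (fun e => hna ((QuotientGroup.eq_one_iff a).1 e))
      ⟨b, hb, rfl⟩ (fun e => hbS ((QuotientGroup.eq_one_iff b).1 e))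
    rw [← map_pow, ← map_inv, ← map_mul, ← map_mul] at hn
    rw [← hsqq _ (hcj _ ha) b hb hn, conj_mul, h1, mul_one, mul_inv_cancel]
  have hsqfix : ∀ R : X, ∀ a ∈ P1, q a ∈ cfix V (q R) → a * a ∈ cfix U R := by
    intro R a ha hqa
    refine mem_cfix.2 ⟨hsq a ha, mul_inv_eq_iff_eq_mul.1 ?_⟩
    rw [← conj_mul]
    refine hsqq _ (hcj R ha) a ha ?_
    rw [map_mul, map_mul, map_inv, (mem_cfix.1 hqa).2, mul_inv_cancel_right]
  refine ⟨?_, fun a ha h => by_contra fun hn => hsqne a ha hn h, hsqfix⟩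
  obtain ⟨k, hk, hkA⟩ := hW.types
  obtain ⟨R0, hR0⟩ := hU.surj (root k 0)
  obtain ⟨c, hc, hc1, -⟩ := hW.exists_centre (R := q R0) (k := k) (i := 0) hR0
  obtain ⟨e, he, rfl⟩ := (mem_cfix.1 hc).1
  have hek : e ∉ N := fun h => hc1 ((QuotientGroup.eq_one_iff e).2 h)
  have hkU : CentreType π U k := hU.centreType_of_common (hsqne e he hek) fun R i hR =>
    hsqfix R e he (hk (q R0) (q R) 0 i hR0 hR ▸ hc)
  have hkUA : AxisType π U (!k) := by
    rcases hU.type (!k) with h | h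
    · exfalso
      obtain ⟨k', hk', hk'A⟩ := hU.types
      obtain ⟨S, hS⟩ := hU.surj (root (!k') 0)
      obtain ⟨S', hS'⟩ := hU.surj (root (!k') 1)
      refine (hk'A S S' 0 1 hS hS' (by decide)).1 ?_
      by_cases e : (!k') = k
      · rw [e] at hS hS'; exact hkU S S' 0 1 hS hS'
      · have e' : (!k') = !k := by cases k <;> cases k' <;> simp_all
        rw [e'] at hS hS'; exact h S S' 0 1 hS hS'
    · exact h
  have hex : ∀ i, ∃ S a, π S = root (!k) i ∧ a ∈ P1 ∧ q a ∈ cfix V (q S) ∧ q a ≠ 1 := by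
    intro i
    obtain ⟨S, hS⟩ := hU.surj (root (!k) i)
    obtain ⟨c', hc', hc1', -⟩ := hW.exists_centre (R := q S) (k := !k) (i := i) hS
    obtain ⟨a, ha, rfl⟩ := (mem_cfix.1 hc').1
    exact ⟨S, a, hS, ha, hc', hc1'⟩
  obtain ⟨S0, a0, hS0, ha0, hq0, hn0⟩ := hex 0
  obtain ⟨S1, a1, hS1, ha1, hq1, hn1⟩ := hex 1
  obtain ⟨S2, a2, hS2, ha2, hq2, hn2⟩ := hex 2
  have hV2 : q a0 * q a1 = q a2 := hW.axis_mul hkA (R0 := q S0) (R1 := q S1) (R2 := q S2) hS0 hS1 hS2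
    hq0 hn0 hq1 hn1 hq2 hn2
  have hnS : ∀ a, q a ≠ 1 → a ∉ N := fun a h h' => h ((QuotientGroup.eq_one_iff a).2 h')
  have hU2 : (a0 * a0) * (a1 * a1) = a2 * a2 :=
    hU.axis_mul hkUA hS0 hS1 hS2 (hsqfix S0 a0 ha0 hq0) (hsqne a0 ha0 (hnS _ hn0))
      (hsqfix S1 a1 ha1 hq1) (hsqne a1 ha1 (hnS _ hn1)) (hsqfix S2 a2 ha2 hq2) (hsqne a2 ha2 (hnS _ hn2))
  have h01 : a0 * a1 = a1 * a0 := by
    have h := hsqq _ (mul_mem ha0 ha1) a2 ha2 (by rw [map_mul, hV2])
    rw [← hU2] at h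
    have h' : a0 * (a1 * a0 * a1) = a0 * (a0 * (a1 * a1)) := by
      calc a0 * (a1 * a0 * a1) = a0 * a1 * (a0 * a1) := by group
        _ = a0 * a0 * (a1 * a1) := h
        _ = _ := by group
    have h'' := mul_left_cancel h'
    calc a0 * a1 = (a0 * (a1 * a1)) * a1⁻¹ := by group
      _ = (a1 * a0 * a1) * a1⁻¹ := by rw [h'']
      _ = a1 * a0 := by group
  have hn01 : q a0 ≠ q a1 := by
    intro e
    have : q a2 = 1 := by rw [← hV2, e]; exact hW.sq _ ⟨a1, ha1, rfl⟩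
    exact hn2 this
  have hlift : ∀ a ∈ P1, ∀ b ∈ P1, ∀ a' ∈ P1, ∀ b' ∈ P1, q a = q a' → q b = q b' →
      a * b = b * a → a' * b' = b' * a' := by
    intro a ha b hb a' ha' b' hb' ea eb hab
    obtain ⟨f, hf, rfl⟩ : ∃ f ∈ N, a' = a * f :=
      ⟨_, QuotientGroup.eq.1 ea, (mul_inv_cancel_left _ _).symm⟩
    obtain ⟨g, hg, rfl⟩ : ∃ g ∈ N, b' = b * g :=
      ⟨_, QuotientGroup.eq.1 eb, (mul_inv_cancel_left _ _).symm⟩
    have h1 : Commute a b := hab
    have h2 : Commute a g := hcen g hg a ha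
    have h3 : Commute f b := (hcen f hf b hb).symm
    have h5 : a⁻¹ * (a * f) ∈ P1 := mul_mem (inv_mem ha) ha'
    rw [inv_mul_cancel_left] at h5
    have h4 : Commute f g := hcen g hg f h5
    exact ((h1.mul_right h2).mul_left (h3.mul_right h4)).eq
  have hcent0 : ∀ x ∈ P1, a0 * x = x * a0 := by
    intro x hx
    by_cases hx1 : q x = 1
    · exact hcen x ((QuotientGroup.eq_one_iff x).1 hx1) a0 ha0
    by_cases hxa : q x = q a0
    · exact hlift a0 ha0 a0 ha0 a0 ha0 x hx rfl hxa.symm rfl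
    obtain ⟨n, u, v, hu, hv, hua, hvx⟩ := hFV.lines (x := q x) ⟨a0, ha0, rfl⟩ hn0 ⟨a1, ha1, rfl⟩ hn1 hn01
      ⟨x, hx, rfl⟩ hx1 hxa
    have hrep : ∀ w, w ∈ ({q a0, q a1, q a0 * q a1} : Set (X ⧸ N)) →
        ∃ b ∈ P1, q b = w ∧ (b = a0 ∨ b = a1 ∨ b = a0 * a1) := by
      rintro w (rfl | rfl | rfl)
      · exact ⟨a0, ha0, rfl, Or.inl rfl⟩
      · exact ⟨a1, ha1, rfl, Or.inr (Or.inl rfl)⟩
      · exact ⟨_, mul_mem ha0 ha1, map_mul q a0 a1, Or.inr (Or.inr rfl)⟩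
    obtain ⟨bu, hbu, rfl, hbu'⟩ := hrep u hu
    obtain ⟨bv, hbv, rfl, hbv'⟩ := hrep v hv
    have hb : Commute bu bv := by
      have h01' : Commute a0 a1 := h01
      rcases hbu' with rfl | rfl | rfl <;> rcases hbv' with rfl | rfl | rfl
      all_goals first
        | exact Commute.refl _
        | exact h01'
        | exact h01'.symm
        | exact (Commute.refl _).mul_right h01'
        | exact h01'.symm.mul_right (Commute.refl _)
        | exact ((Commute.refl _).mul_right h01').symm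
        | exact (h01'.symm.mul_right (Commute.refl _)).symm
    rw [← map_pow, ← map_inv, ← map_mul, ← map_mul] at hua hvx
    exact hlift _ (hcj _ hbu) _ (hcj _ hbv) a0 ha0 x hx hua hvx (by
      calc y ^ n * bu * (y ^ n)⁻¹ * (y ^ n * bv * (y ^ n)⁻¹) = y ^ n * (bu * bv) * (y ^ n)⁻¹ := by group
        _ = y ^ n * (bv * bu) * (y ^ n)⁻¹ := by rw [hb.eq]
        _ = _ := by group)
  intro a ha b hb
  by_cases ha1' : q a = 1
  · exact (hcen a ((QuotientGroup.eq_one_iff a).1 ha1') b hb).symm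
  obtain ⟨n, -, hn⟩ := hFV.orbit ⟨a0, ha0, rfl⟩ hn0 ⟨a, ha, rfl⟩ ha1'
  rw [← map_pow, ← map_inv, ← map_mul, ← map_mul] at hn
  refine hlift _ (hcj _ ha0) b hb a ha b hb hn rfl ?_
  have h := hcent0 ((y ^ n)⁻¹ * b * y ^ n) (by simpa using hcj (y ^ n)⁻¹ hb)
  calc y ^ n * a0 * (y ^ n)⁻¹ * b = y ^ n * (a0 * ((y ^ n)⁻¹ * b * y ^ n)) * (y ^ n)⁻¹ := by group
    _ = y ^ n * (((y ^ n)⁻¹ * b * y ^ n) * a0) * (y ^ n)⁻¹ := by rw [h]
    _ = _ := by group

/-- A point fixed by an element of order 2 or 4 in the outer coset makes a fixed vector of the coset central. -/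
theorem coset_central {G : Type*} [Group G] [Finite G] {π : G →* Q} (hs : Function.Surjective π)
    {V W : Subgroup G} [V.Normal] [W.Normal] (hc : ∀ a ∈ V, ∀ b ∈ V, a * b = b * a)
    (hsq : ∀ a ∈ V, a * a = 1) (h16 : Nat.card V = 16) (hk : ∀ k ∈ π.ker, ∀ v ∈ V, k * v = v * k)
    {y : G} (hy : π y = qy) (hF : Fpf y W) (hWV : W ≤ V)
    {R x : G} (hR4 : π R ^ 4 = 1) (hR1 : π R ≠ 1) (hx : x ∈ V) (hxW : x ∉ W) (hRx : R * x = x * R) :
    ∃ t ∈ V, t ∉ W ∧ ∀ g, g * t = t * g := by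
  haveI : Fact (Nat.Prime 7) := ⟨by norm_num⟩
  set C := V ⊓ centralizer {y} with hC
  have hCW : ∀ c ∈ C, c ∈ W → c = 1 := fun c hc' hcW =>
    hF.free c hcW (mem_centralizer_singleton_iff.1 hc'.2).symm
  have hmod := RankFourA5.card_modEq (q := 7) hF.y7 V fun v hv => ‹V.Normal›.conj_mem v hv y
  rw [h16, ← hC] at hmod
  have hCle : Nat.card C ≤ 2 := by
    have hidx : Nat.card (V.map (QuotientGroup.mk' W)) = 2 := by
      have h := Subgroup.relIndex_ker V (QuotientGroup.mk' W)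
      rw [QuotientGroup.ker_mk'] at h
      have h' := (W.subgroupOf V).card_mul_index
      rw [Nat.card_congr (subgroupOfEquivOfLe hWV).toEquiv, hF.card, h16] at h'
      rw [← h, Subgroup.relIndex]
      omega
    rw [← hidx]
    refine Nat.card_le_card_of_injective (fun c => ⟨QuotientGroup.mk' W c, ⟨c, c.2.1, rfl⟩⟩) fun a b hab => ?_
    have h := QuotientGroup.eq.1 (congrArg Subtype.val hab :)
    exact Subtype.ext (inv_mul_eq_one.1 (hCW _ (mul_mem (inv_mem a.2) b.2) h))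
  have hC2 : Nat.card C = 2 := by
    unfold Nat.ModEq at hmod
    omega
  obtain ⟨t, ht, ht1, hall⟩ := GenA.SectionalRankFour.exists_gen hC2
  have htW : t ∉ W := fun h => ht1 (hCW t ht h)
  refine ⟨t, ht.1, htW, central_of_fixed hs (S := (V : Set G) \ (W : Set G)) ?_ ?_ ?_ hy hF.y7
    ⟨ht.1, htW⟩ (mem_centralizer_singleton_iff.1 ht.2).symm ?_ hR4 hR1 ⟨hx, hxW⟩ hRx⟩
  · rw [Set.ncard_diff (show (W : Set G) ⊆ (V : Set G) from hWV) (Set.toFinite _), ← Nat.card_coe_set_eq,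
      ← Nat.card_coe_set_eq, SetLike.coe_sort_coe, SetLike.coe_sort_coe, h16, hF.card]
  · intro g v hv
    refine ⟨‹V.Normal›.conj_mem v hv.1 g, fun h => hv.2 ?_⟩
    have := ‹W.Normal›.conj_mem _ h g⁻¹
    simpa [mul_assoc] using this
  · intro k hk' v hv
    exact hk k hk' v hv.1
  · intro v hv hvy
    exact (hall v ⟨hv.1, mem_centralizer_singleton_iff.2 hvy.symm⟩).resolve_left fun e => hv.2 (e ▸ one_mem W)

/-- Each element commuting with the action generates a central subgroup. -/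
theorem ker_sup_commutator (hs : Function.Surjective π) {C : Subgroup X} (hk : π.ker ≤ C)
    (hc : commutator X ≤ C) : C = ⊤ := by
  have h1 : C.map π = ⊤ := by
    rw [eq_top_iff, ← commutator_Q]
    refine le_trans ?_ (map_mono hc)
    rw [_root_.commutator_def, _root_.commutator_def, map_commutator, ← MonoidHom.range_eq_map,
      MonoidHom.range_eq_top.2 hs]
  have h2 := congrArg (Subgroup.comap π) h1
  rwa [comap_map_eq, comap_top, sup_eq_left.2 hk] at h2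

/-- A twisting with values in a central subgroup is trivial. -/
theorem central_of_twist (hs : Function.Surjective π) {t : X} {Z : Subgroup X}
    (hZ : ∀ g, ∀ z ∈ Z, g * z = z * g) (hk : ∀ k ∈ π.ker, k * t = t * k) (ht : ∀ g : X, ⁅g, t⁆ ∈ Z) :
    ∀ g, g * t = t * g := by
  have hmul : ∀ g h : X, ⁅g * h, t⁆ = ⁅g, t⁆ * ⁅h, t⁆ := by
    intro g h
    calc ⁅g * h, t⁆ = (g * ⁅h, t⁆ * g⁻¹) * ⁅g, t⁆ := by simp only [commutatorElement_def]; group
      _ = _ := by rw [hZ g _ (ht h), mul_inv_cancel_right, hZ _ _ (ht g)]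
  have hcent : commutator X ≤ centralizer {t} := by
    rw [_root_.commutator_def, commutator_le]
    intro a _ b _
    rw [mem_centralizer_singleton_iff]
    refine mul_inv_eq_iff_eq_mul.1 ?_
    have h : ⁅a⁻¹ * b⁻¹, t⁆ = ⁅b⁻¹ * a⁻¹, t⁆ := by rw [hmul, hmul, hZ _ _ (ht b⁻¹)]
    have h' : a⁻¹ * b⁻¹ * t * (a⁻¹ * b⁻¹)⁻¹ = b⁻¹ * a⁻¹ * t * (b⁻¹ * a⁻¹)⁻¹ := by
      rw [commutatorElement_def, commutatorElement_def] at h
      exact mul_right_cancel h
    calc ⁅a, b⁆ * t * ⁅a, b⁆⁻¹ = a * b * (a⁻¹ * b⁻¹ * t * (a⁻¹ * b⁻¹)⁻¹) * (a * b)⁻¹ := by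
          simp only [commutatorElement_def]; group
      _ = t := by rw [h']; group
  have htop := ker_sup_commutator hs (C := centralizer {t})
    (fun k hk' => mem_centralizer_singleton_iff.2 (hk k hk')) hcent
  exact fun g => mem_centralizer_singleton_iff.1 (htop ▸ mem_top g)

/-- An element normalising a cyclic group of kernel elements centralises it. -/
theorem central_of_zpowers (hs : Function.Surjective π) {u : X} (hk : ∀ k ∈ π.ker, k * u = u * k)
    (hn : ∀ g, g * u * g⁻¹ ∈ zpowers u) : ∀ g, g * u = u * g := by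
  have hpow : ∀ g, ∃ n : ℤ, g * u * g⁻¹ = u ^ n := fun g => by
    obtain ⟨n, hn'⟩ := mem_zpowers_iff.1 (hn g); exact ⟨n, hn'.symm⟩
  have hcomm : ∀ a b : X, a * b * u * (a * b)⁻¹ = b * a * u * (b * a)⁻¹ := by
    intro a b
    obtain ⟨i, hi⟩ := hpow a
    obtain ⟨j, hj⟩ := hpow b
    calc a * b * u * (a * b)⁻¹ = a * (b * u * b⁻¹) * a⁻¹ := by group
      _ = (a * u * a⁻¹) ^ j := by rw [hj, conj_zpow]
      _ = u ^ (i * j) := by rw [hi, ← zpow_mul]
      _ = (b * u * b⁻¹) ^ i := by rw [hj, ← zpow_mul, mul_comm]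
      _ = b * (a * u * a⁻¹) * b⁻¹ := by rw [hi, conj_zpow]
      _ = _ := by group
  have hcent : commutator X ≤ centralizer {u} := by
    rw [_root_.commutator_def, commutator_le]
    intro a _ b _
    rw [mem_centralizer_singleton_iff]
    refine mul_inv_eq_iff_eq_mul.1 ?_
    calc ⁅a, b⁆ * u * ⁅a, b⁆⁻¹ = a * b * (a⁻¹ * b⁻¹ * u * (a⁻¹ * b⁻¹)⁻¹) * (a * b)⁻¹ := by
          simp only [commutatorElement_def]; group
      _ = u := by rw [hcomm a⁻¹ b⁻¹]; group
  have htop := ker_sup_commutator hs (C := centralizer {u})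
    (fun k hk' => mem_centralizer_singleton_iff.2 (hk k hk')) hcent
  exact fun g => mem_centralizer_singleton_iff.1 (htop ▸ mem_top g)

theorem Sq_quot (N : Subgroup X) [N.Normal] (hN : N ≤ π.ker) :
    Sq (quot π N hN) = (Sq π).map (QuotientGroup.mk' N) := by
  rw [Sq, Sq, MonoidHom.map_closure]
  congr 1
  ext z
  constructor
  · rintro ⟨p, hp, rfl⟩
    rw [ker_quot] at hp
    obtain ⟨p, hp, rfl⟩ := hp
    exact ⟨p * p, ⟨p, hp, rfl⟩, map_mul _ _ _⟩
  · rintro ⟨_, ⟨p, hp, rfl⟩, rfl⟩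
    exact ⟨QuotientGroup.mk' N p, by rw [ker_quot]; exact ⟨p, hp, rfl⟩, map_mul _ _ _⟩

theorem card_map_quot (N : Subgroup X) [N.Normal] {L : Subgroup X} (hL : N ≤ L) :
    Nat.card L = Nat.card (L.map (QuotientGroup.mk' N)) * Nat.card N := by
  have h := Subgroup.relIndex_ker L (QuotientGroup.mk' N)
  rw [QuotientGroup.ker_mk'] at h
  rw [← h, Subgroup.relIndex, ← Nat.card_congr (subgroupOfEquivOfLe hL).toEquiv, mul_comm, card_mul_index]

/-- A subgroup of index two and a dichotomy for the roots. -/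
theorem index_two_cases (hD : Data π) (P1 : Subgroup X) [P1.Normal] (hle : P1 ≤ π.ker)
    (h2 : Nat.card π.ker = 2 * Nat.card P1)
    (IH : ∀ {Y : Type u} [Group Y] [Finite Y] (π' : Y →* Q), Nat.card π'.ker < Nat.card π.ker →
      Data π' → Shape π')
    (h64 : 64 ≤ Nat.card P1) :
    ∀ (R : X) (k : Bool) (i : Fin 3), π R = root k i → R ^ 4 ∉ P1 := by
  rcases split_or hD P1 hle h2 with ⟨X1, hinf, hsup⟩ | h
  · exfalso
    obtain ⟨hD1, hc1⟩ := hD.sub hinf hsup h2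
    have hs := (IH _ (by rw [hc1, h2]; have := Nat.card_pos (α := P1); omega) hD1).card
    omega
  · exact h

end Cfsg.Agent.GroupStructure3.RankFourL32
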