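import Cfsg.Agent.GroupStructure3.RankFourL32.Squares

/-!
# No layer of order eight below a cyclic layer
-/

set_option autoImplicit false
set_option linter.all false

namespace Cfsg.Agent.GroupStructure3.RankFourL32

open Subgroup
open scoped commutatorElement

universe u

variable {X : Type u} [Group X] [Finite X] {π : X →* Q}

/-- A central involution avoiding the moved classes gives a smaller instance. -/
theorem no_central_involution (hD : Data π)
    (IH : ∀ {Y : Type u} [Group Y] [Finite Y] (π' : Y →* Q), Nat.card π'.ker < Nat.card π.ker →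
      Data π' → Shape π')
    {t : X} (ht : t ∈ π.ker) (ht1 : t ≠ 1) (ht2 : t * t = 1) (htc : ∀ g, g * t = t * g)
    (hmv : ∀ y : X, π y = qy → y ^ 7 = 1 → ∃ p ∈ π.ker, ⁅y, p⁆ ∉ zpowers t)
    (h128 : 128 ≤ Nat.card π.ker) : False := by
  haveI : (zpowers t).Normal := ⟨fun x hx g => by
    obtain ⟨m, rfl⟩ := mem_zpowers_iff.1 hx
    rw [((show Commute g t from htc g).zpow_right m).eq, mul_inv_cancel_right]
    exact zpow_mem (mem_zpowers t) m⟩
  have hk : zpowers t ≤ π.ker := zpowers_le.2 ht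
  have h2 : Nat.card (zpowers t) = 2 := by
    rw [Nat.card_zpowers, orderOf_eq_prime (by rw [pow_two, ht2]) ht1]
  have hc := card_ker_quot (π := π) (zpowers t) hk
  rw [h2] at hc
  have hs := (IH _ (by omega) (hD.quotient hk hmv)).card
  omega

theorem no_twisted (hD : Data π)
    (IH : ∀ {Y : Type u} [Group Y] [Finite Y] (π' : Y →* Q), Nat.card π'.ker < Nat.card π.ker →
      Data π' → Shape π')
    {U : Subgroup X} [U.Normal] (hU : Act π U) (hUS : U ≤ Sq π)
    {W : Subgroup (X ⧸ U)} {t : X ⧸ U}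
    (hS : Split (quot π U (hUS.trans Sq_le)) W t 2)
    (hcen : ∀ f ∈ Sq π, ∀ p ∈ π.ker, p * f = f * p) : False := by
  classical
  let q := QuotientGroup.mk' U
  have hUk : U ≤ π.ker := hUS.trans Sq_le
  set F := Sq π with hF
  have hcomm : ∀ a ∈ π.ker, ∀ b ∈ π.ker, q a * q b = q b * q a := fun a ha b hb =>
    hS.comm _ (by rw [ker_quot]; exact ⟨a, ha, rfl⟩) _ (by rw [ker_quot]; exact ⟨b, hb, rfl⟩)
  have hFq : Nat.card (F.map q) = 2 := by
    rw [hF, ← Sq_quot U hUk, hS.Sq_eq, Nat.card_zpowers, ← pow_two, orderOf_pow, hS.order]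
    norm_num
  have hF16 : Nat.card F = 16 := by rw [card_map_quot U (hF ▸ hUS), hFq, hU.card]
  have hk256 : Nat.card π.ker = 256 := by
    rw [card_ker_quot (π := π) U hUk, hS.card, hU.card]; norm_num
  obtain ⟨c, hc, hc1, hcall⟩ := GenA.SectionalRankFour.exists_gen hFq
  have hclass : ∀ f ∈ F, f ∈ U ∨ q f = c := fun f hf => by
    rcases hcall _ ⟨f, hf, rfl⟩ with h | h
    · exact Or.inl ((QuotientGroup.eq_one_iff f).1 h)
    · exact Or.inr h
  -- a fixed element above
  obtain ⟨y, hy, hy7⟩ := exists_seven hD.surj hD.pgroup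
  haveI : Fact (Nat.Prime 7) := ⟨by norm_num⟩
  have hFy := hU.toFpf hy hy7
  have hmod := RankFourA5.card_modEq (q := 7) hy7 F fun f hf => (Sq_normal (π := π)).conj_mem f hf y
  rw [hF16] at hmod
  obtain ⟨s, hs, hs1⟩ : ∃ s ∈ F ⊓ centralizer {y}, s ≠ 1 := by
    by_contra hcon
    push Not at hcon
    rw [show F ⊓ centralizer {y} = ⊥ from eq_bot_iff.2 fun x hx => mem_bot.2 (hcon x hx), card_bot] at hmod
    unfold Nat.ModEq at hmod
    omega
  have hsy : y * s = s * y := (mem_centralizer_singleton_iff.1 hs.2).symm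
  have hsU : s ∉ U := fun h => hs1 (hFy.free s h hsy)
  have hqs : q s = c := (hclass s hs.1).resolve_left hsU
  have hs2 : s * s = 1 := by
    refine hFy.free _ ((QuotientGroup.eq_one_iff _).1 ?_) ((show Commute y s from hsy).mul_right hsy).eq
    show q (s * s) = 1
    rcases hclass _ (mul_mem hs.1 hs.1) with h | h
    · exact (QuotientGroup.eq_one_iff _).2 h
    · rw [map_mul, hqs, mul_eq_left] at h; exact absurd h hc1
  have hFsq : ∀ f ∈ F, f * f = 1 := by
    intro f hf
    rcases hclass f hf with h | h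
    · exact hU.sq f h
    · have hm : s⁻¹ * f ∈ U := QuotientGroup.eq.1 (hqs.trans h.symm)
      have hcm : Commute (s⁻¹ * f) s := (hcen _ (hUS hm) s (Sq_le hs.1)).symm
      calc f * f = s * ((s⁻¹ * f) * s) * (s⁻¹ * f) := by group
        _ = (s * s) * ((s⁻¹ * f) * (s⁻¹ * f)) := by rw [hcm.eq]; group
        _ = 1 := by rw [hs2, hU.sq _ hm, mul_one]
  -- the subgroup of index two
  let P1 : Subgroup X :=
    { carrier := {p | p ∈ π.ker ∧ p * p ∈ U}
      one_mem' := ⟨one_mem _, by simp⟩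
      mul_mem' := fun {a b} ha hb => ⟨mul_mem ha.1 hb.1, by
        refine (QuotientGroup.eq_one_iff _).1 ?_
        show q (a * b * (a * b)) = 1
        rw [map_mul, map_mul, (show Commute (q b) (q a) from hcomm b hb.1 a ha.1).mul_mul_mul_comm, ← map_mul,
          ← map_mul q b, show q (a * a) = 1 from (QuotientGroup.eq_one_iff _).2 ha.2,
          show q (b * b) = 1 from (QuotientGroup.eq_one_iff _).2 hb.2, one_mul]⟩
      inv_mem' := fun {a} ha => ⟨inv_mem ha.1, by rw [← mul_inv_rev]; exact inv_mem ha.2⟩ }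
  haveI : P1.Normal := ⟨fun p hp g => ⟨(MonoidHom.normal_ker π).conj_mem p hp.1 g, by
    rw [conj_mul]; exact ‹U.Normal›.conj_mem _ hp.2 g⟩⟩
  have hle : P1 ≤ π.ker := fun p hp => hp.1
  obtain ⟨a, ha, ha2⟩ : ∃ a ∈ π.ker, a * a ∉ U := by
    by_contra hcon
    push Not at hcon
    exact hsU ((closure_le U).2 (by rintro _ ⟨p, hp, rfl⟩; exact hcon p hp) hs.1)
  have h2 : Nat.card π.ker = 2 * Nat.card P1 := by
    have hidx : (P1.subgroupOf π.ker).index = 2 := by
      rw [Subgroup.index_eq_two_iff]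
      refine ⟨⟨a, ha⟩, fun ⟨b, hb⟩ => ?_⟩
      simp only [mem_subgroupOf, coe_mul]
      have hqa : q (a * a) = c := (hclass _ (sq_mem_Sq ha)).resolve_left ha2
      by_cases hb2 : b * b ∈ U
      · refine Or.inr ⟨⟨hb, hb2⟩, fun h => ha2 ?_⟩
        have := (P1.mul_mem (P1.inv_mem ⟨hb, hb2⟩) h).2
        rwa [inv_mul_cancel_left] at this
      · refine Or.inl ⟨⟨mul_mem hb ha, (QuotientGroup.eq_one_iff _).1 ?_⟩, fun h => hb2 h.2⟩
        show q (b * a * (b * a)) = 1
        have hqb : q (b * b) = c := (hclass _ (sq_mem_Sq hb)).resolve_left hb2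
        rw [map_mul, map_mul, (show Commute (q a) (q b) from hcomm a ha b hb).mul_mul_mul_comm, ← map_mul,
          ← map_mul q a, hqb, hqa]
        rcases hcall _ (mul_mem hc hc) with h | h
        · exact h
        · exact absurd (mul_eq_left.1 h) hc1
    have h := (P1.subgroupOf π.ker).card_mul_index
    rw [Nat.card_congr (subgroupOfEquivOfLe hle).toEquiv, hidx] at h
    omega
  obtain ⟨R, hR⟩ := hD.surj (root true 0)
  have hout := index_two_cases hD P1 hle h2 IH (by omega) R true 0 hR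
  have hRk : R ^ 4 ∈ π.ker := by rw [MonoidHom.mem_ker, map_pow, hR, root_four]
  obtain ⟨t1, ht1, ht1U, ht1c⟩ := coset_central (π := π) hD.surj (V := F) (W := U)
    (fun a ha b hb => hcen b hb a (Sq_le ha)) hFsq hF16
    (fun k hk v hv => hcen v hv k hk) hy hFy hUS (R := R) (x := R ^ 4 * R ^ 4) (by rw [hR, root_four])
    (by rw [hR]; exact fun h => root_sq_ne true 0 (by rw [h, one_pow])) (sq_mem_Sq hRk)
    (fun h => hout ⟨hRk, h⟩) (((Commute.self_pow R 4).mul_right (Commute.self_pow R 4)).eq)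
  refine no_central_involution hD IH (Sq_le ht1) (fun h => ht1U (h ▸ one_mem U)) (hFsq t1 ht1) ht1c
    (fun z hz hz7 => ?_) (by omega)
  obtain ⟨p, hp, hpn⟩ := hD.moved hz hz7
  exact ⟨p, hp, fun h => hpn (zpowers_le.2 ht1 h)⟩

end Cfsg.Agent.GroupStructure3.RankFourL32
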